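import Cfsg.Agent.Mrg.Omega.NO3S.Act.Dich


/-!
# GammaFF (S5): chambers and the groups `B_F` (helper75 #22081 (P), (1), (2))

* `Fv.conj` : the frame for `F^m`, `m ∈ M`; `BB_conj`, `B1_conj`, `DB_conj`, `BBB_conj`;
* `Fv.commL` : `L^(x m)`, `L^m'` commute if each lies in the chamber of the other;
* `Fv.bh_of` : `BH V F (BL Δ)`; `Fv.sq_BL`;
* `Fv.bh` : `BH V F (BB ..)`; `Fv.BL_le_cent` : `BL Δ ≤ S^m'` centralises `L^m'`, if `L^(x m') ≤ S^m` for `m ∈ Δ`;
* `Fv.not_le_EE` : `BB ≤ S` moves `L` ⟹ `L ≰ E`; `Fv.exists_chamber` : some chamber.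
-/

set_option autoImplicit false
set_option linter.unusedSectionVars false

namespace Cfsg.Agent.Omega.NO3S.SFive

open Subgroup Cfsg Cfsg.Agent.ZN Cfsg.Agent.Omega.MinPar Cfsg.Agent.Omega.Frame Cfsg.Agent.Omega.FrameNOFF
open Cfsg.Agent.Omega.NoFF.Basic (conj_conj mem_conj conj_le_iff comm_symm comm_mono)
open Cfsg.Agent.Omega.NOne.Flat (EE NN BadX WW_conj EE_conj NN_conj conj_centralizer o2_conj)
open Cfsg.Agent.Omega.FFThm (ElemM OffM NoOverM ConclM)
open Cfsg.Agent.Omega.NOThreeL.Low.Key (BH)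
open scoped Pointwise

universe u

variable {G : Type u} [Group G]

/-! ### Conjugation -/

theorem conj_le_conj_iff {g h : G} {A B : Subgroup G} :
    MulAut.conj g • A ≤ MulAut.conj h • B ↔ MulAut.conj (h⁻¹ * g) • A ≤ B := by
  rw [← conj_le_iff (g := h⁻¹), conj_conj, conj_conj, inv_mul_cancel, map_one, one_smul]

theorem conj_one (A : Subgroup G) : MulAut.conj (1 : G) • A = A := by rw [map_one, one_smul]

theorem norm_conj_iff {g : G} {A B : Subgroup G} :
    MulAut.conj g • A ≤ normalizer ((MulAut.conj g • B : Subgroup G) : Set G) ↔ A ≤ normalizer (B : Set G) := by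
  have key : ∀ (g : G) (A B : Subgroup G), A ≤ normalizer (B : Set G) →
      MulAut.conj g • A ≤ normalizer ((MulAut.conj g • B : Subgroup G) : Set G) := by
    intro g A B h x hx
    have h1 := h (mem_conj.1 hx)
    rw [mem_normalizer_iff] at h1 ⊢
    intro y
    rw [mem_conj, mem_conj, h1 (g⁻¹ * y * g)]
    have e : g⁻¹ * x * g * (g⁻¹ * y * g) * (g⁻¹ * x * g)⁻¹ = g⁻¹ * (x * y * x⁻¹) * g := by group
    rw [e]
  refine ⟨fun h => ?_, key g A B⟩
  have h1 := key g⁻¹ _ _ h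
  rwa [conj_conj, conj_conj, inv_mul_cancel, conj_one, conj_one] at h1

theorem cent_conj_iff {g : G} {A B : Subgroup G} :
    MulAut.conj g • A ≤ centralizer ((MulAut.conj g • B : Subgroup G) : Set G) ↔ A ≤ centralizer (B : Set G) := by
  rw [← conj_centralizer, conj_le_iff]

theorem cent_conj_left {g : G} {A B : Subgroup G} :
    MulAut.conj g • A ≤ centralizer (B : Set G) ↔ A ≤ centralizer ((MulAut.conj g⁻¹ • B : Subgroup G) : Set G) := by
  rw [← cent_conj_iff (g := g⁻¹), conj_conj, inv_mul_cancel, conj_one]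

variable [Finite G] {S : Sylow 2 G} {P V M F : Subgroup G}

/-! ### The groups `BL` -/

theorem F_le_BL {Δ : Set G} : F ≤ BL S P F Δ := le_sup_left

theorem le_BL {Δ : Set G} {m x : G} (hm : m ∈ Δ) (hx : x ∈ centralizer (F : Set G)) :
    MulAut.conj (x * m) • zl (S : Subgroup G) P ≤ BL S P F Δ :=
  (le_iSup₂_of_le (f := fun x (_ : x ∈ centralizer (F : Set G)) =>
    MulAut.conj (x * m) • zl (S : Subgroup G) P) x hx le_rfl).trans
    ((le_iSup₂_of_le (f := fun m (_ : m ∈ Δ) => ⨆ x ∈ centralizer (F : Set G),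
      MulAut.conj (x * m) • zl (S : Subgroup G) P) m hm le_rfl).trans le_sup_right)

theorem le_BL' {Δ : Set G} {m : G} (hm : m ∈ Δ) : MulAut.conj m • zl (S : Subgroup G) P ≤ BL S P F Δ := by
  have := le_BL (S := S) (P := P) (F := F) hm (one_mem _)
  rwa [one_mul] at this

theorem BL_le {Δ : Set G} {A : Subgroup G} (hF : F ≤ A)
    (h : ∀ m ∈ Δ, ∀ x ∈ centralizer (F : Set G), MulAut.conj (x * m) • zl (S : Subgroup G) P ≤ A) :
    BL S P F Δ ≤ A := sup_le hF (iSup₂_le fun m hm => iSup₂_le fun x hx => h m hm x hx)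

theorem BL_mono {Δ Δ' : Set G} (h : Δ ⊆ Δ') : BL S P F Δ ≤ BL S P F Δ' :=
  BL_le F_le_BL fun _ hm _ hx => le_BL (h hm) hx

theorem mem_cent_conj {g x : G} (hx : x ∈ centralizer (F : Set G)) :
    g * x * g⁻¹ ∈ centralizer ((MulAut.conj g • F : Subgroup G) : Set G) := by
  rw [← conj_centralizer, mem_conj]
  have e : g⁻¹ * (g * x * g⁻¹) * g = x := by group
  rwa [e]

theorem BL_conj {Δ Δ' : Set G} {g : G} (h : ∀ m, g * m ∈ Δ' ↔ m ∈ Δ) :
    BL S P (MulAut.conj g • F) Δ' = MulAut.conj g • BL S P F Δ := by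
  have key : ∀ (g : G) (F : Subgroup G) (Δ Δ' : Set G), (∀ m, m ∈ Δ → g * m ∈ Δ') →
      MulAut.conj g • BL S P F Δ ≤ BL S P (MulAut.conj g • F) Δ' := by
    intro g F Δ Δ' h
    have h1 : BL S P F Δ ≤ MulAut.conj g⁻¹ • BL S P (MulAut.conj g • F) Δ' := by
      refine BL_le ?_ fun m hm x hx => ?_
      · have := (conj_le_iff (g := g⁻¹)).2 (F_le_BL (S := S) (P := P) (F := MulAut.conj g • F) (Δ := Δ'))
        rwa [conj_conj, inv_mul_cancel, conj_one] at this
      · have h2 := (conj_le_iff (g := g⁻¹)).2 (le_BL (S := S) (P := P) (h m hm) (mem_cent_conj (g := g) hx))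
        rw [conj_conj] at h2
        have e : g⁻¹ * (g * x * g⁻¹ * (g * m)) = x * m := by group
        rwa [e] at h2
    have h2 := (conj_le_iff (g := g)).2 h1
    rwa [conj_conj, mul_inv_cancel, conj_one] at h2
  refine le_antisymm ?_ (key g F Δ Δ' fun m hm => (h m).2 hm)
  have h1 := key g⁻¹ (MulAut.conj g • F) Δ' Δ fun m hm => (h _).1 (by rwa [mul_inv_cancel_left])
  rw [conj_conj, inv_mul_cancel, conj_one] at h1
  have h2 := (conj_le_iff (g := g)).2 h1
  rwa [conj_conj, mul_inv_cancel, conj_one] at h2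

theorem X_norm_BL {Δ : Set G} : centralizer (F : Set G) ≤ normalizer (BL S P F Δ : Set G) := by
  have key : ∀ x ∈ centralizer (F : Set G), MulAut.conj x • BL S P F Δ ≤ BL S P F Δ := by
    intro x hx
    have h1 : BL S P F Δ ≤ MulAut.conj x⁻¹ • BL S P F Δ := by
      refine BL_le ?_ fun m hm y hy => ?_
      · have h2 := (conj_le_iff (g := x⁻¹)).2 (F_le_BL (S := S) (P := P) (F := F) (Δ := Δ))
        rwa [NOne.Flat.conj_eq_of_cent (inv_mem hx)] at h2
      · have h2 := (conj_le_iff (g := x⁻¹)).2 (le_BL (S := S) (P := P) hm (mul_mem hx hy))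
        rw [conj_conj] at h2
        have e : x⁻¹ * (x * y * m) = y * m := by group
        rwa [e] at h2
    have h2 := (conj_le_iff (g := x)).2 h1
    rwa [conj_conj, mul_inv_cancel, conj_one] at h2
  intro x hx
  rw [mem_normalizer_iff]
  intro b
  constructor
  · intro hb
    refine key x hx ?_
    rw [mem_conj]
    have e : x⁻¹ * (x * b * x⁻¹) * x = b := by group
    rwa [e]
  · intro hb
    have h1 := key x⁻¹ (inv_mem hx)
    refine h1 ?_
    rw [mem_conj, inv_inv]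
    exact hb

namespace Fv

variable (h : Fv S P V M F)
include h

theorem SP : (S : Subgroup G) ≤ P := h.par.le

theorem PL : P ≤ normalizer (zl (S : Subgroup G) P : Set G) := MinSimple.VModule.le_normalizer_zl _ _

theorem SL : (S : Subgroup G) ≤ normalizer (zl (S : Subgroup G) P : Set G) := h.SP.trans h.PL

theorem SM : (S : Subgroup G) ≤ M := h.SP.trans h.PM

theorem LS : zl (S : Subgroup G) P ≤ (S : Subgroup G) := h.LV.trans h.VS

theorem conj_V {m : G} (hm : m ∈ M) : MulAut.conj m • V = V := NOne.Flat.conj_eq_of_norm (h.MV hm)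

theorem conjLV {m : G} (hm : m ∈ M) : MulAut.conj m • zl (S : Subgroup G) P ≤ V := by
  have h1 := (conj_le_iff (g := m)).2 h.LV
  rwa [h.conj_V hm] at h1

theorem VM : V ≤ M := h.VS.trans h.SM

theorem WM : NOne.Flat.WW V F ≤ M := NOne.Flat.Hyp.W_le_R.trans h.RM

theorem W2 : IsPGroup 2 (NOne.Flat.WW V F) := (isPGroup_o2 _).to_le NOne.Flat.Hyp.W_le_R

/-- **The frame for `F^m`.** -/
theorem conj {m : G} (hm : m ∈ M) : Fv S P V M (MulAut.conj m • F) where
  toHyp := h.toHyp.conj (h.MV hm)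
  ct := h.ct
  par := h.par
  cvb := h.cvb
  concl := h.concl
  noOver := h.noOver
  LV := h.LV
  VS := h.VS
  ne := h.ne
  t6 := h.t6
  PM := h.PM
  MV := h.MV
  RM := by
    rw [← conj_centralizer, ← o2_conj]
    have h1 := (conj_le_iff (g := m)).2 h.RM
    rwa [Subgroup.conj_smul_eq_self_of_mem hm] at h1
  good := by
    intro m' hm' hW
    rw [← WW_conj (h.MV hm), conj_le_conj_iff] at hW
    have h1 : NOne.Flat.WW V F ≤ MulAut.conj (m⁻¹ * m') • (S : Subgroup G) := by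
      have h2 := (conj_le_iff (g := m⁻¹ * m')).2 hW
      rw [conj_conj] at h2
      have e : m⁻¹ * m' * (m'⁻¹ * m) = 1 := by group
      rwa [e, conj_one] at h2
    have h2 := h.good (m⁻¹ * m') (mul_mem (inv_mem hm) hm') h1
    have h3 := (conj_le_iff (g := m)).2 h2
    rwa [conj_conj, mul_inv_cancel_left, EE_conj (h.MV hm)] at h3
  noffL := h.noffL
  prin := h.prin
  noOff := h.noOff

/-- `L^(x m)`, `L^m'` commute if each lies in the chamber of the other. -/
theorem commL {m m' x : G} (h1 : MulAut.conj (x * m) • zl (S : Subgroup G) P ≤ MulAut.conj m' • (S : Subgroup G))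
    (h2 : MulAut.conj (x⁻¹ * m') • zl (S : Subgroup G) P ≤ MulAut.conj m • (S : Subgroup G)) :
    MulAut.conj (x * m) • zl (S : Subgroup G) P ≤
      centralizer ((MulAut.conj m' • zl (S : Subgroup G) P : Subgroup G) : Set G) := by
  have e : x * m = m' * (m'⁻¹ * x * m) := by group
  rw [e, ← conj_conj, cent_conj_iff]
  refine h.noffL _ ?_ ?_
  · rw [conj_le_conj_iff] at h2
    have h3 := h2.trans h.SL
    have e2 : m⁻¹ * (x⁻¹ * m') = (m'⁻¹ * x * m)⁻¹ := by group
    rw [e2] at h3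
    have h4 := (norm_conj_iff (g := m'⁻¹ * x * m)).2 h3
    rwa [conj_conj, mul_inv_cancel, conj_one] at h4
  · rw [conj_le_conj_iff] at h1
    have e2 : m'⁻¹ * (x * m) = m'⁻¹ * x * m := by group
    rw [e2] at h1
    exact h1.trans h.SL

/-- `L^(x m) ≤ W` for good `m` -/
theorem conjxL_le_W {m x : G} (hx : x ∈ centralizer (F : Set G))
    (hm : MulAut.conj m • zl (S : Subgroup G) P ≤ EE V F) : MulAut.conj (x * m) • zl (S : Subgroup G) P ≤ NOne.Flat.WW V F := by
  rw [← conj_conj]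
  exact ((conj_le_iff (g := x)).2 hm).trans (NOne.Flat.Hyp.conjE_le_W hx)

theorem BL_le_W {Δ : Set G} (hg : ∀ m ∈ Δ, MulAut.conj m • zl (S : Subgroup G) P ≤ EE V F) :
    BL S P F Δ ≤ NOne.Flat.WW V F :=
  BL_le (h.toHyp.F_le_E.trans NOne.Flat.Hyp.E_le_W) fun _ hm _ hx => h.conjxL_le_W hx (hg _ hm)

/-- **(C1)** -/
theorem bh_of {Δ : Set G} (hg : ∀ m ∈ Δ, MulAut.conj m • zl (S : Subgroup G) P ≤ EE V F)
    (hc : ∀ m ∈ Δ, ∀ m' ∈ Δ, ∀ x ∈ centralizer (F : Set G), MulAut.conj (x * m) • zl (S : Subgroup G) P ≤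
      centralizer ((MulAut.conj m' • zl (S : Subgroup G) P : Subgroup G) : Set G)) : BH V F (BL S P F Δ) where
  toHyp := h.toHyp
  le_W := h.BL_le_W hg
  F_le := F_le_BL
  norm := X_norm_BL
  abel := by
    have hFc : ∀ A : Subgroup G, A ≤ centralizer (F : Set G) → F ≤ centralizer (A : Set G) :=
      fun A hA => le_centralizer_iff.1 hA
    have hX : ∀ m ∈ Δ, ∀ x ∈ centralizer (F : Set G), MulAut.conj (x * m) • zl (S : Subgroup G) P ≤
        centralizer (F : Set G) := fun m hm x hx => (h.conjxL_le_W hx (hg m hm)).trans NOne.Flat.Hyp.W_le_X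
    refine BL_le ?_ fun m hm x hx => ?_
    · exact hFc _ ((h.BL_le_W hg).trans NOne.Flat.Hyp.W_le_X)
    · rw [le_centralizer_iff]
      refine BL_le (hFc _ (hX m hm x hx)) fun m' hm' x' hx' => ?_
      have h1 := hc m' hm' m hm (x⁻¹ * x') (mul_mem (inv_mem hx) hx')
      have h2 := (cent_conj_iff (g := x)).2 h1
      rw [conj_conj, conj_conj] at h2
      have e : x * (x⁻¹ * x' * m') = x' * m' := by group
      rwa [e] at h2

theorem sq_V {v : G} (hv : v ∈ V) : v ^ 2 = 1 := h.toHyp.sq v hv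

/-- squares -/
theorem sq_BL {Δ : Set G} (hΔ : Δ ⊆ (M : Set G))
    (hab : BL S P F Δ ≤ centralizer (BL S P F Δ : Set G)) : ∀ b ∈ BL S P F Δ, b ^ 2 = 1 := by
  have hL : ∀ m ∈ Δ, ∀ x ∈ centralizer (F : Set G), ∀ y ∈ MulAut.conj (x * m) • zl (S : Subgroup G) P,
      y ^ 2 = 1 := by
    intro m hm x hx y hy
    rw [← conj_conj, mem_conj] at hy
    have h1 := h.sq_V (h.conjLV (hΔ hm) hy)
    have e : (x⁻¹ * y * x) ^ 2 = x⁻¹ * y ^ 2 * x := by rw [pow_two, pow_two]; group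
    rw [e] at h1
    have h2 : y ^ 2 = x * (x⁻¹ * y ^ 2 * x) * x⁻¹ := by group
    rw [h2, h1]; group
  -- the subgroup of elements of order `≤ 2` of `B`
  let A : Subgroup G :=
    { carrier := {y | y ∈ BL S P F Δ ∧ y ^ 2 = 1}
      mul_mem' := by
        rintro a b ⟨ha, ha2⟩ ⟨hb, hb2⟩
        refine ⟨mul_mem ha hb, ?_⟩
        have h1 : b * a = a * b := mem_centralizer_iff.1 (hab ha) b hb
        calc (a * b) ^ 2 = a * (b * a) * b := by rw [pow_two]; group
          _ = a * (a * b) * b := by rw [h1]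
          _ = a ^ 2 * b ^ 2 := by rw [pow_two, pow_two]; group
          _ = 1 := by rw [ha2, hb2, one_mul]
      one_mem' := ⟨one_mem _, one_pow _⟩
      inv_mem' := by
        rintro a ⟨ha, ha2⟩
        exact ⟨inv_mem ha, by rw [inv_pow, ha2, inv_one]⟩ }
  have hA : BL S P F Δ ≤ A :=
    BL_le (fun f hf => ⟨F_le_BL hf, h.sq_V (h.toHyp.F_le_V hf)⟩)
      fun m hm x hx y hy => ⟨le_BL hm hx hy, hL m hm x hx y hy⟩
  exact fun b hb => (hA hb).2

theorem cent_BL {Δ : Set G} {A : Subgroup G} (hF : A ≤ centralizer (F : Set G))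
    (hc : ∀ m ∈ Δ, ∀ x ∈ centralizer (F : Set G),
      MulAut.conj (x * m) • zl (S : Subgroup G) P ≤ centralizer (A : Set G)) : BL S P F Δ ≤ centralizer (A : Set G) :=
  BL_le (le_centralizer_iff.1 hF) hc

/-- `BL Δ ≤ S^m'` centralises `L^m'`, if `L^(x m') ≤ S^m` for `m ∈ Δ`. -/
theorem BL_le_cent {Δ : Set G} {m' : G} (hm' : m' ∈ M) (hB : BL S P F Δ ≤ MulAut.conj m' • (S : Subgroup G))
    (hc : ∀ m ∈ Δ, ∀ x ∈ centralizer (F : Set G),
      MulAut.conj (x * m') • zl (S : Subgroup G) P ≤ MulAut.conj m • (S : Subgroup G)) :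
    BL S P F Δ ≤ centralizer ((MulAut.conj m' • zl (S : Subgroup G) P : Subgroup G) : Set G) := by
  refine h.cent_BL ?_ fun m hm x hx => h.commL ((le_BL hm hx).trans hB) (hc m hm _ (inv_mem hx))
  exact comm_mono h.toHyp.comm (h.conjLV hm') h.toHyp.F_le_V

/-! ### `B_F` -/

theorem DW_sub : DW S V M F ⊆ (M : Set G) := fun _ hm => hm.1

theorem good_DW {m : G} (hm : m ∈ DW S V M F) : MulAut.conj m • zl (S : Subgroup G) P ≤ EE V F :=
  h.good m hm.1 hm.2

/-- lines of the chambers over `W` commute -/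
theorem comm_DW {m m' x : G} (hm : m ∈ DW S V M F) (hm' : m' ∈ DW S V M F) (hx : x ∈ centralizer (F : Set G)) :
    MulAut.conj (x * m) • zl (S : Subgroup G) P ≤
      centralizer ((MulAut.conj m' • zl (S : Subgroup G) P : Subgroup G) : Set G) :=
  h.commL ((h.conjxL_le_W hx (h.good_DW hm)).trans hm'.2)
    ((h.conjxL_le_W (inv_mem hx) (h.good_DW hm')).trans hm.2)

/-- **(1)** -/
theorem bh : BH V F (BB S P V M F) :=
  h.bh_of (fun _ hm => h.good_DW hm) fun _ hm _ hm' _ hx => h.comm_DW hm hm' hx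

theorem sq_BB : ∀ b ∈ BB S P V M F, b ^ 2 = 1 := h.sq_BL h.DW_sub h.bh.abel

theorem mem_DW_conj {g m : G} (hg : g ∈ M) : g * m ∈ DW S V M (MulAut.conj g • F) ↔ m ∈ DW S V M F := by
  unfold DW
  rw [Set.mem_ofPred_eq, Set.mem_ofPred_eq, ← WW_conj (h.MV hg), ← conj_conj, conj_le_iff, Subgroup.mul_mem_cancel_left M hg]

theorem BB_conj {g : G} (hg : g ∈ M) : BB S P V M (MulAut.conj g • F) = MulAut.conj g • BB S P V M F :=
  BL_conj fun _ => h.mem_DW_conj hg

theorem B1_conj {g : G} (hg : g ∈ M) : B1 S P V M (MulAut.conj g • F) = MulAut.conj g • B1 S P V M F := by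
  rw [B1, B1, h.BB_conj hg, Subgroup.smul_inf, ← WW_conj (h.MV hg), conj_centralizer, Subgroup.smul_inf, h.conj_V hg]

theorem mem_DB_conj {g m : G} (hg : g ∈ M) : g * m ∈ DB S P V M (MulAut.conj g • F) ↔ m ∈ DB S P V M F := by
  unfold DB
  rw [Set.mem_ofPred_eq, Set.mem_ofPred_eq, h.B1_conj hg, ← conj_conj, conj_le_iff, Subgroup.mul_mem_cancel_left M hg,
    ← conj_conj, ← EE_conj (h.MV hg), conj_le_iff]

theorem BBB_conj {g : G} (hg : g ∈ M) : BBB S P V M (MulAut.conj g • F) = MulAut.conj g • BBB S P V M F :=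
  BL_conj fun _ => h.mem_DB_conj hg

/-- an active chamber: `F < V ∩ B` -/
theorem not_le_F (ha : ∃ m ∈ DW S V M F, ¬ MulAut.conj m • zl (S : Subgroup G) P ≤ F) {Δ : Set G}
    (hΔ : DW S V M F ⊆ Δ) : ¬ V ⊓ BL S P F Δ ≤ F := by
  obtain ⟨m, hm, hmF⟩ := ha
  exact fun h1 => hmF ((le_inf (h.conjLV hm.1) (le_BL' (hΔ hm))).trans h1)

theorem not_cent_V {B : Subgroup G} (bh : BH V F B) (hI : ¬ V ⊓ B ≤ F) : ¬ B ≤ centralizer (V : Set G) := by
  intro h1
  obtain ⟨b, hb, hbN⟩ := bh.exists_not_mem_NN hI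
  exact hbN ⟨bh.le_W hb, centralizer_le (inf_le_left : EE V F ≤ V) (h1 hb)⟩

/-- **(2)** `BB ≤ S` moves `L` ⟹ `L ≰ E` -/
theorem not_le_EE (hBS : BB S P V M F ≤ (S : Subgroup G))
    (hm : ¬ BB S P V M F ≤ centralizer (zl (S : Subgroup G) P : Set G)) : ¬ zl (S : Subgroup G) P ≤ EE V F := by
  intro hE
  apply hm
  have h1 := h.BL_le_cent (Δ := DW S V M F) (m' := 1) (one_mem _) (by rw [conj_one]; exact hBS) ?_
  · rwa [conj_one] at h1
  · intro m hm x hx
    exact (h.conjxL_le_W hx (by rw [conj_one]; exact hE)).trans hm.2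

/-- **(P)** for a subgroup of `W` which moves `V` -/
theorem exists_chamber {A : Subgroup G} (hA : A ≤ NOne.Flat.WW V F) (hAV : ¬ A ≤ centralizer (V : Set G)) :
    ∃ m ∈ M, MulAut.conj m • A ≤ (S : Subgroup G) ∧
      ¬ MulAut.conj m • A ≤ centralizer (zl (S : Subgroup G) P : Set G) :=
  h.prin A (hA.trans h.WM) (h.W2.to_le hA) hAV

/-- **(2)**: a chamber at which `B` moves the bad line `L` -/
theorem exists_bad (ha : ∃ m ∈ DW S V M F, ¬ MulAut.conj m • zl (S : Subgroup G) P ≤ F) :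
    ∃ m ∈ M, BB S P V M (MulAut.conj m • F) ≤ (S : Subgroup G) ∧
      ¬ BB S P V M (MulAut.conj m • F) ≤ centralizer (zl (S : Subgroup G) P : Set G) ∧
      ¬ zl (S : Subgroup G) P ≤ EE V (MulAut.conj m • F) := by
  obtain ⟨m, hm, h1, h2⟩ := h.exists_chamber h.bh.le_W (h.not_cent_V h.bh (h.not_le_F ha le_rfl))
  rw [← h.BB_conj hm] at h1 h2
  exact ⟨m, hm, h1, h2, (h.conj hm).not_le_EE h1 h2⟩

/-- the active chambers of `F^g` -/
theorem act_conj {g : G} (hg : g ∈ M) (ha : ∃ m ∈ DW S V M F, ¬ MulAut.conj m • zl (S : Subgroup G) P ≤ F) :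
    ∃ m ∈ DW S V M (MulAut.conj g • F), ¬ MulAut.conj m • zl (S : Subgroup G) P ≤ MulAut.conj g • F := by
  obtain ⟨m, hm, h1⟩ := ha
  refine ⟨g * m, (h.mem_DW_conj hg).2 hm, ?_⟩
  rwa [← conj_conj, conj_le_iff]

end Fv

end Cfsg.Agent.Omega.NO3S.SFive
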