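import Cfsg.Agent.Mrg.Omega.NO3S.SFive.WCPlug
import Cfsg.Agent.Mrg.Omega.NO3S.ActT.TLNat
import Cfsg.Agent.Mrg.Omega.NO3S.SFive.Out


/-!
# GammaFF (S5), (4) of helper75 #22081 (helper31 #23010)

`B = BB`, `I = V ∩ B`, `N = NN V F`; `GamO S P V F B` : the output of `Fv.gam` at a chamber `B ≤ S` with `L ≰ E`.

* `Fv.cent_WA` : `C_E(B)` centralises `W_w(I) = {s ∈ W | [w, s] ∈ I} = B N`;
* `Fv.perp` : `C_E(B) = I`;
* `Fv.relIndex_W` : `|W : C_W(I)| = |I : F|`; `Fv.relIndex_E` : `|E : I| = |I : F|`, `Fv.relIndex_EF` : `|E : F| = |I : F|²`;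
* **`Fv.four`** : `C_E(b) ≤ I` for all `b ∈ B - N`.
-/

set_option autoImplicit false
set_option linter.unusedSectionVars false

namespace Cfsg.Agent.Omega.NO3S.SFive

open Subgroup Cfsg Cfsg.Agent.ZN Cfsg.Agent.Omega.MinPar Cfsg.Agent.Omega.Frame Cfsg.Agent.Omega.FrameNOFF
open Cfsg.Agent.Omega.NOne.Flat (EE NN BadX Cos WA conj_eq_of_norm conj_centralizer WW_conj EE_conj conj_eq_of_cent
  card_mul_relIndex')
open Cfsg.Agent.Omega.NOne.NearFF (c c_def)
open Cfsg.Agent.Omega.NoFF.Basic (conj_conj mem_conj conj_le_iff conj_le_centralizer comm_symm comm_mono)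
open Cfsg.Agent.Omega.FFThm (ElemM OffM NoOverM ConclM relIndex_le_iff)
open Cfsg.Agent.Omega.NOThreeL.NF (MinOffM RP)
open Cfsg.Agent.Omega.NOThreeL.Low.Key (BH)
open scoped Pointwise commutatorElement

universe u

variable {G : Type u} [Group G] [Finite G]

/-- **The output of `Fv.gam`** at a chamber `B ≤ S` with a bad line `L`. -/
structure GamO (S P V F B : Subgroup G) : Prop where
  cent : zl S P ⊓ EE V F ≤ centralizer (B : Set G)
  min : MinOffM (zl S P) S B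
  dis : ⁅zl S P, B⁆ ⊓ F = ⊥
  idx : (EE V F).relIndex V ≤ (EE V F).relIndex (zl S P)
  card : F.relIndex (V ⊓ B) ≤ Nat.card ↥(⁅zl S P, B⁆ : Subgroup G)

variable {S : Sylow 2 G} {P V M F : Subgroup G}

/-- `C_E(B)` centralises `{s ∈ W | [w, s] ∈ I} = B N`. -/
theorem cent_WA {B : Subgroup G} (bh : BH V F B) {w : G} (hw : w ∈ V) (hwE : w ∉ EE V F) {e : G}
    (he : e ∈ EE V F) (heB : e ∈ centralizer (B : Set G)) : e ∈ centralizer (WA V F w (V ⊓ B) : Set G) := by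
  rw [mem_centralizer_iff]
  intro t ht
  obtain ⟨htW, htI⟩ := (bh.toHyp.mem_WA hw bh.F_le_I).1 ht
  obtain ⟨b, hb, h1⟩ := bh.surj hw hwE htI
  have hbt : b⁻¹ * t ∈ NN V F := by
    rw [bh.toHyp.c_iff hw (bh.le_W hb) htW] at h1
    exact (bh.toHyp.c_mem_F_iff hw hwE (mul_mem (inv_mem (bh.le_W hb)) htW)).1 h1
  have h2 : e * (b⁻¹ * t) = b⁻¹ * t * e := mem_centralizer_iff.1 hbt.2 e he
  have h3 : b * e = e * b := mem_centralizer_iff.1 heB b hb
  have e1 : t = b * (b⁻¹ * t) := by group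
  calc t * e = b * (b⁻¹ * t * e) := by group
    _ = b * (e * (b⁻¹ * t)) := by rw [h2]
    _ = b * e * (b⁻¹ * t) := by group
    _ = e * b * (b⁻¹ * t) := by rw [h3]
    _ = e * t := by group

namespace Fv

variable (h : Fv S P V M F)
include h

/-- `C_E(B) ≤ I` at a chamber with `B1 ≤ S`. -/
theorem perp_at (hBS : B1 (S : Sylow 2 G) P V M F ≤ (S : Subgroup G))
    (g : GamO (S : Subgroup G) P V F (BB S P V M F)) :
    EE V F ⊓ centralizer (BB S P V M F : Set G) ≤ BB S P V M F := by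
  obtain ⟨w, hwL, hwB, hw⟩ := tl h.ct h.par h.cvb h.concl g.min
  have hwV : w ∈ V := h.LV hwL
  have hwE : w ∉ EE V F := fun h1 => hwB (g.cent ⟨hwL, h1⟩)
  have hFI := h.bh.F_le_I
  have hLB : (⁅zl (S : Subgroup G) P, BB S P V M F⁆ : Subgroup G) ≤ V ⊓ BB S P V M F := by
    rw [commutator_le]
    intro l hl b hb
    exact h.bh.c_memI (h.LV hl) hb
  have key : ∀ s ∈ B1 S P V M F, c w s ∈ V ⊓ BB S P V M F := by
    intro s hs
    have h1 := hLB (hw s (hBS hs) (centralizer_le hLB hs.2))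
    have e1 : c w s = (s * w * s⁻¹ * w⁻¹)⁻¹ := by rw [c_def]; group
    rw [e1]
    exact inv_mem h1
  rintro e ⟨heE, heB⟩
  obtain ⟨s, hs, hse⟩ := h.toHyp.surj hwV hwE heE
  have h2 : c w s ∈ centralizer (WA V F w (V ⊓ BB S P V M F) : Set G) := by
    have e1 : c w s = c w s * e⁻¹ * e := by group
    rw [e1]
    refine mul_mem ?_ (cent_WA h.bh hwV hwE heE heB)
    rw [mem_centralizer_iff]
    intro t ht
    exact (NOne.Flat.Hyp.F_comm hse (NOne.Flat.Hyp.W_le_X (NOne.Flat.Hyp.WA_le_W ht))).symm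
  have h3 := (h.toHyp.cent_iff hwV hwE hFI h.bh.I_le_E hs).2 h2
  have h4 := key s ⟨hs, h3⟩
  have e1 : e = (c w s * e⁻¹)⁻¹ * c w s := by group
  rw [e1]
  exact mul_mem (inv_mem (F_le_BL hse)) h4.2

/-- **`C_E(B) = I`** -/
theorem perp (ha : ∃ m ∈ DW S V M F, ¬ MulAut.conj m • zl (S : Subgroup G) P ≤ F)
    (gam : ∀ m ∈ M, BB S P V M (MulAut.conj m • F) ≤ (S : Subgroup G) →
      ¬ zl (S : Subgroup G) P ≤ EE V (MulAut.conj m • F) →
      GamO (S : Subgroup G) P V (MulAut.conj m • F) (BB S P V M (MulAut.conj m • F))) :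
    EE V F ⊓ centralizer (BB S P V M F : Set G) ≤ V ⊓ BB S P V M F := by
  obtain ⟨m, hm, h1, h2, h3⟩ := h.three ha
  have h' := h.conj hm
  have h4 := h'.perp_at h1 (gam m hm (h'.BB_le_B1.trans h1) h3)
  rw [h.BB_conj hm, ← EE_conj (h.MV hm), ← conj_centralizer, ← Subgroup.smul_inf, conj_le_iff] at h4
  exact le_inf (inf_le_left.trans inf_le_left) h4

/-- `|I : F| ≤ q₀` -/
theorem exists_min (ha : ∃ m ∈ DW S V M F, ¬ MulAut.conj m • zl (S : Subgroup G) P ≤ F)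
    (gam : ∀ m ∈ M, BB S P V M (MulAut.conj m • F) ≤ (S : Subgroup G) →
      ¬ zl (S : Subgroup G) P ≤ EE V (MulAut.conj m • F) →
      GamO (S : Subgroup G) P V (MulAut.conj m • F) (BB S P V M (MulAut.conj m • F))) :
    ∃ Bm, MinOffM (zl (S : Subgroup G) P) (S : Subgroup G) Bm ∧
      F.relIndex (V ⊓ BB S P V M F) ≤ Nat.card ↥(⁅zl (S : Subgroup G) P, Bm⁆ : Subgroup G) ∧
      F.relIndex (V ⊓ BB S P V M F) ≤ (EE V F).relIndex V := by
  obtain ⟨m, hm, h1, h2, h3⟩ := h.exists_bad ha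
  have h' := h.conj hm
  have g := gam m hm h1 h3
  have hI : V ⊓ BB S P V M (MulAut.conj m • F) = MulAut.conj m • (V ⊓ BB S P V M F) := by
    rw [h.BB_conj hm, Subgroup.smul_inf, h.conj_V hm]
  have h4 := g.card
  rw [hI, relIndex_pointwise_smul] at h4
  refine ⟨_, g.min, h4, ?_⟩
  have h5 := (Pas.three h'.ct h'.par h'.tp h'.bh h'.sq_BB h1 h'.LV h3).trans
    (relIndex_le_of_le_right h'.LV index_ne_zero_of_finite)
  rw [hI, relIndex_pointwise_smul, ← EE_conj (h.MV hm)] at h5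
  have e3 : (MulAut.conj m • EE V F).relIndex V = (MulAut.conj m • EE V F).relIndex (MulAut.conj m • V) := by
    rw [h.conj_V hm]
  rwa [e3, relIndex_pointwise_smul] at h5

end Fv

/-! ### The chamber `S` is active -/

namespace Fv

variable (h : Fv S P V M F) (a : BetaFF.Act S P V F)
  (gam : ∀ m ∈ M, BB S P V M (MulAut.conj m • F) ≤ (S : Subgroup G) →
      ¬ zl (S : Subgroup G) P ≤ EE V (MulAut.conj m • F) →
      GamO (S : Subgroup G) P V (MulAut.conj m • F) (BB S P V M (MulAut.conj m • F)))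

include h in
theorem one_DW (hWS : NOne.Flat.WW V F ≤ (S : Subgroup G)) : (1 : G) ∈ DW S V M F :=
  ⟨one_mem _, by rwa [conj_one]⟩

include h in
theorem L_le_BB (hWS : NOne.Flat.WW V F ≤ (S : Subgroup G)) : zl (S : Subgroup G) P ≤ BB S P V M F := by
  have h1 := le_BL' (S := S) (P := P) (F := F) (h.one_DW hWS)
  rwa [conj_one] at h1

include a in
theorem not_L_le : ¬ zl (S : Subgroup G) P ≤ F := by
  intro h1
  apply a.mov
  exact NOne.Flat.Hyp.W_le_X.trans (centralizer_le h1)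

include h a in
theorem act_ex : ∃ m ∈ DW S V M F, ¬ MulAut.conj m • zl (S : Subgroup G) P ≤ F :=
  ⟨1, h.one_DW a.WS, by rw [conj_one]; exact not_L_le a⟩

include h a gam in
/-- `W` is a minimal offender, `|L : L ∩ F| = |W : C_W(L)| = |[L, W]| = |I : F|`. -/
theorem cards : MinOffM (zl (S : Subgroup G) P) (S : Subgroup G) (NOne.Flat.WW V F) ∧
    Nat.card ↥(⁅zl (S : Subgroup G) P, NOne.Flat.WW V F⁆ : Subgroup G) = F.relIndex (V ⊓ BB S P V M F) ∧
    (centralizer (zl (S : Subgroup G) P : Set G)).relIndex (NOne.Flat.WW V F) = F.relIndex (V ⊓ BB S P V M F) ∧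
    F.relIndex (zl (S : Subgroup G) P) = F.relIndex (V ⊓ BB S P V M F) := by
  obtain ⟨Bm, hBm, hq, -⟩ := h.exists_min (h.act_ex a) gam
  have rp := rp_of h.ct h.par h.cvb h.noOver h.concl
  have hLI : zl (S : Subgroup G) P ≤ V ⊓ BB S P V M F := le_inf h.LV (h.L_le_BB a.WS)
  obtain ⟨h1, h2⟩ := min_W a h.noOver rp hLI hBm hq
  have h3 := rp.card _ h1
  have h4 : (centralizer (zl (S : Subgroup G) P : Set G)).relIndex (NOne.Flat.WW V F) ≤
      F.relIndex (zl (S : Subgroup G) P) := by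
    have h5 := relIndex_le_iff.1 (h.noOver _ a.WP a.elemM)
    rwa [a.relIndex_F] at h5
  have h5 : F.relIndex (zl (S : Subgroup G) P) ≤ F.relIndex (V ⊓ BB S P V M F) :=
    relIndex_le_of_le_right hLI (rne _ _)
  exact ⟨h1, h2, by omega, by omega⟩

include h a gam in
/-- `I = L F` -/
theorem exists_mul {r : G} (hr : r ∈ V ⊓ BB S P V M F) : ∃ l ∈ zl (S : Subgroup G) P, l⁻¹ * r ∈ F := by
  have hLI : zl (S : Subgroup G) P ≤ V ⊓ BB S P V M F := le_inf h.LV (h.L_le_BB a.WS)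
  have hcos : Cos id (zl (S : Subgroup G) P) F (V ⊓ BB S P V M F) F := ⟨fun l hl => hLI hl, fun _ _ _ _ => Iff.rfl⟩
  exact hcos.surj (h.cards a gam).2.2.2.ge hr

include h a gam in
/-- `|W : C_W(I)| = |I : F|` -/
theorem relIndex_W : (centralizer ((V ⊓ BB S P V M F : Subgroup G) : Set G)).relIndex (NOne.Flat.WW V F) =
    F.relIndex (V ⊓ BB S P V M F) := by
  rw [← (h.cards a gam).2.2.1, ← inf_relIndex_right, ← inf_relIndex_right (centralizer (zl (S : Subgroup G) P : Set G))]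
  congr 1
  have hLI : zl (S : Subgroup G) P ≤ V ⊓ BB S P V M F := le_inf h.LV (h.L_le_BB a.WS)
  refine le_antisymm (inf_le_inf_right _ (centralizer_le hLI)) ?_
  rintro s ⟨hs, hsW⟩
  refine ⟨mem_centralizer_iff.2 fun r hr => ?_, hsW⟩
  obtain ⟨l, hl, h1⟩ := h.exists_mul a gam hr
  have h2 := mem_centralizer_iff.1 hs l hl
  have h3 : l⁻¹ * r * s = s * (l⁻¹ * r) := NOne.Flat.Hyp.F_comm h1 (NOne.Flat.Hyp.W_le_X hsW)
  calc r * s = l * (l⁻¹ * r * s) := by group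
    _ = l * (s * (l⁻¹ * r)) := by rw [h3]
    _ = l * s * (l⁻¹ * r) := by group
    _ = s * l * (l⁻¹ * r) := by rw [h2]
    _ = s * r := by group

include h a gam in
/-- `|E : C_E(B)| = |I : F|` -/
theorem relIndex_E : (centralizer (BB S P V M F : Set G)).relIndex (EE V F) = F.relIndex (V ⊓ BB S P V M F) := by
  obtain ⟨w, hw, hwE⟩ := h.toHyp.exists_not_mem
  rw [← h.relIndex_W a gam, ← h.toHyp.relIndex_cent_WA hw hwE h.bh.F_le_I h.bh.I_le_E, ← inf_relIndex_right,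
    ← inf_relIndex_right (centralizer (WA V F w (V ⊓ BB S P V M F) : Set G))]
  congr 1
  apply le_antisymm
  · rintro e ⟨heB, heE⟩
    exact ⟨cent_WA h.bh hw hwE heE heB, heE⟩
  · rintro e ⟨heW, heE⟩
    refine ⟨centralizer_le ?_ heW, heE⟩
    exact fun b hb => (h.toHyp.mem_WA hw h.bh.F_le_I).2 ⟨h.bh.le_W hb, h.bh.c_memI hw hb⟩

include h a gam in
/-- `|E : C_E(b)| = |I : F|` for `b ∈ B - N` -/
theorem relIndex_b {b : G} (hb : b ∈ BB S P V M F) (hbN : b ∉ NN V F) :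
    (centralizer ({b} : Set G)).relIndex (EE V F) = F.relIndex (V ⊓ BB S P V M F) := by
  obtain ⟨hmin, hcard, -, -⟩ := h.cards a gam
  obtain ⟨-, -, -, hkey⟩ := h.exists_min (h.act_ex a) gam
  have rp := rp_of h.ct h.par h.cvb h.noOver h.concl
  have hLI : zl (S : Subgroup G) P ≤ V ⊓ BB S P V M F := le_inf h.LV (h.L_le_BB a.WS)
  obtain ⟨r, hrL, hrF⟩ := SetLike.not_le_iff_exists.1 (not_L_le a)
  have hrc : r ∉ centralizer (NOne.Flat.WW V F : Set G) := by
    intro h1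
    apply hrF
    rw [← h.toHyp.cent_VW]
    exact ⟨h.LV hrL, h1⟩
  have hbW := h.bh.le_W hb
  rw [← hcard, ← relIndex_bot_left]
  have hcos : Cos (fun e => c e b) (EE V F) (centralizer ({b} : Set G))
      (⁅zl (S : Subgroup G) P, NOne.Flat.WW V F⁆ : Subgroup G) ⊥ := by
    refine ⟨fun e he => ?_, fun e he e' he' => ?_⟩
    · obtain ⟨s, hs, h1⟩ := (h.bh.root hkey (hLI hrL) hrF hb hbN (c e b)).2 ⟨e, he, rfl⟩
      rw [← h1]
      exact commutator_mem_commutator hrL hs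
    · rw [← h.toHyp.c_inv_left he.1 hbW, ← h.toHyp.c_mul_left (inv_mem he.1) he'.1 hbW, mem_bot,
        mem_centralizer_singleton_iff]
      exact ⟨fun h1 => (NOThreeL.Low.Key.comm_of_c h1), fun h1 => NOThreeL.Low.Key.c_eq_one' h1⟩
  refine hcos.eq_of_surj fun y hy => ?_
  obtain ⟨s, hs, h1⟩ := rp.surj _ hmin r hrL hrc y⁻¹ (inv_mem hy)
  obtain ⟨e, he, h2⟩ := (h.bh.root hkey (hLI hrL) hrF hb hbN y).1 ⟨s, hs, by
    have e1 : c r s = (s * r * s⁻¹ * r⁻¹)⁻¹ := by rw [c_def]; group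
    rw [e1, h1, inv_inv]⟩
  refine ⟨e, he, ?_⟩
  rw [h2, inv_mul_cancel]
  exact one_mem _

include h a gam in
/-- **(4)** `C_E(b) ≤ I` for `b ∈ B - N` -/
theorem four : ∀ b ∈ BB S P V M F, b ∉ NN V F → ∀ e ∈ EE V F, e * b = b * e → e ∈ BB S P V M F := by
  intro b hb hbN e he heb
  have h1 := h.relIndex_b a gam hb hbN
  rw [← h.relIndex_E a gam] at h1
  -- `C_E(B) = C_E(b)`
  have h2 : EE V F ⊓ centralizer (BB S P V M F : Set G) ≤ EE V F ⊓ centralizer ({b} : Set G) :=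
    inf_le_inf_left _ (centralizer_le (Set.singleton_subset_iff.2 hb))
  have e1 := card_mul_relIndex' (inf_le_left : EE V F ⊓ centralizer (BB S P V M F : Set G) ≤ EE V F)
  have e2 := card_mul_relIndex' (inf_le_left : EE V F ⊓ centralizer ({b} : Set G) ≤ EE V F)
  rw [inf_relIndex_left] at e1 e2
  rw [h1, ← e1] at e2
  have h3 := Nat.eq_of_mul_eq_mul_right (Nat.pos_of_ne_zero (rne _ _)) e2
  have h4 := Subgroup.eq_of_le_of_card_ge h2 h3.le
  have h5 : e ∈ EE V F ⊓ centralizer (BB S P V M F : Set G) := by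
    rw [h4]
    exact ⟨he, mem_centralizer_singleton_iff.2 heb⟩
  exact (h.perp (h.act_ex a) gam h5).2

include h a gam in
/-- `|E : F| = |I : F|²` -/
theorem relIndex_EF : F.relIndex (EE V F) = F.relIndex (V ⊓ BB S P V M F) * F.relIndex (V ⊓ BB S P V M F) := by
  have h1 := relIndex_mul_relIndex F (V ⊓ BB S P V M F) (EE V F) h.bh.F_le_I h.bh.I_le_E
  have h2 : V ⊓ BB S P V M F = EE V F ⊓ centralizer (BB S P V M F : Set G) :=
    le_antisymm (le_inf h.bh.I_le_E (inf_le_right.trans h.bh.abel)) (h.perp (h.act_ex a) gam)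
  have h3 : (V ⊓ BB S P V M F).relIndex (EE V F) = F.relIndex (V ⊓ BB S P V M F) := by
    rw [← h.relIndex_E a gam]
    conv_lhs => rw [h2]
    rw [inf_relIndex_left]
  rw [← h1, h3]

end Fv

end Cfsg.Agent.Omega.NO3S.SFive
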