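import Cfsg.Agent.Mrg.Omega.NO3b.EZeroBase
import Cfsg.Agent.Mrg.Omega.NOThreeL.VF.One
import Cfsg.Agent.Mrg.Omega.NOThreeL.Star
import Cfsg.Agent.Omega.NoFF.Basic

section


/-!
# GammaFF, (S5): LEMMA (PB) of helper422 #22571 (5)

`V` elementary abelian without offenders in `R` (`not_offM` : `V` not FF), `L ≤ V`, `R` acts on `V` with `[V, R] ≤ L` and contains subgroups `R_i` with
`[L, R_i] ≤ N_i ≤ L`, `R_i` irreducible on `N_i`, no fixed points of `⟨R_i⟩` on `L`:

* `cent_of` : `C_R(L)` centralises `V`;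
* **`pb`** : if moreover `C_V(R) = 1` and `Q` normalises `V` and `R` and centralises `L`, then `Q` centralises `V`;
* `fix_of` : `C_V(R) = 1` from `C_L(R) = 1`, `C_V(S) ≤ L`, `S` a 2-group normalising `V` and `R`;
* `pb_eq` : with `C_V(Q) ≤ L` : `V = L`.
-/

set_option autoImplicit false
set_option linter.unusedSectionVars false

namespace Cfsg.Agent.Omega.NO3S.SFive

open Subgroup Cfsg
open Cfsg.Agent.Omega.FFThm
open Cfsg.Agent.Omega.NO3b.EZero (NotFF)

universe u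

variable {G : Type u} [Group G]

/-- no offender in module form -/
theorem not_offM [Finite G] {V A : Subgroup G} (hn : NotFF V) (hA : A ≤ normalizer (V : Set G)) : ¬ OffM V A := by
  intro hoff
  obtain ⟨B, hBA, hB2, hB⟩ := NOThreeL.VF.exists_two hA hoff.toElemM
  have hne : ¬ B ≤ centralizer (V : Set G) := fun h1 => hoff.ne fun a ha => by
    obtain ⟨b, hb, hab⟩ := hB a ha
    have h2 := mul_mem (h1 hb) hab
    rwa [mul_inv_cancel_left] at h2
  have hE := NOThreeL.VF.elemM_mono hoff.toElemM hBA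
  have h2 := hn B hB2 (hBA.trans hA) hE.sq hE.comm hne
  have h3 : Nat.card V ≤ NOThreeL.VF.fM V B := by
    rw [NOThreeL.VF.fM_congr hBA hB]
    exact NOThreeL.VF.le_fM_iff.2 hoff.le
  exact absurd (relIndex_le_iff.1 (NOThreeL.VF.le_fM_iff.1 h3)) (not_le.2 h2)

/-- `φ_v(a) = [a, v]` -/
def ph (v a : G) : G := a * v * a⁻¹ * v⁻¹

section abs

variable {V L R : Subgroup G} (hVc : V ≤ centralizer (V : Set G)) (hLV : L ≤ V)
  (hRV : R ≤ normalizer (V : Set G)) (hRL : ∀ r ∈ R, ∀ v ∈ V, ph v r ∈ L)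

include hVc in
theorem vcomm {a b : G} (ha : a ∈ V) (hb : b ∈ V) : a * b = b * a := (mem_centralizer_iff.1 (hVc hb) a ha)

include hRV in
theorem conj_V {r v : G} (hr : r ∈ R) (hv : v ∈ V) : r * v * r⁻¹ ∈ V := (mem_normalizer_iff.1 (hRV hr) v).1 hv

include hRL in
theorem conj_L (hLV : L ≤ V) {r l : G} (hr : r ∈ R) (hl : l ∈ L) : r * l * r⁻¹ ∈ L := by
  have h1 := mul_mem (hRL r hr l (hLV hl)) hl
  rwa [ph, inv_mul_cancel_right] at h1

/-- `[a, v w] = [a, v] [a, w]` -/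
theorem ph_mul_left {a v w : G} (hv : v ∈ V) (h1 : ph w a ∈ V) (hVc : V ≤ centralizer (V : Set G)) :
    ph (v * w) a = ph v a * ph w a := by
  have h2 : ph w a * v⁻¹ = v⁻¹ * ph w a := vcomm hVc h1 (inv_mem hv)
  calc ph (v * w) a = a * v * a⁻¹ * (ph w a * v⁻¹) := by simp only [ph]; group
    _ = a * v * a⁻¹ * (v⁻¹ * ph w a) := by rw [h2]
    _ = _ := by simp only [ph]; group

/-- `[a b, v] = [a, v] [b, v]` if `a` centralises `L` -/
theorem ph_mul_right {a b v : G} (ha : a ∈ centralizer (L : Set G)) (h1 : ph v b ∈ L) (h2 : ph v a ∈ V) (hLV : L ≤ V)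
    (hVc : V ≤ centralizer (V : Set G)) : ph v (a * b) = ph v a * ph v b := by
  have h3 : a * ph v b = ph v b * a := (mem_centralizer_iff.1 ha _ h1).symm
  have h4 : ph v b * ph v a = ph v a * ph v b := vcomm hVc (hLV h1) h2
  calc ph v (a * b) = (a * ph v b) * v * a⁻¹ * v⁻¹ := by simp only [ph]; group
    _ = ph v b * ph v a := by rw [h3]; simp only [ph]; group
    _ = _ := h4

include hRV hRL hLV hVc in
/-- `φ_v(r a r⁻¹) = r φ_v(a) r⁻¹` -/
theorem ph_conj {r a v : G} (hr : r ∈ R) (haR : a ∈ R) (ha : a ∈ centralizer (L : Set G)) (hv : v ∈ V) :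
    ph v (r * a * r⁻¹) = r * ph v a * r⁻¹ := by
  set l := r⁻¹ * v * r * v⁻¹ with hl
  have hlL : l ∈ L := by
    have h1 := hRL r⁻¹ (inv_mem hr) v hv
    simp only [ph, inv_inv] at h1
    exact h1
  have h2 : ph (l * v) a = ph v a := by
    rw [ph_mul_left (hLV hlL) (hLV (hRL a haR v hv)) hVc]
    have h3 : ph l a = 1 := by
      simp only [ph]
      rw [← mem_centralizer_iff.1 ha l hlL]
      group
    rw [h3, one_mul]
  calc ph v (r * a * r⁻¹) = r * ph (l * v) a * r⁻¹ := by simp only [ph, hl]; group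
    _ = _ := by rw [h2]

/-- the elements `b` of `C_R(L)` with `φ_v(b) ∈ X` for all `v ∈ V` -/
def gd (hVc : V ≤ centralizer (V : Set G)) (hLV : L ≤ V) (hRL : ∀ r ∈ R, ∀ v ∈ V, ph v r ∈ L) (X : Subgroup G) :
    Subgroup G where
  carrier := {b | (b ∈ R ∧ b ∈ centralizer (L : Set G)) ∧ ∀ v ∈ V, ph v b ∈ X}
  one_mem' := ⟨⟨one_mem _, one_mem _⟩, fun v _ => by simp [ph]⟩
  mul_mem' := by
    rintro a b ⟨⟨ha, ha'⟩, ha1⟩ ⟨⟨hb, hb'⟩, hb1⟩
    refine ⟨⟨mul_mem ha hb, mul_mem ha' hb'⟩, fun v hv => ?_⟩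
    rw [ph_mul_right ha' (hRL b hb v hv) (hLV (hRL a ha v hv)) hLV hVc]
    exact mul_mem (ha1 v hv) (hb1 v hv)
  inv_mem' := by
    rintro a ⟨⟨ha, ha'⟩, ha1⟩
    refine ⟨⟨inv_mem ha, inv_mem ha'⟩, fun v hv => ?_⟩
    have h1 := ph_mul_right (v := v) ha' (hRL a⁻¹ (inv_mem ha) v hv) (hLV (hRL a ha v hv)) hLV hVc
    rw [mul_inv_cancel] at h1
    have h2 : ph v (1 : G) = 1 := by simp [ph]
    rw [h2] at h1
    rw [← inv_eq_of_mul_eq_one_right h1.symm]
    exact inv_mem (ha1 v hv)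

include hVc hLV hRV hRL in
/-- `C_R(L)` centralises `V` -/
theorem cent_of [Finite G] (hVsq : ∀ v ∈ V, v ^ 2 = 1) (hn : ∀ A ≤ R, ¬ OffM V A) {ι : Type*} {Ri N : ι → Subgroup G}
    (hRi : ∀ i, Ri i ≤ R) (hNL : ∀ i, N i ≤ L) (hLi : ∀ i, ∀ r ∈ Ri i, ∀ x ∈ L, ph x r ∈ N i)
    (hirr : ∀ i, ∀ X ≤ N i, Ri i ≤ normalizer (X : Set G) → X = ⊥ ∨ X = N i)
    (hfixL : ∀ x ∈ L, (∀ i, ∀ r ∈ Ri i, r * x = x * r) → x = 1) :
    R ⊓ centralizer (L : Set G) ≤ centralizer (V : Set G) := by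
  by_contra hcon
  obtain ⟨c, hc, hcV⟩ := SetLike.not_le_iff_exists.1 hcon
  obtain ⟨hcR, hcL⟩ := mem_inf.1 hc
  obtain ⟨v₀, hv₀, hv₀c⟩ : ∃ v ∈ V, ph v c ≠ 1 := by
    by_contra h1
    push Not at h1
    refine hcV (mem_centralizer_iff.2 fun v hv => ?_)
    have h2 := h1 v hv
    simp only [ph] at h2
    exact (mul_inv_eq_iff_eq_mul.1 (mul_inv_eq_one.1 h2)).symm
  obtain ⟨i, r₀, hr₀, hr₀c⟩ : ∃ i, ∃ r ∈ Ri i, r * ph v₀ c ≠ ph v₀ c * r := by
    by_contra h1
    push Not at h1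
    exact hv₀c (hfixL _ (hRL c hcR v₀ hv₀) h1)
  -- `R_i` normalises `N_i`
  have hNi : ∀ r ∈ Ri i, ∀ x ∈ N i, r * x * r⁻¹ ∈ N i := by
    intro r hr x hx
    have h1 := mul_mem (hLi i r hr x (hNL i hx)) hx
    rwa [ph, inv_mul_cancel_right] at h1
  -- the family
  set 𝔅 : Set (Subgroup G) := {B | B ≤ gd hVc hLV hRL (N i) ∧ (∀ r ∈ Ri i, ∀ b ∈ B, r * b * r⁻¹ ∈ B) ∧
    ¬ B ≤ centralizer (V : Set G)} with h𝔅
  have hgd : gd hVc hLV hRL (N i) ∈ 𝔅 := by
    refine ⟨le_rfl, ?_, fun h1 => ?_⟩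
    · rintro r hr b ⟨⟨hb, hb'⟩, hb1⟩
      have hrR := hRi i hr
      refine ⟨⟨mul_mem (mul_mem hrR hb) (inv_mem hrR), ?_⟩, fun v hv => ?_⟩
      · rw [mem_centralizer_iff]
        intro l hl
        have h2 := conj_L hRL hLV (inv_mem hrR) hl
        rw [inv_inv] at h2
        have h3 := mem_centralizer_iff.1 hb' _ h2
        calc l * (r * b * r⁻¹) = r * (r⁻¹ * l * r * b) * r⁻¹ := by group
          _ = r * (b * (r⁻¹ * l * r)) * r⁻¹ := by rw [h3]
          _ = _ := by group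
      · rw [ph_conj hVc hLV hRV hRL hrR hb hb' hv]
        exact hNi r hr _ (hb1 v hv)
    · -- `[r₀, c]`
      have hr₀R := hRi i hr₀
      have hcr : r₀ * c * r₀⁻¹ ∈ R := mul_mem (mul_mem hr₀R hcR) (inv_mem hr₀R)
      have hcr' : r₀ * c * r₀⁻¹ ∈ centralizer (L : Set G) := by
        rw [mem_centralizer_iff]
        intro l hl
        have h2 := conj_L hRL hLV (inv_mem hr₀R) hl
        rw [inv_inv] at h2
        have h3 := mem_centralizer_iff.1 hcL _ h2
        calc l * (r₀ * c * r₀⁻¹) = r₀ * (r₀⁻¹ * l * r₀ * c) * r₀⁻¹ := by group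
          _ = r₀ * (c * (r₀⁻¹ * l * r₀)) * r₀⁻¹ := by rw [h3]
          _ = _ := by group
      have key : ∀ v ∈ V, ph v (r₀ * c * r₀⁻¹ * c⁻¹) = ph (ph v c) r₀ := by
        intro v hv
        have h2 := ph_mul_right (v := v) hcr' (hRL c⁻¹ (inv_mem hcR) v hv) (hLV (hRL _ hcr v hv)) hLV hVc
        have h3 := ph_mul_right (v := v) hcL (hRL c⁻¹ (inv_mem hcR) v hv) (hLV (hRL c hcR v hv)) hLV hVc
        rw [mul_inv_cancel] at h3
        have h4 : ph v (1 : G) = 1 := by simp [ph]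
        rw [h4] at h3
        rw [h2, ← inv_eq_of_mul_eq_one_right h3.symm, ph_conj hVc hLV hRV hRL hr₀R hcR hcL hv]
        rfl
      have hmem : r₀ * c * r₀⁻¹ * c⁻¹ ∈ gd hVc hLV hRL (N i) := by
        refine ⟨⟨mul_mem hcr (inv_mem hcR), mul_mem hcr' (inv_mem hcL)⟩, fun v hv => ?_⟩
        rw [key v hv]
        exact hLi i r₀ hr₀ _ (hRL c hcR v hv)
      have h2 := mem_centralizer_iff.1 (h1 hmem) v₀ hv₀
      have h3 : ph v₀ (r₀ * c * r₀⁻¹ * c⁻¹) = 1 := by
        have e : ∀ x y : G, y * x = x * y → x * y * x⁻¹ * y⁻¹ = 1 := by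
          intro x y h4
          rw [← h4]
          group
        exact e _ _ h2
      rw [key v₀ hv₀] at h3
      simp only [ph] at h3 hr₀c
      exact hr₀c (mul_inv_eq_iff_eq_mul.1 (mul_inv_eq_one.1 h3))
  obtain ⟨B, hB⟩ := (Set.toFinite 𝔅).exists_minimal ⟨_, hgd⟩
  obtain ⟨⟨hBg, hBr, hBV⟩, hmin⟩ := hB
  have hBR : ∀ b ∈ B, b ∈ R := fun b hb => (hBg hb).1.1
  have hBL : ∀ b ∈ B, b ∈ centralizer (L : Set G) := fun b hb => (hBg hb).1.2
  have hBN : ∀ b ∈ B, ∀ v ∈ V, ph v b ∈ N i := fun b hb => (hBg hb).2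
  have hBphL : ∀ b ∈ B, ∀ v ∈ V, ph v b ∈ L := fun b hb v hv => hNL i (hBN b hb v hv)
  have hNV : ∀ x ∈ N i, x ∈ V := fun x hx => hLV (hNL i hx)
  have one_iff : ∀ v b : G, ph v b = 1 ↔ b * v = v * b := by
    intro v b
    simp only [ph]
    rw [mul_inv_eq_one, mul_inv_eq_iff_eq_mul]
  -- the kernel of `φ_v` centralises `V`
  have hker : ∀ v ∈ V, ¬ (∀ b ∈ B, ph v b = 1) → ∀ b ∈ B, ph v b = 1 → b ∈ centralizer (V : Set G) := by
    intro v hv hv1
    let K : Subgroup G :=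
      { carrier := {b | b ∈ B ∧ ph v b = 1}
        one_mem' := ⟨one_mem _, by simp [ph]⟩
        mul_mem' := by
          rintro a b ⟨ha, ha1⟩ ⟨hb, hb1⟩
          refine ⟨mul_mem ha hb, ?_⟩
          rw [ph_mul_right (hBL a ha) (hBphL b hb v hv) (hLV (hBphL a ha v hv)) hLV hVc, ha1, hb1, one_mul]
        inv_mem' := by
          rintro a ⟨ha, ha1⟩
          refine ⟨inv_mem ha, ?_⟩
          rw [one_iff] at ha1 ⊢
          calc a⁻¹ * v = a⁻¹ * (v * a) * a⁻¹ := by group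
            _ = a⁻¹ * (a * v) * a⁻¹ := by rw [ha1]
            _ = v * a⁻¹ := by group }
    have hKB : K ≤ B := fun b hb => hb.1
    have hKV : K ≤ centralizer (V : Set G) := by
      by_contra h1
      have h2 : K ∈ 𝔅 := by
        refine ⟨hKB.trans hBg, ?_, h1⟩
        rintro r hr b ⟨hb, hb1⟩
        refine ⟨hBr r hr b hb, ?_⟩
        rw [ph_conj hVc hLV hRV hRL (hRi i hr) (hBR b hb) (hBL b hb) hv, hb1]
        group
      have h3 := hmin h2 hKB
      exact hv1 fun b hb => (h3 hb).2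
    intro b hb hb1
    exact hKV ⟨hb, hb1⟩
  obtain ⟨b₀, hb₀, hb₀V⟩ := SetLike.not_le_iff_exists.1 hBV
  obtain ⟨v₁, hv₁, hv₁b⟩ : ∃ v ∈ V, ph v b₀ ≠ 1 := by
    by_contra h1
    push Not at h1
    exact hb₀V (mem_centralizer_iff.2 fun v hv => ((one_iff v b₀).1 (h1 v hv)).symm)
  -- the homomorphism `b ↦ [b, v₁]`
  let f : B →* ↥(N i) :=
    { toFun := fun b => ⟨ph v₁ (b : G), hBN b b.2 v₁ hv₁⟩
      map_one' := Subtype.ext (by simp [ph])
      map_mul' := fun a b => Subtype.ext (by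
        change ph v₁ ((a : G) * b) = ph v₁ (a : G) * ph v₁ (b : G)
        exact ph_mul_right (hBL a a.2) (hBphL b b.2 v₁ hv₁) (hLV (hBphL a a.2 v₁ hv₁)) hLV hVc) }
  have hfk : f.ker = (centralizer (V : Set G)).subgroupOf B := by
    ext b
    rw [MonoidHom.mem_ker, mem_subgroupOf]
    constructor
    · intro h1
      exact hker v₁ hv₁ (fun h2 => hv₁b (h2 b₀ hb₀)) b b.2 (congrArg Subtype.val h1)
    · intro h1
      exact Subtype.ext ((one_iff v₁ (b : G)).2 (mem_centralizer_iff.1 h1 v₁ hv₁).symm)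
  have hfs : Function.Surjective f := by
    set X : Subgroup G := f.range.map (N i).subtype with hX
    have hXN : X ≤ N i := map_subtype_le _
    have hmemX : ∀ b ∈ B, ph v₁ b ∈ X := fun b hb => ⟨f ⟨b, hb⟩, ⟨⟨b, hb⟩, rfl⟩, rfl⟩
    have hXr : Ri i ≤ normalizer (X : Set G) := by
      have h1 : ∀ r ∈ Ri i, ∀ x ∈ X, r * x * r⁻¹ ∈ X := by
        rintro r hr _ ⟨_, ⟨b, rfl⟩, rfl⟩
        have h2 := ph_conj hVc hLV hRV hRL (hRi i hr) (hBR b b.2) (hBL b b.2) hv₁
        change r * ph v₁ (b : G) * r⁻¹ ∈ X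
        rw [← h2]
        exact hmemX _ (hBr r hr b b.2)
      intro r hr
      rw [mem_normalizer_iff]
      intro x
      refine ⟨fun hx => h1 r hr x hx, fun hx => ?_⟩
      have h3 := h1 r⁻¹ (inv_mem hr) _ hx
      have h2 : r⁻¹ * (r * x * r⁻¹) * r⁻¹⁻¹ = x := by group
      rwa [h2] at h3
    have hXeq : X = N i := by
      refine (hirr i X hXN hXr).resolve_left fun h1 => hv₁b ?_
      have h2 := hmemX b₀ hb₀
      rwa [h1, mem_bot] at h2
    intro x
    have h1 : (x : G) ∈ X := by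
      rw [hXeq]
      exact x.2
    obtain ⟨y, ⟨b, rfl⟩, hy⟩ := h1
    exact ⟨b, Subtype.ext hy⟩
  have hcB : (centralizer (V : Set G)).relIndex B = Nat.card ↥(N i) := by
    rw [relIndex, ← hfk, Subgroup.index_ker, MonoidHom.range_eq_top.2 hfs, Subgroup.card_top]
  -- the homomorphism `v ↦ [b₀, v]`
  let g : V →* ↥(N i) :=
    { toFun := fun v => ⟨ph (v : G) b₀, hBN b₀ hb₀ v v.2⟩
      map_one' := Subtype.ext (by simp [ph])
      map_mul' := fun v w => Subtype.ext (by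
        change ph ((v : G) * w) b₀ = ph (v : G) b₀ * ph (w : G) b₀
        exact ph_mul_left v.2 (hLV (hBphL b₀ hb₀ w w.2)) hVc) }
  have hgk : g.ker ≤ (centralizer (B : Set G)).subgroupOf V := by
    intro v hv
    rw [MonoidHom.mem_ker] at hv
    rw [mem_subgroupOf, mem_centralizer_iff]
    intro b hb
    have h1 : ph (v : G) b₀ = 1 := congrArg Subtype.val hv
    by_cases h2 : ∀ b ∈ B, ph (v : G) b = 1
    · exact (one_iff _ _).1 (h2 b hb)
    · exact absurd (hker v v.2 h2 b₀ hb₀ h1) hb₀V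
  have hcV : (centralizer (B : Set G)).relIndex V ≤ Nat.card ↥(N i) := by
    calc (centralizer (B : Set G)).relIndex V = ((centralizer (B : Set G)).subgroupOf V).index := rfl
      _ ≤ g.ker.index := Subgroup.index_antitone hgk
      _ = Nat.card g.range := Subgroup.index_ker g
      _ ≤ Nat.card ↥(N i) := Nat.card_le_card_of_injective _ g.range.subtype_injective
  -- an offender
  refine hn B (fun b hb => hBR b hb) ⟨⟨?_, ?_⟩, hBV, ?_⟩
  · intro b hb
    rw [mem_centralizer_iff]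
    intro v hv
    refine ((one_iff v (b ^ 2)).1 ?_).symm
    rw [pow_two, ph_mul_right (hBL b hb) (hBphL b hb v hv) (hLV (hBphL b hb v hv)) hLV hVc, ← pow_two]
    exact hVsq _ (hLV (hBphL b hb v hv))
  · intro a ha b hb
    rw [mem_centralizer_iff]
    intro v hv
    refine ((one_iff v _).1 ?_).symm
    have hm : ∀ x ∈ B, ∀ y ∈ B, ph v (x * y) = ph v x * ph v y := fun x hx y hy =>
      ph_mul_right (hBL x hx) (hBphL y hy v hv) (hLV (hBphL x hx v hv)) hLV hVc
    have hi : ∀ x ∈ B, ph v x⁻¹ = (ph v x)⁻¹ := by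
      intro x hx
      have h1 := hm x hx x⁻¹ (inv_mem hx)
      rw [mul_inv_cancel] at h1
      have h2 : ph v (1 : G) = 1 := by simp [ph]
      rw [h2] at h1
      exact (inv_eq_of_mul_eq_one_right h1.symm).symm
    rw [hm _ (mul_mem (mul_mem ha hb) (inv_mem ha)) _ (inv_mem hb), hm _ (mul_mem ha hb) _ (inv_mem ha),
      hm a ha b hb, hi a ha, hi b hb, vcomm hVc (hLV (hBphL a ha v hv)) (hLV (hBphL b hb v hv))]
    group
  · rw [relIndex_le_iff, hcB]
    exact hcV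

include hVc hLV hRV hRL in
/-- **LEMMA (PB)** -/
theorem pb [Finite G] (hVsq : ∀ v ∈ V, v ^ 2 = 1) (hn : ∀ A ≤ R, ¬ OffM V A) {ι : Type*} {Ri N : ι → Subgroup G}
    (hRi : ∀ i, Ri i ≤ R) (hNL : ∀ i, N i ≤ L) (hLi : ∀ i, ∀ r ∈ Ri i, ∀ x ∈ L, ph x r ∈ N i)
    (hirr : ∀ i, ∀ X ≤ N i, Ri i ≤ normalizer (X : Set G) → X = ⊥ ∨ X = N i)
    (hfixL : ∀ x ∈ L, (∀ i, ∀ r ∈ Ri i, r * x = x * r) → x = 1)
    (hfixV : V ⊓ centralizer (R : Set G) = ⊥) {Q : Subgroup G} (hQV : Q ≤ normalizer (V : Set G))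
    (hQL : Q ≤ centralizer (L : Set G)) (hQR : Q ≤ normalizer (R : Set G)) : Q ≤ centralizer (V : Set G) := by
  have hC := cent_of hVc hLV hRV hRL hVsq hn hRi hNL hLi hirr hfixL
  intro q hq
  rw [mem_centralizer_iff]
  intro v hv
  have hqv : q * v * q⁻¹ ∈ V := (mem_normalizer_iff.1 (hQV hq) v).1 hv
  have hw : q * v * q⁻¹ * v⁻¹ ∈ V := mul_mem hqv (inv_mem hv)
  have h0 : q * v * q⁻¹ * v⁻¹ ∈ V ⊓ centralizer (R : Set G) := by
    refine mem_inf.2 ⟨hw, mem_centralizer_iff.2 fun r hr => ?_⟩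
    -- `[r, q]` centralises `V`
    have h1 : r * q * r⁻¹ * q⁻¹ ∈ centralizer (V : Set G) := by
      refine hC (mem_inf.2 ⟨?_, ?_⟩)
      · have h2 := (mem_normalizer_iff.1 (hQR hq) r⁻¹).1 (inv_mem hr)
        have h3 := mul_mem hr h2
        have e : r * (q * r⁻¹ * q⁻¹) = r * q * r⁻¹ * q⁻¹ := by group
        rwa [e] at h3
      · rw [mem_centralizer_iff]
        intro l hl
        have h2 := conj_L hRL hLV (inv_mem hr) hl
        rw [inv_inv] at h2
        have h3 := mem_centralizer_iff.1 (hQL hq) l hl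
        have h4 := mem_centralizer_iff.1 (hQL hq) _ h2
        calc l * (r * q * r⁻¹ * q⁻¹) = r * (r⁻¹ * l * r * q) * r⁻¹ * q⁻¹ := by group
          _ = r * (q * (r⁻¹ * l * r)) * r⁻¹ * q⁻¹ := by rw [h4]
          _ = r * q * r⁻¹ * (l * q) * q⁻¹ * q⁻¹ := by group
          _ = r * q * r⁻¹ * (q * l) * q⁻¹ * q⁻¹ := by rw [h3]
          _ = r * q * r⁻¹ * q⁻¹ * (q * (q * l * q⁻¹) * q⁻¹) := by group
          _ = r * q * r⁻¹ * q⁻¹ * l := by
            have h5 : q * l * q⁻¹ = l := by rw [← h3, mul_inv_cancel_right]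
            rw [h5, h5]
    set l := r * v * r⁻¹ * v⁻¹ with hl
    have hlL : l ∈ L := hRL r hr v hv
    have h3 := mem_centralizer_iff.1 (hQL hq) l hlL
    have h5 : q * l * q⁻¹ = l := by rw [← h3, mul_inv_cancel_right]
    -- `r w r⁻¹ = w`
    set c := r * q * r⁻¹ * q⁻¹ with hcdef
    have hlv : q * (r * v * r⁻¹) * q⁻¹ ∈ V :=
      (mem_normalizer_iff.1 (hQV hq) _).1 (conj_V hRV hr hv)
    have h6 := mem_centralizer_iff.1 h1 _ hlv
    have h7 : r * (q * v * q⁻¹ * v⁻¹) * r⁻¹ = q * v * q⁻¹ * v⁻¹ := by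
      calc r * (q * v * q⁻¹ * v⁻¹) * r⁻¹
          = (c * (q * (r * v * r⁻¹) * q⁻¹)) * c⁻¹ * (r * v⁻¹ * r⁻¹) := by rw [hcdef]; group
        _ = ((q * (r * v * r⁻¹) * q⁻¹) * c) * c⁻¹ * (r * v⁻¹ * r⁻¹) := by rw [h6]
        _ = (q * l * q⁻¹) * (q * v * q⁻¹ * v⁻¹) * l⁻¹ := by rw [hl]; group
        _ = l * (q * v * q⁻¹ * v⁻¹) * l⁻¹ := by rw [h5]
        _ = q * v * q⁻¹ * v⁻¹ := by rw [vcomm hVc (hLV hlL) hw, mul_inv_cancel_right]
    exact mul_inv_eq_iff_eq_mul.1 h7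
  rw [hfixV, mem_bot] at h0
  exact (mul_inv_eq_iff_eq_mul.1 (mul_inv_eq_one.1 h0)).symm

/-- `C_V(R) = 1` from `C_L(R) = 1` -/
theorem fix_of [Finite G] {S : Subgroup G} (hS : IsPGroup 2 S) (hVsq : ∀ v ∈ V, v ^ 2 = 1)
    (hSV : S ≤ normalizer (V : Set G)) (hSR : S ≤ normalizer (R : Set G)) (hVS : V ⊓ centralizer (S : Set G) ≤ L)
    (hLR : L ⊓ centralizer (R : Set G) = ⊥) : V ⊓ centralizer (R : Set G) = ⊥ := by
  by_contra hne
  obtain ⟨x, hx, hx1, hxf⟩ := NOThreeL.AdjTransv.exists_fixed (S := S) (N := V ⊓ centralizer (R : Set G)) hS hne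
    (fun n hn => by rw [← pow_two]; exact hVsq n (mem_inf.1 hn).1) (by
      intro s hs n hn
      obtain ⟨h1, h2⟩ := mem_inf.1 hn
      refine mem_inf.2 ⟨(mem_normalizer_iff.1 (hSV hs) n).1 h1, mem_centralizer_iff.2 fun r hr => ?_⟩
      have h3 := (mem_normalizer_iff.1 (inv_mem (hSR hs)) r).1 hr
      rw [inv_inv] at h3
      have h4 := mem_centralizer_iff.1 h2 _ h3
      calc r * (s * n * s⁻¹) = s * (s⁻¹ * r * s * n) * s⁻¹ := by group
        _ = s * (n * (s⁻¹ * r * s)) * s⁻¹ := by rw [h4]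
        _ = _ := by group)
  obtain ⟨h1, h2⟩ := mem_inf.1 hx
  have h3 : x ∈ L := hVS (mem_inf.2 ⟨h1, mem_centralizer_iff.2 fun s hs => mul_inv_eq_iff_eq_mul.1 (hxf s hs)⟩)
  have h4 : x ∈ L ⊓ centralizer (R : Set G) := mem_inf.2 ⟨h3, h2⟩
  rw [hLR, mem_bot] at h4
  exact hx1 h4

include hVc hLV hRV hRL in
/-- **LEMMA (PB)**, with the fixed points of `S` and of `Q` -/
theorem pb_le [Finite G] (hVsq : ∀ v ∈ V, v ^ 2 = 1) (hn : ∀ A ≤ R, ¬ OffM V A) {ι : Type*} {Ri N : ι → Subgroup G}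
    (hRi : ∀ i, Ri i ≤ R) (hNL : ∀ i, N i ≤ L) (hLi : ∀ i, ∀ r ∈ Ri i, ∀ x ∈ L, ph x r ∈ N i)
    (hirr : ∀ i, ∀ X ≤ N i, Ri i ≤ normalizer (X : Set G) → X = ⊥ ∨ X = N i)
    (hfixL : ∀ x ∈ L, (∀ i, ∀ r ∈ Ri i, r * x = x * r) → x = 1)
    {S : Subgroup G} (hS : IsPGroup 2 S) (hSV : S ≤ normalizer (V : Set G)) (hSR : S ≤ normalizer (R : Set G))
    (hVS : V ⊓ centralizer (S : Set G) ≤ L)
    {Q : Subgroup G} (hQV : Q ≤ normalizer (V : Set G))
    (hQL : Q ≤ centralizer (L : Set G)) (hQR : Q ≤ normalizer (R : Set G)) (hVQ : V ⊓ centralizer (Q : Set G) ≤ L) :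
    V ≤ L := by
  have hLR : L ⊓ centralizer (R : Set G) = ⊥ := by
    rw [eq_bot_iff]
    intro x hx
    obtain ⟨h1, h2⟩ := mem_inf.1 hx
    rw [mem_bot]
    exact hfixL x h1 fun i r hr => mem_centralizer_iff.1 h2 r (hRi i hr)
  have h1 := pb hVc hLV hRV hRL hVsq hn hRi hNL hLi hirr hfixL (fix_of hS hVsq hSV hSR hVS hLR) hQV hQL hQR
  exact fun v hv => hVQ (mem_inf.2 ⟨hv, Subgroup.le_centralizer_iff.1 h1 hv⟩)

end abs

end Cfsg.Agent.Omega.NO3S.SFive

end

section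


/-!
# GammaFF, (S5): LEMMA (PB) of helper422 #22571 (5), one-block form

`P` acts on `V ≥ L`, `L` is generated by the `P`-conjugates of the block `N`, `D ≤ P` acts on `V` with `[V, D] ≤ L`,
irreducibly on `N`, trivially on the other blocks:

* **`pbN`** : no offender of `P` on `V`, `C_V(Q) ≤ L`, `Q ⊴ P` centralises `L` ⟹ `V ≤ L`.
-/

set_option autoImplicit false
set_option linter.unusedSectionVars false

namespace Cfsg.Agent.Omega.NO3S.SFive

open Subgroup Cfsg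
open Cfsg.Agent.Omega.FFThm
open Cfsg.Agent.Omega.NoFF.Basic (mem_conj conj_conj)
open scoped Pointwise commutatorElement

universe u

variable {G : Type u} [Group G]

theorem conj_smul_eq {g : G} {U : Subgroup G} (hg : g ∈ normalizer (U : Set G)) : MulAut.conj g • U = U := by
  ext x
  rw [mem_conj]
  have h := mem_normalizer_iff.mp hg (g⁻¹ * x * g)
  rw [h]
  simp [mul_assoc]

theorem le_normalizer_of' {K U : Subgroup G} (h : ∀ k ∈ K, ∀ u ∈ U, k * u * k⁻¹ ∈ U) :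
    K ≤ normalizer (U : Set G) := by
  intro k hk
  rw [mem_normalizer_iff]
  intro v
  refine ⟨fun hv => h k hk v hv, fun hv => ?_⟩
  have h1 := h k⁻¹ (inv_mem hk) _ hv
  have h2 : k⁻¹ * (k * v * k⁻¹) * k⁻¹⁻¹ = v := by group
  rwa [h2] at h1

section abs

variable {V L P Q D N : Subgroup G}

/-- `ph v r = 1` iff `r` and `v` commute -/
theorem ph_eq_one {v b : G} : ph v b = 1 ↔ b * v = v * b := by
  simp only [ph]
  rw [mul_inv_eq_one, mul_inv_eq_iff_eq_mul]

/-- the elements of `P` acting trivially on `V / L` -/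
def trv (hPL : P ≤ normalizer (L : Set G)) (V : Subgroup G) : Subgroup G where
  carrier := {r | r ∈ P ∧ ∀ v ∈ V, ph v r ∈ L}
  one_mem' := ⟨one_mem _, fun v _ => by simp [ph]⟩
  mul_mem' := by
    rintro a b ⟨ha, ha1⟩ ⟨hb, hb1⟩
    refine ⟨mul_mem ha hb, fun v hv => ?_⟩
    have e : ph v (a * b) = (a * ph v b * a⁻¹) * ph v a := by simp only [ph]; group
    rw [e]
    exact mul_mem ((mem_normalizer_iff.1 (hPL ha) _).1 (hb1 v hv)) (ha1 v hv)
  inv_mem' := by
    rintro a ⟨ha, ha1⟩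
    refine ⟨inv_mem ha, fun v hv => ?_⟩
    have e : ph v a⁻¹ = a⁻¹ * (ph v a)⁻¹ * a⁻¹⁻¹ := by simp only [ph]; group
    rw [e]
    exact (mem_normalizer_iff.1 (inv_mem (hPL ha)) _).1 (inv_mem (ha1 v hv))

/-- `[L, D] ≤ N` -/
theorem comm_mem_of (hVc : V ≤ centralizer (V : Set G)) (hPV : P ≤ normalizer (V : Set G))
    (hDP : D ≤ P) (hL : L ≤ ⨆ p : P, MulAut.conj (p : G) • N) (hNV : ∀ p ∈ P, MulAut.conj p • N ≤ V)
    (hDN : D ≤ normalizer (N : Set G))
    (dis : ∀ p ∈ P, MulAut.conj p • N = N ∨ D ≤ centralizer ((MulAut.conj p • N : Subgroup G) : Set G))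
    {d : G} (hd : d ∈ D) {x : G} (hx : x ∈ L) : ph x d ∈ N := by
  let T : Subgroup G :=
    { carrier := {x | x ∈ V ∧ ph x d ∈ N}
      one_mem' := ⟨one_mem _, by simp [ph]⟩
      mul_mem' := by
        rintro a b ⟨ha, ha1⟩ ⟨hb, hb1⟩
        refine ⟨mul_mem ha hb, ?_⟩
        have hbV : ph b d ∈ V := mul_mem ((mem_normalizer_iff.1 (hPV (hDP hd)) b).1 hb) (inv_mem hb)
        rw [ph_mul_left ha hbV hVc]
        exact mul_mem ha1 hb1
      inv_mem' := by
        rintro a ⟨ha, ha1⟩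
        refine ⟨inv_mem ha, ?_⟩
        have hbV : ph a⁻¹ d ∈ V :=
          mul_mem ((mem_normalizer_iff.1 (hPV (hDP hd)) _).1 (inv_mem ha)) (inv_mem (inv_mem ha))
        have h1 := ph_mul_left ha hbV hVc
        rw [mul_inv_cancel] at h1
        have h2 : ph (1 : G) d = 1 := by simp [ph]
        rw [h2] at h1
        rw [← inv_eq_of_mul_eq_one_right h1.symm]
        exact inv_mem ha1 }
  have h1 : L ≤ T := by
    refine hL.trans (iSup_le fun p y hy => ⟨hNV p p.2 hy, ?_⟩)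
    rcases dis p p.2 with h2 | h2
    · rw [h2] at hy
      exact mul_mem ((mem_normalizer_iff.1 (hDN hd) y).1 hy) (inv_mem hy)
    · have h3 : ph y d = 1 := ph_eq_one.2 (mem_centralizer_iff.1 (h2 hd) y hy).symm
      rw [h3]
      exact one_mem _
  exact (h1 hx).2

/-- **LEMMA (PB)**, one-block form -/
theorem pbN [Finite G] (hVc : V ≤ centralizer (V : Set G)) (hVsq : ∀ v ∈ V, v ^ 2 = 1)
    (hPV : P ≤ normalizer (V : Set G)) (hPL : P ≤ normalizer (L : Set G)) (hLV : L ≤ V) (hQP : Q ≤ P)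
    (hQL : Q ≤ centralizer (L : Set G)) (hVQ : V ⊓ centralizer (Q : Set G) ≤ L) (hDP : D ≤ P) (hNL : N ≤ L)
    (hL : L ≤ ⨆ p : P, MulAut.conj (p : G) • N)
    (irr : ∀ U ≤ N, U ≠ ⊥ → D ≤ normalizer (U : Set G) → N ≤ U) (hDN : D ≤ normalizer (N : Set G))
    (hne : ¬ D ≤ centralizer (N : Set G))
    (dis : ∀ p ∈ P, MulAut.conj p • N = N ∨ D ≤ centralizer ((MulAut.conj p • N : Subgroup G) : Set G))
    (hVD : ⁅V, D⁆ ≤ L) (fix : ∀ U ≤ V, U ≠ ⊥ → P ≤ normalizer (U : Set G) → U ⊓ L ≠ ⊥)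
    (noOff : ∀ A ≤ P, ¬ OffM V A) : V ≤ L := by
  set R : Subgroup G := ⨆ p : P, MulAut.conj (p : G) • D with hR
  have hDR : ∀ p : P, MulAut.conj (p : G) • D ≤ R := fun p => le_iSup (fun p : P => MulAut.conj (p : G) • D) p
  have hcL : ∀ p ∈ P, ∀ x ∈ L, p * x * p⁻¹ ∈ L := fun p hp x hx => (mem_normalizer_iff.1 (hPL hp) x).1 hx
  have hcL' : ∀ p ∈ P, ∀ x ∈ L, p⁻¹ * x * p ∈ L := fun p hp x hx => by
    have := hcL p⁻¹ (inv_mem hp) x hx
    rwa [inv_inv] at this
  have hcV : ∀ p ∈ P, ∀ x ∈ V, p * x * p⁻¹ ∈ V := fun p hp x hx => (mem_normalizer_iff.1 (hPV hp) x).1 hx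
  have hcV' : ∀ p ∈ P, ∀ x ∈ V, p⁻¹ * x * p ∈ V := fun p hp x hx => by
    have := hcV p⁻¹ (inv_mem hp) x hx
    rwa [inv_inv] at this
  have hNLp : ∀ p ∈ P, MulAut.conj p • N ≤ L := by
    intro p hp x hx
    rw [mem_conj] at hx
    have h1 := hcL p hp _ (hNL hx)
    have e : p * (p⁻¹ * x * p) * p⁻¹ = x := by group
    rwa [e] at h1
  have hNV : ∀ p ∈ P, MulAut.conj p • N ≤ V := fun p hp => (hNLp p hp).trans hLV
  have hRT : R ≤ trv hPL V := by
    refine iSup_le fun p x hx => ?_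
    rw [mem_conj] at hx
    have hxP : x ∈ P := by
      have h1 := mul_mem (mul_mem p.2 (hDP hx)) (inv_mem p.2)
      have e : (p : G) * ((p : G)⁻¹ * x * p) * (p : G)⁻¹ = x := by group
      rwa [e] at h1
    refine ⟨hxP, fun v hv => ?_⟩
    have h1 : ph ((p : G)⁻¹ * v * p) ((p : G)⁻¹ * x * p) ∈ L := by
      have h2 : ⁅(p : G)⁻¹ * v * p, (p : G)⁻¹ * x * p⁆ ∈ L :=
        hVD (commutator_mem_commutator (hcV' p p.2 v hv) hx)
      have h3 := inv_mem h2
      rw [commutatorElement_inv] at h3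
      exact h3
    have h2 := hcL p p.2 _ h1
    have e : (p : G) * ph ((p : G)⁻¹ * v * p) ((p : G)⁻¹ * x * p) * (p : G)⁻¹ = ph v x := by
      simp only [ph]; group
    rwa [e] at h2
  have hRP : R ≤ P := fun r hr => (hRT hr).1
  have hRV : R ≤ normalizer (V : Set G) := hRP.trans hPV
  have hRL : ∀ r ∈ R, ∀ v ∈ V, ph v r ∈ L := fun r hr => (hRT hr).2
  have hPR : P ≤ normalizer (R : Set G) := by
    refine le_normalizer_of' fun p hp r hr => ?_
    have h1 : R ≤ R.comap (MulAut.conj p).toMonoidHom := by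
      refine iSup_le fun p' x hx => ?_
      refine hDR (⟨p, hp⟩ * p') ?_
      change p * x * p⁻¹ ∈ _
      rw [mem_conj] at hx ⊢
      have e : ((⟨p, hp⟩ * p' : P) : G)⁻¹ * (p * x * p⁻¹) * ((⟨p, hp⟩ * p' : P) : G) = (p' : G)⁻¹ * x * p' := by
        change (p * (p' : G))⁻¹ * (p * x * p⁻¹) * (p * (p' : G)) = _
        group
      rwa [e]
    exact h1 hr
  -- `[L, D^p] ≤ N^p`
  have hLi : ∀ p : P, ∀ r ∈ MulAut.conj (p : G) • D, ∀ x ∈ L, ph x r ∈ MulAut.conj (p : G) • N := by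
    intro p r hr x hx
    rw [mem_conj] at hr ⊢
    have h1 := comm_mem_of hVc hPV hDP hL hNV hDN dis hr (hcL' p p.2 x hx)
    have e : (p : G)⁻¹ * ph x r * p = ph ((p : G)⁻¹ * x * p) ((p : G)⁻¹ * r * p) := by
      simp only [ph]; group
    rwa [e]
  have hirr : ∀ p : P, ∀ X ≤ MulAut.conj (p : G) • N, MulAut.conj (p : G) • D ≤ normalizer (X : Set G) →
      X = ⊥ ∨ X = MulAut.conj (p : G) • N := by
    intro p X hX hn
    by_cases hX1 : X = ⊥
    · exact Or.inl hX1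
    refine Or.inr (le_antisymm hX ?_)
    set U : Subgroup G := MulAut.conj (p : G)⁻¹ • X with hU
    have hmem : ∀ x, x ∈ U ↔ (p : G) * x * (p : G)⁻¹ ∈ X := by
      intro x
      rw [hU, mem_conj, inv_inv]
    have hUN : U ≤ N := by
      intro x hx
      have h1 := hX ((hmem x).1 hx)
      rw [mem_conj] at h1
      have e : (p : G)⁻¹ * ((p : G) * x * (p : G)⁻¹) * p = x := by group
      rwa [e] at h1
    have hU1 : U ≠ ⊥ := by
      intro h1
      apply hX1
      rw [eq_bot_iff]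
      intro x hx
      have h2 : (p : G)⁻¹ * x * p ∈ U := by
        rw [hmem]
        have e : (p : G) * ((p : G)⁻¹ * x * p) * (p : G)⁻¹ = x := by group
        rwa [e]
      rw [h1, mem_bot] at h2
      rw [mem_bot]
      have e : x = (p : G) * ((p : G)⁻¹ * x * p) * (p : G)⁻¹ := by group
      rw [e, h2]
      group
    have hDU : D ≤ normalizer (U : Set G) := by
      refine le_normalizer_of' fun d hd u hu => ?_
      rw [hmem] at hu ⊢
      have h1 : (p : G) * d * (p : G)⁻¹ ∈ MulAut.conj (p : G) • D := by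
        rw [mem_conj]
        have e : (p : G)⁻¹ * ((p : G) * d * (p : G)⁻¹) * p = d := by group
        rwa [e]
      have h2 := (mem_normalizer_iff.1 (hn h1) _).1 hu
      have e : (p : G) * (d * u * d⁻¹) * (p : G)⁻¹ =
          (p : G) * d * (p : G)⁻¹ * ((p : G) * u * (p : G)⁻¹) * ((p : G) * d * (p : G)⁻¹)⁻¹ := by group
      rwa [e]
    intro x hx
    rw [mem_conj] at hx
    have h1 := (hmem _).1 (irr U hUN hU1 hDU hx)
    have e : (p : G) * ((p : G)⁻¹ * x * p) * (p : G)⁻¹ = x := by group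
    rwa [e] at h1
  -- `D^p` centralises the other blocks
  have hdis : ∀ p p' : P, MulAut.conj (p' : G) • N = MulAut.conj (p : G) • N ∨
      ∀ d ∈ MulAut.conj (p : G) • D, ∀ x ∈ MulAut.conj (p' : G) • N, d * x = x * d := by
    intro p p'
    rcases dis ((p : G)⁻¹ * p') (mul_mem (inv_mem p.2) p'.2) with h1 | h1
    · left
      have h2 := congrArg (fun X : Subgroup G => MulAut.conj (p : G) • X) h1
      simp only [conj_conj] at h2
      rwa [mul_inv_cancel_left] at h2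
    · right
      intro d hd x hx
      rw [mem_conj] at hd hx
      have h2 : (p : G)⁻¹ * x * p ∈ MulAut.conj ((p : G)⁻¹ * p') • N := by
        rw [mem_conj]
        have e : ((p : G)⁻¹ * p')⁻¹ * ((p : G)⁻¹ * x * p) * ((p : G)⁻¹ * p') = (p' : G)⁻¹ * x * p' := by group
        rwa [e]
      have h3 := mem_centralizer_iff.1 (h1 hd) _ h2
      calc d * x = (p : G) * ((p : G)⁻¹ * d * p * ((p : G)⁻¹ * x * p)) * (p : G)⁻¹ := by group
        _ = (p : G) * ((p : G)⁻¹ * x * p * ((p : G)⁻¹ * d * p)) * (p : G)⁻¹ := by rw [h3]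
        _ = x * d := by group
  -- `D^p` has no fixed points on `N^p`
  have hnofix : ∀ p : P, ∀ x ∈ MulAut.conj (p : G) • N, (∀ d ∈ MulAut.conj (p : G) • D, d * x = x * d) → x = 1 := by
    intro p x hx hxd
    set X : Subgroup G := MulAut.conj (p : G) • N ⊓ centralizer ((MulAut.conj (p : G) • D : Subgroup G) : Set G) with hX
    have hn : MulAut.conj (p : G) • D ≤ normalizer (X : Set G) := by
      refine le_normalizer_of' fun d hd y hy => ?_
      obtain ⟨hy1, hy2⟩ := mem_inf.1 hy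
      have h1 := mem_centralizer_iff.1 hy2 d hd
      rw [h1, mul_inv_cancel_right]
      exact hy
    rcases hirr p X inf_le_left hn with h1 | h1
    · have h2 : x ∈ X := mem_inf.2 ⟨hx, mem_centralizer_iff.2 hxd⟩
      rwa [h1, mem_bot] at h2
    · exfalso
      apply hne
      intro d hd
      rw [mem_centralizer_iff]
      intro n hn
      have h2 : (p : G) * n * (p : G)⁻¹ ∈ MulAut.conj (p : G) • N := by
        rw [mem_conj]
        have e : (p : G)⁻¹ * ((p : G) * n * (p : G)⁻¹) * p = n := by group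
        rwa [e]
      have h3 : (p : G) * d * (p : G)⁻¹ ∈ MulAut.conj (p : G) • D := by
        rw [mem_conj]
        have e : (p : G)⁻¹ * ((p : G) * d * (p : G)⁻¹) * p = d := by group
        rwa [e]
      rw [← h1] at h2
      have h4 := mem_centralizer_iff.1 (mem_inf.1 h2).2 _ h3
      calc n * d = (p : G)⁻¹ * ((p : G) * n * (p : G)⁻¹ * ((p : G) * d * (p : G)⁻¹)) * p := by group
        _ = (p : G)⁻¹ * ((p : G) * d * (p : G)⁻¹ * ((p : G) * n * (p : G)⁻¹)) * p := by rw [h4]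
        _ = d * n := by group
  have hfixL : ∀ x ∈ L, (∀ p : P, ∀ r ∈ MulAut.conj (p : G) • D, r * x = x * r) → x = 1 := by
    classical
    have := Fintype.ofFinite P
    have key : ∀ s : Finset P, ∀ x ∈ (⨆ p ∈ s, MulAut.conj (p : G) • N : Subgroup G),
        (∀ p : P, ∀ r ∈ MulAut.conj (p : G) • D, r * x = x * r) → x = 1 := by
      intro s
      induction s using Finset.induction_on with
      | empty =>
        intro x hx _
        simpa using hx
      | insert p s hp ih =>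
        intro x hx hxr
        rw [Finset.iSup_insert] at hx
        by_cases hex : ∃ p' ∈ s, MulAut.conj (p' : G) • N = MulAut.conj (p : G) • N
        · obtain ⟨p', hp', h1⟩ := hex
          refine ih x ?_ hxr
          have h2 : MulAut.conj (p : G) • N ≤ (⨆ p ∈ s, MulAut.conj (p : G) • N : Subgroup G) := by
            rw [← h1]
            exact le_iSup₂_of_le (f := fun (p : P) (_ : p ∈ s) => MulAut.conj (p : G) • N) p' hp' le_rfl
          rwa [sup_eq_right.2 h2] at hx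
        · push Not at hex
          set Y : Subgroup G := ⨆ p ∈ s, MulAut.conj (p : G) • N with hY
          have hYV : Y ≤ V := iSup₂_le fun p' _ => hNV p' p'.2
          have hnorm : MulAut.conj (p : G) • N ≤ normalizer (Y : Set G) := by
            refine le_normalizer_of' fun n hn y hy => ?_
            rw [vcomm hVc (hNV p p.2 hn) (hYV hy), mul_inv_cancel_right]
            exact hy
          have hx' : x ∈ ((MulAut.conj (p : G) • N : Subgroup G) : Set G) * (Y : Set G) := by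
            rw [← coe_mul_of_left_le_normalizer_right _ _ hnorm]
            exact hx
          obtain ⟨b, hb, y, hy, rfl⟩ := Set.mem_mul.1 hx'
          -- `D^p` centralises `y`
          have hyd : ∀ d ∈ MulAut.conj (p : G) • D, d * y = y * d := by
            intro d hd
            have h1 : Y ≤ centralizer ({d} : Set G) := by
              refine iSup₂_le fun p' hp' z hz => ?_
              rw [mem_centralizer_singleton_iff]
              exact (((hdis p p').resolve_left (hex p' hp')) d hd z hz).symm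
            exact (mem_centralizer_singleton_iff.1 (h1 hy)).symm
          have hb1 : b = 1 := by
            refine hnofix p b hb fun d hd => ?_
            have h1 := hxr p d hd
            have h2 := hyd d hd
            have h3 : d * b * y = b * d * y := by
              calc d * b * y = d * (b * y) := by group
                _ = b * y * d := h1
                _ = b * (y * d) := by group
                _ = b * (d * y) := by rw [h2]
                _ = b * d * y := by group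
            exact mul_right_cancel h3
          subst hb1
          rw [one_mul] at hxr ⊢
          exact ih y hy hxr
    intro x hx hxr
    refine key Finset.univ x ?_ hxr
    simpa using hL hx
  have hLR : L ⊓ centralizer (R : Set G) = ⊥ := by
    rw [eq_bot_iff]
    intro x hx
    obtain ⟨h1, h2⟩ := mem_inf.1 hx
    rw [mem_bot]
    exact hfixL x h1 fun p r hr => mem_centralizer_iff.1 h2 r (hDR p hr)
  have hVR : V ⊓ centralizer (R : Set G) = ⊥ := by
    by_contra h1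
    refine fix _ inf_le_left h1 ?_ ?_
    · refine le_normalizer_of' fun p hp x hx => ?_
      obtain ⟨h2, h3⟩ := mem_inf.1 hx
      refine mem_inf.2 ⟨hcV p hp x h2, mem_centralizer_iff.2 fun r hr => ?_⟩
      have h4 := (mem_normalizer_iff.1 (inv_mem (hPR hp)) r).1 hr
      rw [inv_inv] at h4
      have h5 := mem_centralizer_iff.1 h3 _ h4
      calc r * (p * x * p⁻¹) = p * (p⁻¹ * r * p * x) * p⁻¹ := by group
        _ = p * (x * (p⁻¹ * r * p)) * p⁻¹ := by rw [h5]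
        _ = _ := by group
    · rw [eq_bot_iff, ← hLR]
      exact le_inf inf_le_right (inf_le_left.trans inf_le_right)
  have hQV := pb hVc hLV hRV hRL hVsq (fun A hA => noOff A (hA.trans hRP)) hDR (fun p => hNLp p p.2) hLi hirr hfixL hVR
    (hQP.trans hPV) hQL (hQP.trans hPR)
  exact fun v hv => hVQ (mem_inf.2 ⟨hv, Subgroup.le_centralizer_iff.1 hQV hv⟩)

end abs

end Cfsg.Agent.Omega.NO3S.SFive

end
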