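import Cfsg.Agent.Mrg.Omega.NO3S.SFive.Lit
import Cfsg.Agent.Mrg.Omega.NO3S.SFive.NatOne
import Cfsg.Agent.Mrg.Omega.NO3S.SFive.PB

section


/-!
# GammaFF (S5): the type data for natural^k, `k ≥ 2` (helper304; #22571, #23152 (4))

`L = zl S P` is the sum of `k ≥ 2` natural `SL₂(F)`-modules, `A`, `B ≤ S` minimal offenders on `L` (full root groups of
one factor).

* `N` = the block of `B`, one cell: `{y t : y ∈ oneG M j}`, where `A^t` is a root group of the block of `B`;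
* `tyd : ∃ N K, TyD S P A B N K`.
-/

set_option autoImplicit false
set_option linter.unusedSectionVars false

namespace Cfsg.Agent.Omega.NO3S.SFive.NatD

open Subgroup Cfsg Cfsg.Agent.ZN Cfsg.Agent.ZN.ChoiceBase
open Cfsg.Agent.Omega.FFThm (NatK NatKM)
open Cfsg.Agent.Omega.Half (Amb)
open Cfsg.Agent.Omega.Half.NatA (fac mem_fac Mv Mv.conj Mv.inv Mv.unique)
open Cfsg.Agent.Omega.NOThreeL.NF (MinOffM)
open Cfsg.Agent.Omega.NOThreeL.NF.NatR
open Cfsg.Agent.Omega.NatPair (ap ap_mul ap_one ap_inv_ap ap_zero' ap_one' ext2 exists_ap dt)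
open Cfsg.Agent.Omega.NO1.NSix (em em_mem e_em_self e_em_ne em_fac em_eq mem_of_em)
open Cfsg.Agent.Lib.SL2Mat
open scoped Pointwise commutatorElement

universe u

variable {G : Type u} [Group G] {F : Type} [Field F] {S P W : Subgroup G} {k : ℕ} {M : NatKM F S P W ⊥ k}
  {hPW : P ≤ normalizer (W : Set G)} {j : Fin k}

theorem rt_le_oneG (hSP : S ≤ P) {R : Subgroup G} (h : Rt M j R) : R ≤ oneG M hPW j := fun a ha =>
  ⟨hSP (h.le ha), (h.acts a ha).imp' up fun _ hc => hc⟩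

theorem conj_le_oneG {R : Subgroup G} (h : R ≤ oneG M hPW j) {y : G} (hy : y ∈ oneG M hPW j) :
    MulAut.conj y • R ≤ oneG M hPW j := by
  rintro _ ⟨a, ha, rfl⟩
  exact mul_mem (mul_mem hy (h ha)) (inv_mem hy)

/-- different lines do not commute -/
theorem not_cent {R : Subgroup G} (hr : Rt M j R) {y y' : G} {X X' : Matrix.SpecialLinearGroup (Fin 2) F}
    (hy : y ∈ P) (hX : Ac M y (Pi.mulSingle j X)) (hy' : y' ∈ P) (hX' : Ac M y' (Pi.mulSingle j X'))
    (hne : dt (ap X' ![1, 0]) (ap X ![1, 0]) ≠ 0) (hPW : P ≤ normalizer (W : Set G)) :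
    ¬ MulAut.conj y • ln M {j} ≤ centralizer ((MulAut.conj y' • R : Subgroup G) : Set G) := by
  intro hc
  obtain ⟨l, hl, hlW, hlj⟩ : ∃ l, l ∈ ln M {j} ∧ l ∈ W ∧ M.e l j = ![1, 0] := by
    obtain ⟨l, hl, hx⟩ := exists_ln (M := M) j 1
    refine ⟨l, hl, hl.1, ?_⟩
    exact ext2 (by rw [hx]; rfl) (by rw [hl.2.1 j]; rfl)
  have h1 : y * l * y⁻¹ ∈ centralizer ((MulAut.conj y' • R : Subgroup G) : Set G) := hc ⟨l, hl, rfl⟩
  have h2 : y'⁻¹ * (y * l * y⁻¹) * y'⁻¹⁻¹ ∈ centralizer (R : Set G) := by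
    refine mem_centralizer_iff.2 fun r hr' => ?_
    have h3 := mem_centralizer_iff.1 h1 (y' * r * y'⁻¹) ⟨r, hr', rfl⟩
    have e1 : r * (y'⁻¹ * (y * l * y⁻¹) * y'⁻¹⁻¹) = y'⁻¹ * ((y' * r * y'⁻¹) * (y * l * y⁻¹)) * y' := by group
    have e2 : y'⁻¹ * (y * l * y⁻¹) * y'⁻¹⁻¹ * r = y'⁻¹ * ((y * l * y⁻¹) * (y' * r * y'⁻¹)) * y' := by group
    rw [e1, e2, h3]
  have hvW : y * l * y⁻¹ ∈ W := cmem hPW hy hlW
  have h3 := hr.zero_of_cent (cmem hPW (inv_mem hy') hvW) h2
  have h4 : Ac M y'⁻¹ (Pi.mulSingle j X'⁻¹) := by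
    rw [Pi.mulSingle_inv]; exact hX'.inv hPW hy'
  rw [ac_self h4 hvW, ac_self hX hlW, hlj, dt_eq_of_ap] at h3
  exact hne h3

theorem ap_e1_ne (X : Matrix.SpecialLinearGroup (Fin 2) F) : ap X ![1, 0] ≠ 0 := by
  intro h
  have h1 := ap_inv_ap X ![1, 0]
  rw [h, Cfsg.Agent.Omega.Half.ap_zero] at h1
  exact zero_ne_one (congrFun h1 0)

theorem dt_symm (x y : Fin 2 → F) : dt x y = -dt y x := by
  simp only [dt]; ring

theorem card_fac (i : Fin k) : Nat.card (fac M.toNatK {i}) = Nat.card F ^ 2 := by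
  have h1 : Nat.card (fac M.toNatK {i}) = Nat.card (Fin 2 → F) :=
    Nat.card_congr (Equiv.ofBijective (fun v : fac M.toNatK {i} => M.e (v : G) i)
      ⟨fun v w h => Subtype.ext (e_inj (M := M) v.2.1 w.2.1 (by
        funext l
        by_cases hl : l = i
        · rw [hl]; exact h
        · rw [v.2.2 l hl, w.2.2 l hl])), fun x => ⟨⟨em M.toNatK i x, em_fac _ _ _⟩, e_em_self _ _ _⟩⟩)
  rw [h1, Nat.card_fun, Nat.card_fin]

/-- `P` moves the blocks. -/
theorem exists_conj_fac (hA : Amb S P W) {p : G} (hp : p ∈ P) {σ : Equiv.Perm (Fin k)} (hσ : Mv M.toNatK p σ)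
    (i : Fin k) : MulAut.conj p • fac M.toNatK {i} = fac M.toNatK {σ i} := by
  apply le_antisymm
  · rintro _ ⟨v, hv, rfl⟩
    have h1 := Mv.conj M.toNatK hA hσ hp hv
    rwa [Set.image_singleton] at h1
  · intro v hv
    have h1 := Mv.conj M.toNatK hA (Mv.inv M.toNatK hA hσ hp) (inv_mem hp) hv
    rw [Set.image_singleton, Equiv.symm_apply_apply] at h1
    refine ⟨_, h1, ?_⟩
    change p * (p⁻¹ * v * p⁻¹⁻¹) * p⁻¹ = v
    group

theorem conj_smul_eq_cj (g : G) (H : Subgroup G) : MulAut.conj g • H = cj g H := rfl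

section cell

variable (M) (hPW) (j)

/-- the cell -/
def cellSet (t : G) : Set G := {a | ∃ y ∈ oneG M hPW j, a = y * t}

/-- the group generated by the cell -/
def KK (A : Subgroup G) (t : G) : Subgroup G := ⨆ _ : Unit, ⨆ a : cellSet M hPW j t, MulAut.conj (a : G) • A

variable {M} {hPW} {j} {A : Subgroup G} {t : G}

theorem conj_cell (y : G) : MulAut.conj (y * t) • A = MulAut.conj y • cj t A := by
  rw [map_mul, mul_smul]; rfl

theorem KK_le (hSP : S ≤ P) (hr : Rt M j (cj t A)) : KK M hPW j A t ≤ oneG M hPW j := by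
  refine iSup_le fun _ => iSup_le fun a => ?_
  obtain ⟨a, y, hy, rfl⟩ := a
  change MulAut.conj (y * t) • A ≤ _
  rw [conj_cell]
  exact conj_le_oneG (rt_le_oneG hSP hr) hy

theorem conj_le_KK {y : G} (hy : y ∈ oneG M hPW j) : MulAut.conj y • cj t A ≤ KK M hPW j A t := by
  rw [← conj_cell]
  have h : y * t ∈ cellSet M hPW j t := ⟨y, hy, rfl⟩
  exact (le_iSup (fun a : cellSet M hPW j t => MulAut.conj (a : G) • A) ⟨_, h⟩).trans
    (le_iSup (fun _ : Unit => ⨆ a : cellSet M hPW j t, MulAut.conj (a : G) • A) ())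

/-- A group `H ≤ oneG` which contains `R` and the conjugates of `R` under `w`, `w` acting as `wm 1`. -/
theorem fl_of {H R : Subgroup G} (hle : H ≤ oneG M hPW j) (hr : Rt M j R) {w : G} (hw : w ∈ P)
    (hwac : Ac M w (Pi.mulSingle j (wm 1 one_ne_zero))) (hSP : S ≤ P) (h1 : R ≤ H)
    (h2 : MulAut.conj w • R ≤ H) : Fl M hPW j H := by
  refine Fl.of hle (fun c => ?_) fun c => ?_
  · obtain ⟨a, ha, hac⟩ := hr.ex c
    exact ⟨a, h1 ha, hac⟩
  · obtain ⟨a, ha, hac⟩ := hr.ex (-c)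
    have hc := ac_single_conj hPW hw (hSP (hr.le ha)) hwac hac
    refine ⟨w * a * w⁻¹, h2 ⟨a, ha, rfl⟩, ?_⟩
    have e : wm 1 one_ne_zero * up (-c) * (wm (1 : F) one_ne_zero)⁻¹ = lo c := by
      rw [wm_up, mul_inv_cancel_right]
      congr 1
      ring
    rwa [e] at hc

theorem fl_KK (hSP : S ≤ P) (hr : Rt M j (cj t A)) : Fl M hPW j (KK M hPW j A t) := by
  obtain ⟨w, hw, hwac⟩ := lift_ac (M := M) (Pi.mulSingle j (wm 1 one_ne_zero))
  refine fl_of (KK_le hSP hr) hr hw hwac hSP ?_ (conj_le_KK ⟨hw, _, hwac⟩)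
  have h1 := conj_le_KK (M := M) (hPW := hPW) (j := j) (A := A) (t := t) (one_mem _)
  rwa [map_one, one_smul] at h1

theorem fl_Lam (hSP : S ≤ P) {B K : Subgroup G} (hK : Fl M hPW j K) (hr : Rt M j B) : Fl M hPW j (Lam B K) := by
  obtain ⟨w, hwK, hwac⟩ := hK.ex (wm 1 one_ne_zero)
  refine fl_of (iSup_le fun y => conj_le_oneG (rt_le_oneG hSP hr) (hK.le y.2)) hr (hK.le hwK).1 hwac hSP ?_ ?_
  · have h1 : MulAut.conj ((1 : K) : G) • B ≤ Lam B K := le_iSup (fun y : K => MulAut.conj (y : G) • B) 1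
    rwa [OneMemClass.coe_one, map_one, one_smul] at h1
  · exact le_iSup (fun y : K => MulAut.conj (y : G) • B) ⟨w, hwK⟩

end cell

/-- **The type data** for natural^k, `k ≥ 2`. -/
theorem tyd [Finite G] [Finite F] [CharP F 2] {A B : Subgroup G} (M : NatKM F S P (zl S P) ⊥ k) (hk : 2 ≤ k)
    (hAmb : Amb S P (zl S P)) (hA : MinOffM (zl S P) S A) (hB : MinOffM (zl S P) S B) :
    ∃ N K, TyD S P A B N K := by
  have hPW := hAmb.HV
  have hSP := hAmb.TH
  obtain ⟨j, hj⟩ := Rt.of (M := M) hPW hSP hB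
  obtain ⟨i, hi⟩ := Rt.of (M := M) hPW hSP hA
  obtain ⟨t, ht, hr⟩ := exists_rt (M := M) hPW hSP hA hi j
  have hW2 : (2 : ℕ) ≤ k := hk
  have hKle := KK_le (hPW := hPW) hSP hr
  have hBle := rt_le_oneG (hPW := hPW) hSP hj
  have hFK := fl_KK (hPW := hPW) hSP hr
  have hFL := fl_Lam hSP hFK hj
  have hLle : Der B (KK M hPW j A t) ≤ oneG M hPW j := (commutator_le_self _).trans hFL.le
  -- the centre of the cell members
  have hrho : ∀ y, MulAut.conj (y * t) • ⁅zl S P, A⁆ = MulAut.conj y • ln M {j} := by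
    intro y
    rw [map_mul, mul_smul]
    have h1 : MulAut.conj t • ⁅zl S P, A⁆ = ln M {j} := by
      have h2 := hr.comm_eq hPW hSP
      rw [comm_cj t (hPW (hSP ht))] at h2
      exact h2
    rw [h1]
  have hcell : ∀ y, MulAut.conj (y * t) • A = MulAut.conj y • cj t A := fun y => conj_cell y
  refine ⟨fac M.toNatK {j}, KK M hPW j A t, ?_⟩
  refine
    { NL := fun v hv => hv.1
      BN := ?_
      KN := hKle.trans oneG_norm
      cells := ?_
      irr := ?_
      nt := ?_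
      dis := ?_
      gen := ?_ }
  · rw [hj.comm_eq hPW hSP]
    exact fun v hv => ⟨hv.1, hv.2.2⟩
  · refine ⟨Unit, fun _ => cellSet M hPW j t, ?_, rfl, ?_, ?_, ?_⟩
    · rintro _ _ ⟨y, hy, rfl⟩
      exact mul_mem (oneG_le hy) (hSP ht)
    · rintro _ _ ⟨ya, ⟨hya, Xa, hXa⟩, rfl⟩ _ ⟨yb, ⟨hyb, Xb, hXb⟩, rfl⟩
      obtain ⟨z, hz1, hz2⟩ := exists_third (ap_e1_ne Xb) (ap_e1_ne Xa)
      have hz0 : z ≠ 0 := by
        rintro rfl
        apply hz1
        simp [dt]
      have h10 : (![1, 0] : Fin 2 → F) ≠ 0 := fun h => one_ne_zero (congrFun h 0)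
      obtain ⟨Xd, hXd⟩ := exists_ap h10 hz0
      obtain ⟨yd, hyd, hXdac⟩ := lift_ac (M := M) (Pi.mulSingle j Xd)
      refine ⟨yd * t, ⟨yd, ⟨hyd, Xd, hXdac⟩, rfl⟩, ?_, ?_⟩
      · rw [hrho, hcell]
        refine not_cent hr hya hXa hyd hXdac ?_ hPW
        rw [hXd]
        exact hz2
      · rw [hrho, hcell]
        refine not_cent hr hyd hXdac hyb hXb ?_ hPW
        rw [hXd]
        exact hz1
    · intro _
      obtain ⟨w, hw, hwac⟩ := lift_ac (M := M) (Pi.mulSingle j (wm 1 one_ne_zero))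
      refine ⟨w * t, ⟨w, ⟨hw, _, hwac⟩, rfl⟩, ?_⟩
      rw [hrho]
      have h1 := not_cent hj hw hwac (one_mem _) (X' := 1)
        (by rw [Pi.mulSingle_one]; exact ac_one (one_mem _)) ?_ hPW
      · rwa [map_one, one_smul] at h1
      · rw [ap_one]
        simp only [dt, ap_zero', ap_one', wm_10, wm_11]
        simp
    · intro _
      obtain ⟨i', hi'⟩ : ∃ i' : Fin k, i' ≠ j := by
        by_contra hcon
        push Not at hcon
        have h1 : Fintype.card (Fin k) ≤ 1 := Fintype.card_le_one_iff.2 fun a b => by rw [hcon a, hcon b]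
        rw [Fintype.card_fin] at h1
        omega
      have hCc : fac M.toNatK {i'} ≤ centralizer (oneG M hPW j : Set G) := fun v hv =>
        cent_oneG hv.1 (hv.2 j fun h => hi' h.symm)
      refine ⟨fac M.toNatK {i'}, fun v hv => hv.1, hCc.trans (centralizer_le hBle), ?_, ?_⟩
      · rintro _ ⟨y, hy, rfl⟩
        rw [hcell]
        exact hCc.trans (centralizer_le (conj_le_oneG (rt_le_oneG hSP hr) hy))
      · rw [hj.comm_eq hPW hSP, card_ln, card_fac]
        have h2 : 1 < Nat.card F := Finite.one_lt_card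
        nlinarith
  · intro U hU hne hn
    exact hFL.irr hU hne hn
  · exact hFL.nt
  · intro p hp
    obtain ⟨σ, hσ⟩ := M.perm p hp
    rw [exists_conj_fac hAmb hp hσ]
    by_cases h1 : σ j = j
    · left; rw [h1]
    · right
      refine hLle.trans (le_centralizer_iff.1 fun v hv => cent_oneG hv.1 (hv.2 j fun h => h1 h.symm))
  · intro v hv
    refine mem_of_em M.toNatK hv fun i => ?_
    obtain ⟨s, hs, hsi⟩ := M.trans j i
    obtain ⟨σ, hσ⟩ := M.perm s (hSP hs)
    have h1 : σ j = i := Mv.unique M.toNatK hAmb hσ (hSP hs) hsi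
    have h2 := exists_conj_fac hAmb (hSP hs) hσ j
    rw [h1] at h2
    have h3 : em M.toNatK i (M.e v i) ∈ fac M.toNatK {i} := em_fac _ _ _
    rw [← h2] at h3
    exact (le_iSup (fun p : P => MulAut.conj (p : G) • fac M.toNatK {j}) ⟨s, hSP hs⟩) h3

end Cfsg.Agent.Omega.NO3S.SFive.NatD

end

section


/-!
# GammaFF (S5): the end (#22571 (4), (5))

`OutD.false` : `OutD` (the output of #22081), `TyD` (the type data), `Small V (Cls M F)` and the frame ⟹ `False`.
-/

set_option autoImplicit false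
set_option linter.unusedSectionVars false

namespace Cfsg.Agent.Omega.NO3S.SFive

open Subgroup Cfsg Cfsg.Agent.ZN
open Cfsg.Agent.Omega.NOne.Flat (Hyp EE WW)
open Cfsg.Agent.Omega.FFThm (OffM)
open Cfsg.Agent.Omega.NoFF.Basic (conj_conj mem_conj conj_le_iff)
open scoped Pointwise commutatorElement

universe u

variable {G : Type u} [Group G] [Finite G] {S : Sylow 2 G} {P V M F F' B s N K : Subgroup G}

/-- A nontrivial `S`-invariant subgroup of `V ≤ S` meets `Ω₁(Z(S))`. -/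
theorem exists_fix {U : Subgroup G} (hU : U ≤ (S : Subgroup G)) (hsq : ∀ v ∈ U, v ^ 2 = 1) (hne : U ≠ ⊥)
    (hn : (S : Subgroup G) ≤ normalizer (U : Set G)) : U ⊓ zc (S : Subgroup G) ≠ ⊥ := by
  obtain ⟨x, hx, hx1, hxf⟩ := NOThreeL.AdjTransv.exists_fixed (S := (S : Subgroup G)) (N := U) S.isPGroup' hne
    (fun n hn => by rw [← pow_two]; exact hsq n hn) (fun s hs n hn' => (mem_normalizer_iff.1 (hn hs) n).1 hn')
  intro h1
  have h2 : x ∈ U ⊓ zc (S : Subgroup G) :=
    mem_inf.2 ⟨hx, ChoiceBase.mem_zc.2 ⟨hU hx, hsq x hx, fun y hy => mul_inv_eq_iff_eq_mul.1 (hxf y hy)⟩⟩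
  rw [h1, mem_bot] at h2
  exact hx1 h2

/-- **(S5) is impossible**, over the type data. -/
theorem OutD.false (o : OutD S P V M F F' B s) (t : TyD (S : Subgroup G) P (WW V F) B N K)
    (hs : Small V (Cls M F)) (hVS : V ≤ (S : Subgroup G)) (hSP : (S : Subgroup G) ≤ P) (hPM : P ≤ M)
    (hMV : M ≤ normalizer (V : Set G)) (hLV : zl (S : Subgroup G) P ≤ V) (hne : ¬ V ≤ zl (S : Subgroup G) P)
    (hQL : o2 P ≤ centralizer (zl (S : Subgroup G) P : Set G))
    (t6 : V ⊓ centralizer (o2 P : Set G) ≤ zl (S : Subgroup G) P)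
    (noOff : ∀ A : Subgroup G, A ≤ normalizer (V : Set G) → ¬ OffM V A) : False := by
  have hPV := hPM.trans hMV
  have hPL : P ≤ normalizer (zl (S : Subgroup G) P : Set G) := Cfsg.Agent.MinSimple.VModule.le_normalizer_zl _ _
  have hKP : K ≤ P := by
    obtain ⟨γ, c, hcP, rfl, -⟩ := t.cells
    refine iSup_le fun i => iSup_le fun a => ?_
    rintro x hx
    rw [mem_conj] at hx
    have haP := hcP i a a.2
    have h1 := mul_mem (mul_mem haP (hSP (o.WS hx))) (inv_mem haP)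
    have e : (a : G) * ((a : G)⁻¹ * x * a) * (a : G)⁻¹ = x := by group
    rwa [e] at h1
  have hBP : B ≤ P := o.BS.trans hSP
  have hBN : B ≤ normalizer (N : Set G) := by
    refine le_normalizer_of' fun b hb n hn => ?_
    have h1 : ⁅n, b⁆ ∈ N := t.BN (commutator_mem_commutator (t.NL hn) hb)
    have e : b * n * b⁻¹ = ⁅n, b⁆⁻¹ * n := by rw [commutatorElement_def]; group
    rw [e]
    exact mul_mem (inv_mem h1) hn
  have hF'V := o.F'_le_V hMV
  have ld : Ld V N s B K :=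
    { Vc := fun x hx y hy => (mem_centralizer_iff.1 (o.hyp.comm hx) y hy).symm
      NV := t.NL.trans hLV
      sV := o.ctr'.le.trans hF'V
      BV := hBP.trans hPV
      BN := hBN
      KV := hKP.trans hPV
      KN := t.KN
      Bs := le_centralizer_iff.1 o.sB
      Ks := o.cent_s hMV hPM hSP hLV hs t
      comm := o.comm.trans (sup_le_sup_left t.BN s) }
  have hDP : Der B K ≤ P := by
    rw [Der, commutator_le]
    intro a ha b hb
    have h1 := ld.Lam_le hBP hKP ha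
    have h2 := ld.Lam_le hBP hKP hb
    rw [commutatorElement_def]
    exact mul_mem (mul_mem (mul_mem h1 h2) (inv_mem h1)) (inv_mem h2)
  have hDN : Der B K ≤ normalizer (N : Set G) := by
    rw [Der, commutator_le]
    intro a ha b hb
    have h1 := ld.N_le ha
    have h2 := ld.N_le hb
    rw [commutatorElement_def]
    exact mul_mem (mul_mem (mul_mem h1 h2) (inv_mem h1)) (inv_mem h2)
  have hVD : ⁅V, Der B K⁆ ≤ zl (S : Subgroup G) P := by
    rw [commutator_le]
    intro v hv d hd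
    have h1 := t.NL (ld.der hd hv)
    have e : ⁅v, d⁆ = (d * v * d⁻¹ * v⁻¹)⁻¹ := by rw [commutatorElement_def]; group
    rw [e]
    exact inv_mem h1
  refine hne (pbN o.hyp.comm o.hyp.sq hPV hPL hLV (ZN.o2_le P) hQL t6 hDP t.NL t.gen t.irr hDN t.nt t.dis hVD ?_
    fun A hA => noOff A (hA.trans hPV))
  intro U hU hU1 hPU
  have h1 := exists_fix (hU.trans hVS) (fun v hv => o.hyp.sq v (hU hv)) hU1 (hSP.trans hPU)
  intro h2
  apply h1
  rw [eq_bot_iff, ← h2]
  exact inf_le_inf le_rfl (Cfsg.Agent.MinSimple.VModule.zc_le_zl _ _)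

end Cfsg.Agent.Omega.NO3S.SFive

end
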