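import Cfsg.Agent.Mrg.Omega.NOne.Flat.Conj
import Cfsg.Agent.Mrg.Omega.NOThreeL.Star

section


/-!
# GammaFF (S5): the literals (helper422, THEOREM (S5) #22571)

`V = X₀`, `L = V_P`, `F` a maximal bad subgroup, `E_F`, `W_F` (`NOne/Flat/Base.lean`).

* `Ctr V F ρ` : `ρ ≤ F`, and every `W_F`-invariant `Y ≤ E_F`, `Y ≰ F`, contains `ρ`
  [`[r, W_F] = ρ` for `r ∈ I - F`, `[e, B_F] = ρ` for `e ∈ E - I`];
* `OutD S P V M F F' B s` : the output of #22081 (2), (7): `F` is active at `S` (`W_F ≤ S` is ONE root group / one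
  transposition on `L`: `MinOffM`), `F'` is an `M`-conjugate of `F`, `B = B_F' ≤ S` is one root group / one
  transposition on `L`, `L ∩ E' ≤ C(B)`, `[L, B] ∩ F' = 1`, `s = [E', B]`, `[V, B] ≤ s [L, B]`,
  `|C_V(B) : F'| ≤ |[L, B]|`;
* `Small V 𝓕` : THEOREM SMALL (helper58 #21256 (4)).
-/

set_option autoImplicit false

namespace Cfsg.Agent.Omega.NO3S.SFive

open Subgroup Cfsg Cfsg.Agent.ZN
open Cfsg.Agent.Omega.NOne.Flat (Hyp EE WW)
open Cfsg.Agent.Omega.NOThreeL.NF (MinOffM)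
open scoped Pointwise

universe u

variable {G : Type u} [Group G]

/-- `ρ` is the centre of `W_F`. -/
structure Ctr (V F ρ : Subgroup G) : Prop where
  le : ρ ≤ F
  mem : ∀ Y : Subgroup G, Y ≤ EE V F → WW V F ≤ normalizer (Y : Set G) → ¬ Y ≤ F → ρ ≤ Y

/-- The output of #22081 (2), (7). -/
structure OutD [Finite G] (S : Sylow 2 G) (P V M F F' B s : Subgroup G) : Prop where
  hyp : Hyp V F
  WS : WW V F ≤ (S : Subgroup G)
  min : MinOffM (zl (S : Subgroup G) P) (S : Subgroup G) (WW V F)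
  ctr : Ctr V F ⁅zl (S : Subgroup G) P, WW V F⁆
  conj : ∃ m ∈ M, F' = MulAut.conj m • F
  BS : B ≤ (S : Subgroup G)
  minB : MinOffM (zl (S : Subgroup G) P) (S : Subgroup G) B
  BE : zl (S : Subgroup G) P ⊓ EE V F' ≤ centralizer (B : Set G)
  dis : ⁅zl (S : Subgroup G) P, B⁆ ⊓ F' = ⊥
  ctr' : Ctr V F' s
  sB : s ≤ centralizer (B : Set G)
  comm : ⁅V, B⁆ ≤ s ⊔ ⁅zl (S : Subgroup G) P, B⁆
  idx : F'.relIndex (V ⊓ centralizer (B : Set G)) ≤ Nat.card ↥(⁅zl (S : Subgroup G) P, B⁆ : Subgroup G)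

/-- **THEOREM SMALL** for the class `𝓕`: if every `Y` with `Y ≤ E_F`, `W_F ≤ N(Y)` for all `F ∈ 𝒳` lies in all `F ∈ 𝒳`,
then the intersection of the `F ∈ 𝒳` is trivial. -/
def Small (V : Subgroup G) (𝓕 : Set (Subgroup G)) : Prop :=
  ∀ 𝒳 ⊆ 𝓕, 𝒳.Nonempty →
    (∀ Y : Subgroup G, (∀ F ∈ 𝒳, Y ≤ EE V F ∧ WW V F ≤ normalizer (Y : Set G)) → ∀ F ∈ 𝒳, Y ≤ F) →
      ∀ v : G, (∀ F ∈ 𝒳, v ∈ F) → v = 1

/-- The class of `F`. -/
def Cls (M F : Subgroup G) : Set (Subgroup G) := {F' | ∃ m ∈ M, F' = MulAut.conj m • F}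

end Cfsg.Agent.Omega.NO3S.SFive

end

section


/-!
# GammaFF (S5): the cell lemma (#22571 (1)-(3))

* `Ctr.conj` : conjugation;
* `cell` : a family `(F_i, ρ_i)` with `two`, `out` and a common fixed vector `v ∈ F'`: all `W_i` centralise `s`;
* `TyD` : the type data; `OutD.cent_s` : `K ≤ C(s)`.
-/

set_option autoImplicit false

namespace Cfsg.Agent.Omega.NO3S.SFive

open Subgroup Cfsg Cfsg.Agent.ZN
open Cfsg.Agent.Omega.NOne.Flat (Hyp EE WW conj_eq_of_norm EE_conj WW_conj conj_centralizer)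
open Cfsg.Agent.Omega.NOThreeL.NF (MinOffM)
open Cfsg.Agent.Omega.NoFF.Basic (conj_conj mem_conj conj_le_iff conj_le_centralizer)
open scoped Pointwise commutatorElement

universe u

variable {G : Type u} [Group G]

theorem conj_normalizer_le {m : G} {W Y : Subgroup G} :
    MulAut.conj m • W ≤ normalizer (Y : Set G) ↔ W ≤ normalizer ((MulAut.conj m⁻¹ • Y : Subgroup G) : Set G) := by
  constructor
  · intro h w hw
    rw [mem_normalizer_iff]
    intro y
    rw [mem_conj, mem_conj, inv_inv]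
    have h1 : m * w * m⁻¹ ∈ normalizer (Y : Set G) := h (by rw [mem_conj]; simpa [mul_assoc] using hw)
    have h2 := mem_normalizer_iff.1 h1 (m * y * m⁻¹)
    have e : m * w * m⁻¹ * (m * y * m⁻¹) * (m * w * m⁻¹)⁻¹ = m * (w * y * w⁻¹) * m⁻¹ := by group
    rw [e] at h2
    exact h2
  · intro h x hx
    rw [mem_conj] at hx
    have h1 := h hx
    rw [mem_normalizer_iff]
    intro y
    have h2 := mem_normalizer_iff.1 h1 (m⁻¹ * y * m)
    rw [mem_conj, mem_conj, inv_inv] at h2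
    have e1 : m * (m⁻¹ * y * m) * m⁻¹ = y := by group
    have e2 : m * (m⁻¹ * x * m * (m⁻¹ * y * m) * (m⁻¹ * x * m)⁻¹) * m⁻¹ = x * y * x⁻¹ := by group
    rw [e1, e2] at h2
    exact h2

theorem comm_le_left {A B : Subgroup G} (h : B ≤ normalizer (A : Set G)) : ⁅A, B⁆ ≤ A := by
  rw [commutator_le]
  intro l hl w hw
  have h9 := (mem_normalizer_iff.1 (h hw) l⁻¹).1 (inv_mem hl)
  have e : ⁅l, w⁆ = l * (w * l⁻¹ * w⁻¹) := by rw [commutatorElement_def]; group
  rw [e]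
  exact mul_mem hl h9

theorem Ctr.conj {V F ρ : Subgroup G} (h : Ctr V F ρ) {m : G} (hm : m ∈ normalizer (V : Set G)) :
    Ctr V (MulAut.conj m • F) (MulAut.conj m • ρ) where
  le := conj_le_iff.2 h.le
  mem := by
    intro Y hY hW hF
    rw [← EE_conj hm] at hY
    rw [← WW_conj hm, conj_normalizer_le] at hW
    have h1 : MulAut.conj m⁻¹ • Y ≤ EE V F := by
      have := conj_le_iff (g := m⁻¹).2 hY
      rwa [conj_conj, inv_mul_cancel, map_one, one_smul] at this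
    have h2 := h.mem _ h1 hW (fun h3 => hF (by
      have := conj_le_iff (g := m).2 h3
      rwa [conj_conj, mul_inv_cancel, map_one, one_smul] at this))
    have := conj_le_iff (g := m).2 h2
    rwa [conj_conj, mul_inv_cancel, map_one, one_smul] at this

/-- **The cell lemma.** -/
theorem cell {V F' s : Subgroup G} {𝓕 : Set (Subgroup G)} (hs : Small V 𝓕) (hF' : F' ∈ 𝓕) (c' : Ctr V F' s)
    {ι : Type*} (F ρ : ι → Subgroup G) (hF : ∀ i, F i ∈ 𝓕) (hc : ∀ i, Ctr V (F i) (ρ i))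
    (two : ∀ a b, ∃ d, ¬ ρ a ≤ F d ∧ ¬ ρ d ≤ F b) (out : ∃ a, ¬ ρ a ≤ EE V F')
    {v : G} (hv : v ≠ 1) (hvF' : v ∈ F') (hvF : ∀ i, v ∈ F i) (i : ι) : s ≤ F i := by
  by_contra hsi
  refine hv (hs (insert F' (Set.range F)) ?_ ⟨F', Set.mem_insert _ _⟩ ?_ v ?_)
  · rintro _ (rfl | ⟨j, rfl⟩)
    · exact hF'
    · exact hF j
  · intro Y hY
    have hY' := hY F' (Set.mem_insert _ _)
    have hYi : ∀ j, Y ≤ EE V (F j) ∧ WW V (F j) ≤ normalizer (Y : Set G) := fun j =>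
      hY _ (Set.mem_insert_of_mem _ ⟨j, rfl⟩)
    -- one centre in `Y` gives all centres in `Y`
    have key : ∀ a, ¬ Y ≤ F a → False := by
      intro a ha
      have h1 : ρ a ≤ Y := (hc a).mem Y (hYi a).1 (hYi a).2 ha
      have hall : ∀ b, ρ b ≤ Y := by
        intro b
        obtain ⟨d, hd1, hd2⟩ := two a b
        have h2 : ρ d ≤ Y := (hc d).mem Y (hYi d).1 (hYi d).2 fun h3 => hd1 (h1.trans h3)
        exact (hc b).mem Y (hYi b).1 (hYi b).2 fun h3 => hd2 (h2.trans h3)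
      obtain ⟨b, hb⟩ := out
      exact hb ((hall b).trans hY'.1)
    rintro _ (rfl | ⟨j, rfl⟩)
    · by_contra hYF
      have h1 : s ≤ Y := c'.mem Y hY'.1 hY'.2 hYF
      exact key i fun h2 => hsi (h1.trans h2)
    · by_contra hYF
      exact key j hYF
  · rintro _ (rfl | ⟨j, rfl⟩)
    · exact hvF'
    · exact hvF j

/-- `Λ = ⟨B^y : y ∈ K⟩` -/
def Lam (B K : Subgroup G) : Subgroup G := ⨆ y : K, MulAut.conj (y : G) • B

/-- The derived group of `Λ`. -/
def Der (B K : Subgroup G) : Subgroup G := ⁅Lam B K, Lam B K⁆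

/-- **The type data** (#22571 (2), (3), (5)): `A`, `B ≤ S` root groups (transpositions) on `L = zl S P`, `N` the block of
`B`, `K` generated by `P`-conjugates of `A`. -/
structure TyD (S P A B N K : Subgroup G) : Prop where
  NL : N ≤ zl S P
  BN : ⁅zl S P, B⁆ ≤ N
  KN : K ≤ normalizer (N : Set G)
  cells : ∃ (γ : Type) (c : γ → Set G), (∀ i, ∀ a ∈ c i, a ∈ P) ∧
    K = (⨆ i, ⨆ a : c i, MulAut.conj (a : G) • A) ∧
    (∀ i, ∀ a ∈ c i, ∀ b ∈ c i, ∃ d ∈ c i,
      ¬ MulAut.conj a • ⁅zl S P, A⁆ ≤ centralizer ((MulAut.conj d • A : Subgroup G) : Set G) ∧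
      ¬ MulAut.conj d • ⁅zl S P, A⁆ ≤ centralizer ((MulAut.conj b • A : Subgroup G) : Set G)) ∧
    (∀ i, ∃ a ∈ c i, ¬ MulAut.conj a • ⁅zl S P, A⁆ ≤ centralizer (B : Set G)) ∧
    ∀ i, ∃ C : Subgroup G, C ≤ zl S P ∧ C ≤ centralizer (B : Set G) ∧
      (∀ a ∈ c i, C ≤ centralizer ((MulAut.conj a • A : Subgroup G) : Set G)) ∧
      Nat.card ↥(⁅zl S P, B⁆ : Subgroup G) < Nat.card C
  irr : ∀ U : Subgroup G, U ≤ N → U ≠ ⊥ → Der B K ≤ normalizer (U : Set G) → N ≤ U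
  nt : ¬ Der B K ≤ centralizer (N : Set G)
  dis : ∀ p ∈ P, MulAut.conj p • N = N ∨ Der B K ≤ centralizer ((MulAut.conj p • N : Subgroup G) : Set G)
  gen : zl S P ≤ ⨆ p : P, MulAut.conj (p : G) • N

section main

variable [Finite G] {S : Sylow 2 G} {P V M F F' B s : Subgroup G}

theorem OutD.F'_le_V (o : OutD S P V M F F' B s) (hMV : M ≤ normalizer (V : Set G)) : F' ≤ V := by
  obtain ⟨m, hm, rfl⟩ := o.conj
  rw [← conj_eq_of_norm (hMV hm)]
  exact conj_le_iff.2 o.hyp.F_le_V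

/-- `s` is centralised by `K`. -/
theorem OutD.cent_s (o : OutD S P V M F F' B s) (hMV : M ≤ normalizer (V : Set G)) (hPM : P ≤ M)
    (hSP : (S : Subgroup G) ≤ P)
    (hLV : zl (S : Subgroup G) P ≤ V) (hs : Small V (Cls M F)) {N K : Subgroup G}
    (t : TyD (S : Subgroup G) P (WW V F) B N K) : K ≤ centralizer (s : Set G) := by
  obtain ⟨γ, c, hcP, rfl, htwo, hout, hfx⟩ := t.cells
  have hPV := hPM.trans hMV
  -- `conj a • F` is centralised by `conj a • W`
  have hFW : ∀ a ∈ P, MulAut.conj a • F ≤ centralizer ((MulAut.conj a • WW V F : Subgroup G) : Set G) := by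
    intro a _
    rw [← conj_centralizer]
    exact conj_le_iff.2 (le_centralizer_iff.1 Hyp.W_le_X)
  have hFW' : ∀ a ∈ P, V ⊓ centralizer ((MulAut.conj a • WW V F : Subgroup G) : Set G) ≤ MulAut.conj a • F := by
    intro a ha
    have h1 : V ⊓ centralizer (WW V F : Set G) = F := o.hyp.cent_VW
    have h2 : MulAut.conj a • (V ⊓ centralizer (WW V F : Set G)) = MulAut.conj a • F := by rw [h1]
    rw [← h2, Subgroup.smul_inf, conj_eq_of_norm (hPV ha), conj_centralizer]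
  refine iSup_le fun i => iSup_le fun a => ?_
  obtain ⟨a, ha⟩ := a
  obtain ⟨C, hCL, hCB, hCA, hcard⟩ := hfx i
  -- a fixed vector in `F'`
  obtain ⟨v, hv, hvC, hvF'⟩ : ∃ v, v ≠ 1 ∧ v ∈ C ∧ v ∈ F' := by
    by_contra hcon
    push Not at hcon
    have h1 : C ⊓ F' = ⊥ := by
      rw [eq_bot_iff]
      rintro x ⟨hx1, hx2⟩
      by_contra hx
      exact hcon x (fun h => hx (by rw [h]; exact one_mem _)) hx1 hx2
    have h2 : F'.relIndex C = Nat.card C := by
      rw [← inf_relIndex_right, inf_comm, h1, relIndex_bot_left]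
    have h3 : F'.relIndex C ≤ F'.relIndex (V ⊓ centralizer (B : Set G)) :=
      relIndex_le_of_le_right (le_inf (hCL.trans hLV) hCB) index_ne_zero_of_finite
    have h4 := o.idx
    omega
  have h5 : s ≤ MulAut.conj a • F := by
    have hF'c : F' ∈ Cls M F := o.conj
    refine cell hs hF'c o.ctr' (ι := c i) (fun a => MulAut.conj (a : G) • F)
      (fun a => MulAut.conj (a : G) • ⁅zl (S : Subgroup G) P, WW V F⁆) ?_ ?_ ?_ ?_ hv hvF' ?_ ⟨a, ha⟩
    · exact fun j => ⟨j, hPM (hcP i j j.2), rfl⟩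
    · exact fun j => o.ctr.conj (hPV (hcP i j j.2))
    · intro x y
      obtain ⟨d, hd, h6, h7⟩ := htwo i x x.2 y y.2
      exact ⟨⟨d, hd⟩, fun h8 => h6 (h8.trans (hFW d (hcP i d hd))), fun h8 => h7 (h8.trans (hFW y (hcP i y y.2)))⟩
    · obtain ⟨b, hb, h6⟩ := hout i
      refine ⟨⟨b, hb⟩, fun h8 => h6 ?_⟩
      refine le_trans (le_inf ?_ h8) o.BE
      have hbL : MulAut.conj b • zl (S : Subgroup G) P = zl (S : Subgroup G) P :=
        conj_eq_of_norm (Cfsg.Agent.MinSimple.VModule.le_normalizer_zl _ _ (hcP i b hb))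
      have h9 : ⁅zl (S : Subgroup G) P, WW V F⁆ ≤ zl (S : Subgroup G) P :=
        comm_le_left (o.WS.trans (hSP.trans (Cfsg.Agent.MinSimple.VModule.le_normalizer_zl _ _)))
      have h10 := conj_le_iff (g := b).2 h9
      rwa [hbL] at h10
    · exact fun j => hFW' j (hcP i j j.2) ⟨hLV (hCL hvC), hCA j j.2 hvC⟩
  exact le_centralizer_iff.1 (h5.trans (hFW a (hcP i a ha)))

end main

end Cfsg.Agent.Omega.NO3S.SFive

end

section


/-!
# GammaFF (S5): `[V, Λ'] ≤ N` (#22571 (4))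

`B` acts on `V` with `[V, B] ≤ s N`, `K` centralises `s`, `Λ = ⟨B^y : y ∈ K⟩`: `Λ` is trivial on `V / sN` and centralises
`s`, so `Λ'` is trivial on `V / N`.
-/

set_option autoImplicit false
set_option linter.unusedSectionVars false

namespace Cfsg.Agent.Omega.NO3S.SFive

open Subgroup Cfsg
open Cfsg.Agent.Omega.NoFF.Basic (conj_conj mem_conj conj_le_iff)
open scoped Pointwise commutatorElement

universe u

variable {G : Type u} [Group G] {V N s B K : Subgroup G}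

theorem mem_sup_comm {A B : Subgroup G} (h : ∀ a ∈ A, ∀ b ∈ B, a * b = b * a) {x : G}
    (hx : x ∈ A ⊔ B) : ∃ a ∈ A, ∃ b ∈ B, x = a * b := by
  let T : Subgroup G :=
    { carrier := {x | ∃ a ∈ A, ∃ b ∈ B, x = a * b}
      one_mem' := ⟨1, one_mem _, 1, one_mem _, by simp⟩
      mul_mem' := by
        rintro _ _ ⟨a, ha, b, hb, rfl⟩ ⟨c, hc, d, hd, rfl⟩
        refine ⟨a * c, mul_mem ha hc, b * d, mul_mem hb hd, ?_⟩
        have e := h c hc b hb
        calc a * b * (c * d) = a * (b * c) * d := by group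
          _ = a * (c * b) * d := by rw [e]
          _ = _ := by group
      inv_mem' := by
        rintro _ ⟨a, ha, b, hb, rfl⟩
        refine ⟨a⁻¹, inv_mem ha, b⁻¹, inv_mem hb, ?_⟩
        rw [mul_inv_rev, h a⁻¹ (inv_mem ha) b⁻¹ (inv_mem hb)] }
  exact (sup_le (fun a ha => ⟨a, ha, 1, one_mem _, by simp⟩) fun b hb => ⟨1, one_mem _, b, hb, by simp⟩ :
    A ⊔ B ≤ T) hx

/-- `B` acts on `V` through `s N`. -/
structure Ld (V N s B K : Subgroup G) : Prop where
  Vc : ∀ x ∈ V, ∀ y ∈ V, x * y = y * x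
  NV : N ≤ V
  sV : s ≤ V
  BV : B ≤ normalizer (V : Set G)
  BN : B ≤ normalizer (N : Set G)
  KV : K ≤ normalizer (V : Set G)
  KN : K ≤ normalizer (N : Set G)
  Bs : B ≤ centralizer (s : Set G)
  Ks : K ≤ centralizer (s : Set G)
  comm : ⁅V, B⁆ ≤ s ⊔ N

namespace Ld

variable (h : Ld V N s B K)
include h

theorem Lam_le {T : Subgroup G} (hB : B ≤ T) (hK : K ≤ T) : Lam B K ≤ T :=
  iSup_le fun y => by
    rintro x hx
    rw [mem_conj] at hx
    have h1 : (y : G) * ((y : G)⁻¹ * x * (y : G)) * (y : G)⁻¹ ∈ T :=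
      mul_mem (mul_mem (hK y.2) (hB hx)) (inv_mem (hK y.2))
    have e : (y : G) * ((y : G)⁻¹ * x * (y : G)) * (y : G)⁻¹ = x := by group
    rwa [e] at h1

theorem V_le : Lam B K ≤ normalizer (V : Set G) := h.Lam_le h.BV h.KV
theorem N_le : Lam B K ≤ normalizer (N : Set G) := h.Lam_le h.BN h.KN
theorem s_le : Lam B K ≤ centralizer (s : Set G) := h.Lam_le h.Bs h.Ks

/-- `g v g⁻¹ = v x n` -/
theorem form {g v : G} (hg : g ∈ Lam B K) (hv : v ∈ V) : ∃ x ∈ s, ∃ n ∈ N, g * v * g⁻¹ = v * (x * n) := by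
  have h0 : ∀ a ∈ s ⊔ N, ∃ x ∈ s, ∃ n ∈ N, a = x * n := by
    intro a ha
    exact mem_sup_comm (fun x hx n hn => h.Vc x (h.sV hx) n (h.NV hn)) ha
  -- the set of the good `g`
  have key : Lam B K ≤ normalizer (V : Set G) ⊓ normalizer (N : Set G) ⊓ centralizer (s : Set G) :=
    le_inf (le_inf h.V_le h.N_le) h.s_le
  let T : Subgroup G :=
    { carrier := {g | (g ∈ normalizer (V : Set G) ∧ g ∈ normalizer (N : Set G) ∧ g ∈ centralizer (s : Set G)) ∧
        ∀ v ∈ V, ∃ x ∈ s, ∃ n ∈ N, g * v * g⁻¹ = v * (x * n)}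
      one_mem' := ⟨⟨one_mem _, one_mem _, one_mem _⟩, fun v _ => ⟨1, one_mem _, 1, one_mem _, by simp⟩⟩
      mul_mem' := by
        rintro a b ⟨⟨ha1, ha2, ha3⟩, ha⟩ ⟨⟨hb1, hb2, hb3⟩, hb⟩
        refine ⟨⟨mul_mem ha1 hb1, mul_mem ha2 hb2, mul_mem ha3 hb3⟩, fun v hv => ?_⟩
        obtain ⟨x, hx, n, hn, e⟩ := hb v hv
        obtain ⟨x', hx', n', hn', e'⟩ := ha v hv
        have hax : a * x * a⁻¹ = x := by
          rw [mul_inv_eq_iff_eq_mul]
          exact (mem_centralizer_iff.1 ha3 x hx).symm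
        have hn2 : a * n * a⁻¹ ∈ N := (mem_normalizer_iff.1 ha2 n).1 hn
        refine ⟨x' * x, mul_mem hx' hx, n' * (a * n * a⁻¹), mul_mem hn' hn2, ?_⟩
        have e1 : a * b * v * (a * b)⁻¹ = a * (b * v * b⁻¹) * a⁻¹ := by group
        have e2 : a * (v * (x * n)) * a⁻¹ = (a * v * a⁻¹) * (a * x * a⁻¹) * (a * n * a⁻¹) := by group
        rw [e1, e, e2, e', hax]
        have c1 := h.Vc n' (h.NV hn') x (h.sV hx)
        calc v * (x' * n') * x * (a * n * a⁻¹) = v * x' * (n' * x) * (a * n * a⁻¹) := by group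
          _ = v * x' * (x * n') * (a * n * a⁻¹) := by rw [c1]
          _ = _ := by group
      inv_mem' := by
        rintro a ⟨⟨ha1, ha2, ha3⟩, ha⟩
        refine ⟨⟨inv_mem ha1, inv_mem ha2, inv_mem ha3⟩, fun v hv => ?_⟩
        have hv' : a⁻¹ * v * a ∈ V := by
          have := (mem_normalizer_iff.1 (inv_mem ha1) v).1 hv
          rwa [inv_inv] at this
        obtain ⟨x, hx, n, hn, e⟩ := ha _ hv'
        have e1 : a * (a⁻¹ * v * a) * a⁻¹ = v := by group
        rw [e1] at e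
        refine ⟨x⁻¹, inv_mem hx, n⁻¹, inv_mem hn, ?_⟩
        rw [inv_inv]
        have c1 := h.Vc x⁻¹ (h.sV (inv_mem hx)) n⁻¹ (h.NV (inv_mem hn))
        rw [c1]
        calc a⁻¹ * v * a = v * (v⁻¹ * (a⁻¹ * v * a)) := by group
          _ = v * ((a⁻¹ * v * a * (x * n))⁻¹ * (a⁻¹ * v * a)) := by rw [← e]
          _ = v * (n⁻¹ * x⁻¹) := by group }
  have hT : Lam B K ≤ T := by
    refine iSup_le fun y => ?_
    rintro g hg
    have hgL : g ∈ Lam B K := (le_iSup (fun y : K => MulAut.conj (y : G) • B) y) hg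
    refine ⟨⟨(key hgL).1.1, (key hgL).1.2, (key hgL).2⟩, fun v hv => ?_⟩
    rw [mem_conj] at hg
    -- `v' = y⁻¹ v y`
    have hyV := h.KV y.2
    have hv' : (y : G)⁻¹ * v * y ∈ V := by
      have := (mem_normalizer_iff.1 (inv_mem hyV) v).1 hv
      rwa [inv_inv] at this
    have h1 : ⁅((y : G)⁻¹ * v * y)⁻¹, (y : G)⁻¹ * g * y⁆ ∈ s ⊔ N :=
      h.comm (commutator_mem_commutator (inv_mem hv') hg)
    obtain ⟨x, hx, n, hn, e⟩ := h0 _ h1
    have hyx : (y : G) * x * (y : G)⁻¹ = x := by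
      rw [mul_inv_eq_iff_eq_mul]
      exact (mem_centralizer_iff.1 (h.Ks y.2) x hx).symm
    refine ⟨x, hx, (y : G) * n * (y : G)⁻¹, (mem_normalizer_iff.1 (h.KN y.2) n).1 hn, ?_⟩
    have e1 : (y : G) * (x * n) * (y : G)⁻¹ = x * ((y : G) * n * (y : G)⁻¹) := by
      have : (y : G) * (x * n) * (y : G)⁻¹ = (y : G) * x * (y : G)⁻¹ * ((y : G) * n * (y : G)⁻¹) := by group
      rw [this, hyx]
    rw [← e1, ← e, commutatorElement_def]
    group
  exact (hT hg).2 v hv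

/-- **`[V, Λ'] ≤ N`** -/
theorem der {d v : G} (hd : d ∈ Der B K) (hv : v ∈ V) : d * v * d⁻¹ * v⁻¹ ∈ N := by
  let T : Subgroup G :=
    { carrier := {g | (g ∈ normalizer (V : Set G) ∧ g ∈ normalizer (N : Set G)) ∧ ∀ v ∈ V, g * v * g⁻¹ * v⁻¹ ∈ N}
      one_mem' := ⟨⟨one_mem _, one_mem _⟩, fun v _ => by simp⟩
      mul_mem' := by
        rintro a b ⟨⟨ha1, ha2⟩, ha⟩ ⟨⟨hb1, hb2⟩, hb⟩
        refine ⟨⟨mul_mem ha1 hb1, mul_mem ha2 hb2⟩, fun v hv => ?_⟩
        have e : a * b * v * (a * b)⁻¹ * v⁻¹ = a * (b * v * b⁻¹ * v⁻¹) * a⁻¹ * (a * v * a⁻¹ * v⁻¹) := by group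
        rw [e]
        exact mul_mem ((mem_normalizer_iff.1 ha2 _).1 (hb v hv)) (ha v hv)
      inv_mem' := by
        rintro a ⟨⟨ha1, ha2⟩, ha⟩
        refine ⟨⟨inv_mem ha1, inv_mem ha2⟩, fun v hv => ?_⟩
        have e : a⁻¹ * v * a⁻¹⁻¹ * v⁻¹ = a⁻¹ * (a * v * a⁻¹ * v⁻¹)⁻¹ * a⁻¹⁻¹ := by group
        rw [e]
        exact (mem_normalizer_iff.1 (inv_mem ha2) _).1 (inv_mem (ha v hv)) }
  have hT : Der B K ≤ T := by
    rw [Der, commutator_le]
    intro a ha b hb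
    refine ⟨⟨?_, ?_⟩, fun w hw => ?_⟩
    · exact h.V_le (by
        rw [commutatorElement_def]
        exact mul_mem (mul_mem (mul_mem ha hb) (inv_mem ha)) (inv_mem hb))
    · exact h.N_le (by
        rw [commutatorElement_def]
        exact mul_mem (mul_mem (mul_mem ha hb) (inv_mem ha)) (inv_mem hb))
    · -- `w = (b a) v (b a)⁻¹`
      have hba : b * a ∈ normalizer (V : Set G) := mul_mem (h.V_le hb) (h.V_le ha)
      have hv : (b * a)⁻¹ * w * (b * a) ∈ V := by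
        have := (mem_normalizer_iff.1 (inv_mem hba) w).1 hw
        rwa [inv_inv] at this
      set v := (b * a)⁻¹ * w * (b * a) with hvdef
      have ew : w = b * a * v * (b * a)⁻¹ := by rw [hvdef]; group
      obtain ⟨x, hx, n, hn, e⟩ := h.form ha hv
      obtain ⟨x', hx', n', hn', e'⟩ := h.form hb hv
      have hax' : a * x' * a⁻¹ = x' := by
        rw [mul_inv_eq_iff_eq_mul]
        exact (mem_centralizer_iff.1 (h.s_le ha) x' hx').symm
      have hbx : b * x * b⁻¹ = x := by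
        rw [mul_inv_eq_iff_eq_mul]
        exact (mem_centralizer_iff.1 (h.s_le hb) x hx).symm
      have hn1 : b * n * b⁻¹ ∈ N := (mem_normalizer_iff.1 (h.N_le hb) n).1 hn
      have hn2 : a * n' * a⁻¹ ∈ N := (mem_normalizer_iff.1 (h.N_le ha) n').1 hn'
      -- `b a v (b a)⁻¹ = v x' n' x (b n b⁻¹)`
      have e1 : b * a * v * (b * a)⁻¹ = v * (x' * n') * (x * (b * n * b⁻¹)) := by
        have : b * a * v * (b * a)⁻¹ = b * (a * v * a⁻¹) * b⁻¹ := by group
        rw [this, e]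
        have : b * (v * (x * n)) * b⁻¹ = (b * v * b⁻¹) * ((b * x * b⁻¹) * (b * n * b⁻¹)) := by group
        rw [this, e', hbx]
      have e2 : a * b * v * (a * b)⁻¹ = v * (x * n) * (x' * (a * n' * a⁻¹)) := by
        have : a * b * v * (a * b)⁻¹ = a * (b * v * b⁻¹) * a⁻¹ := by group
        rw [this, e']
        have : a * (v * (x' * n')) * a⁻¹ = (a * v * a⁻¹) * ((a * x' * a⁻¹) * (a * n' * a⁻¹)) := by group
        rw [this, e, hax']
      have e3 : ⁅a, b⁆ * w * ⁅a, b⁆⁻¹ = a * b * v * (a * b)⁻¹ := by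
        rw [ew, commutatorElement_def]; group
      rw [e3, e2, ew, e1]
      have cV := h.Vc
      have hxV := h.sV hx
      have hx'V := h.sV hx'
      have hnV := h.NV hn
      have hn'V := h.NV hn'
      have hn1V := h.NV hn1
      have hn2V := h.NV hn2
      -- `v (x n) (x' m') ((v (x' n') (x m)))⁻¹ = n m' (n' m)⁻¹`
      have e4 : v * (x * n) * (x' * (a * n' * a⁻¹)) =
          (n * (a * n' * a⁻¹)) * (v * (x * x')) := by
        have c1 : n * x' = x' * n := cV n hnV x' hx'V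
        have c2 : (v * (x * x')) * (n * (a * n' * a⁻¹)) = (n * (a * n' * a⁻¹)) * (v * (x * x')) :=
          cV _ (mul_mem hv (mul_mem hxV hx'V)) _ (mul_mem hnV hn2V)
        calc v * (x * n) * (x' * (a * n' * a⁻¹)) = v * x * (n * x') * (a * n' * a⁻¹) := by group
          _ = v * x * (x' * n) * (a * n' * a⁻¹) := by rw [c1]
          _ = (v * (x * x')) * (n * (a * n' * a⁻¹)) := by group
          _ = _ := c2
      have e5 : v * (x' * n') * (x * (b * n * b⁻¹)) = (n' * (b * n * b⁻¹)) * (v * (x * x')) := by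
        have c1 : n' * x = x * n' := cV n' hn'V x hxV
        have c3 : x' * x = x * x' := cV x' hx'V x hxV
        have c2 : (v * (x * x')) * (n' * (b * n * b⁻¹)) = (n' * (b * n * b⁻¹)) * (v * (x * x')) :=
          cV _ (mul_mem hv (mul_mem hxV hx'V)) _ (mul_mem hn'V hn1V)
        calc v * (x' * n') * (x * (b * n * b⁻¹)) = v * x' * (n' * x) * (b * n * b⁻¹) := by group
          _ = v * x' * (x * n') * (b * n * b⁻¹) := by rw [c1]
          _ = v * (x' * x) * n' * (b * n * b⁻¹) := by group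
          _ = v * (x * x') * n' * (b * n * b⁻¹) := by rw [c3]
          _ = (v * (x * x')) * (n' * (b * n * b⁻¹)) := by group
          _ = _ := c2
      rw [e4, e5]
      have e6 : n * (a * n' * a⁻¹) * (v * (x * x')) * (n' * (b * n * b⁻¹) * (v * (x * x')))⁻¹ =
          n * (a * n' * a⁻¹) * (n' * (b * n * b⁻¹))⁻¹ := by group
      rw [e6]
      exact mul_mem (mul_mem hn hn2) (inv_mem (mul_mem hn' hn1))
  exact (hT hd).2 v hv

end Ld

end Cfsg.Agent.Omega.NO3S.SFive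

end
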