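import Cfsg.Agent.Mrg.Omega.NOThreeL.NF.Sym
import Cfsg.Agent.Mrg.Omega.NO3S.SFive.Lit

section


/-!
# Even-subset blocks: the type data for THEOREM (S5) (helper422, #22571 (1)-(4))

`M : SymK S P V ⊥ k m`, notation of `Half/SymPts.lean`, `NF/SymBase.lean`.

* `Tr M X p q` : `X ≤ P` acts as the transposition `(p q)`; `Tr.cent`, `Tr.comm_eq`, `Tr.conj`;
* `exists_map` : `P` is transitive on the ordered pairs of points of one block;
* `Cell M p q p' q' x` : the elements `y ∈ P` with `{p, q}^y` in `{p', q', x}`; `cell_two`, `cell_out`, `cell_fix`;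
* `blk M j` : the `j`-th block, `Ab M j` : the elements acting only on it;
* `irr` : `⁅Λ, Λ⁆` is irreducible on the block if `Λ` induces all its transpositions.
-/

set_option autoImplicit false

namespace Cfsg.Agent.Omega.NO3S.SFive.TyS

open Subgroup Cfsg Cfsg.Agent.ZN Cfsg.Agent.ZN.ChoiceBase
open Cfsg.Agent.Omega.FFThm (ElemM OffM NoOverM ConclM SymK SymKM ActsSym)
open Cfsg.Agent.Omega.Half (Amb)
open Cfsg.Agent.Omega.Half.SymA
open Cfsg.Agent.Omega.NOThreeL.NF (MinOffM)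
open Cfsg.Agent.Omega.NOThreeL.NF.SymRP
open Cfsg.Agent.Omega.NOThreeL.FourLine (mem_zpowers_iff)
open scoped Classical commutatorElement Pointwise

universe u

variable {G : Type u} [Group G]

section tr

variable {T H V : Subgroup G} {k m : ℕ}

/-- `X ≤ H` acts as the transposition `(p q)` -/
structure Tr (M : SymK T H V ⊥ k m) (X : Subgroup G) (p q : Pt k m) : Prop where
  le : X ≤ H
  ne : p ≠ q
  blk : p.1 = q.1
  ex : ∃ b ∈ X, Mv M b (Equiv.swap p q)
  all : ∀ a ∈ X, a ∈ centralizer (V : Set G) ∨ Mv M a (Equiv.swap p q)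

variable {M : SymK T H V ⊥ k m} (hA : Amb T H V) {X : Subgroup G} {p q : Pt k m}

include hA

/-- conjugates -/
theorem Tr.conj (h : Tr M X p q) {y : G} (hy : y ∈ H) {π : Equiv.Perm (Pt k m)} (hm : 1 ≤ m) (hπ : Mv M y π) :
    Tr M (MulAut.conj y • X) (π p) (π q) where
  le := by
    rintro _ ⟨x, hx, rfl⟩
    exact mul_mem (mul_mem hy (h.le hx)) (inv_mem hy)
  ne := fun h1 => h.ne (π.injective h1)
  blk := hπ.fst hA hm hy h.blk
  ex := by
    obtain ⟨b, hb, h1⟩ := h.ex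
    refine ⟨y * b * y⁻¹, ⟨b, hb, rfl⟩, ?_⟩
    have h2 := hπ.conj hA hy h1 (h.le hb)
    rwa [← Equiv.swap_apply_apply] at h2
  all := by
    rintro _ ⟨a, ha, rfl⟩
    rcases h.all a ha with h1 | h1
    · left
      rw [mem_centralizer_iff]
      intro v hv
      have h2 : y⁻¹ * v * y ∈ V := by
        have := hA.conj_mem (inv_mem hy) hv
        rwa [inv_inv] at this
      have h3 := mem_centralizer_iff.1 h1 _ h2
      change v * (y * a * y⁻¹) = y * a * y⁻¹ * v
      calc v * (y * a * y⁻¹) = y * (y⁻¹ * v * y * a) * y⁻¹ := by group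
        _ = y * (a * (y⁻¹ * v * y)) * y⁻¹ := by rw [h3]
        _ = y * a * y⁻¹ * v := by group
    · right
      have h2 := hπ.conj hA hy h1 (h.le ha)
      rw [← Equiv.swap_apply_apply] at h2
      exact h2

/-- the fixed vectors -/
theorem Tr.cent (h : Tr M X p q) {v : G} (hv : v ∈ V) : v ∈ centralizer (X : Set G) ↔ E M v p = E M v q := by
  constructor
  · intro h1
    obtain ⟨b, hb, h2⟩ := h.ex
    refine eq_of_comm h2 hv ?_
    rw [mem_centralizer_iff.1 h1 b hb, mul_inv_cancel_right]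
  · intro h1
    rw [mem_centralizer_iff]
    intro b hb
    rcases h.all b hb with h2 | h2
    · exact (mem_centralizer_iff.1 h2 v hv).symm
    · have h3 := comm_of_eq hA (h.le hb) h2 hv h1
      rwa [mul_inv_eq_iff_eq_mul] at h3

/-- `[V, X] = {p, q}` -/
theorem Tr.comm_eq (hm : 1 ≤ m) (h : Tr M X p q) {c : G} (hc : IsC M c p q) : ⁅V, X⁆ = zpowers c := by
  apply le_antisymm
  · rw [commutator_le]
    intro w hw a ha
    rcases h.all a ha with h1 | h1
    · have h2 : ⁅w, a⁆ = 1 := by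
        rw [commutatorElement_eq_one_iff_mul_comm]
        exact mem_centralizer_iff.1 h1 w hw
      rw [h2]
      exact one_mem _
    · rcases commutator_eq hA h.ne (h.le ha) h1 hw hc with h2 | h2
      · rw [h2]; exact one_mem _
      · rw [h2]; exact mem_zpowers c
  · rw [zpowers_le]
    obtain ⟨b, hb, hπ⟩ := h.ex
    obtain ⟨w, hw, h1, h2⟩ := sep M hm h.ne
    have h3 : ⁅w, b⁆ = c := by
      rcases commutator_eq hA h.ne (h.le hb) hπ hw hc with h3 | h3
      · exfalso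
        rw [commutatorElement_eq_one_iff_mul_comm] at h3
        have h4 : E M w p = E M w q := eq_of_comm hπ hw (by rw [← h3, mul_inv_cancel_right])
        rw [h1, h2] at h4
        exact one_ne_zero h4
      · exact h3
    rw [← h3]
    exact commutator_mem_commutator hw hb

/-- the centre of `X` and another transposition -/
theorem Tr.le_cent_iff (hm : 1 ≤ m) (h : Tr M X p q) {Y : Subgroup G} {r s : Pt k m} (hY : Tr M Y r s) {c : G}
    (hc : IsC M c p q) : ⁅V, X⁆ ≤ centralizer (Y : Set G) ↔ E M c r = E M c s := by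
  rw [h.comm_eq hA hm hc, zpowers_le, hY.cent hA hc.1]

omit hA in
theorem smul_comm_eq (hA : Amb T H V) {y : G} (hy : y ∈ H) :
    MulAut.conj y • ⁅V, X⁆ = ⁅V, MulAut.conj y • X⁆ := by
  have h1 : MulAut.conj y • V = V := by
    apply le_antisymm
    · rintro _ ⟨x, hx, rfl⟩
      exact hA.conj_mem hy hx
    · intro x hx
      refine ⟨y⁻¹ * x * y, ?_, ?_⟩
      · have := hA.conj_mem (inv_mem hy) hx
        rwa [inv_inv] at this
      · change y * (y⁻¹ * x * y) * y⁻¹ = x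
        group
  have h2 : MulAut.conj y • ⁅V, X⁆ = ⁅MulAut.conj y • V, MulAut.conj y • X⁆ := Subgroup.map_commutator V X _
  rw [h2, h1]

omit hA in
/-- `P` is transitive on the ordered pairs of points of a block -/
theorem exists_map (hA : Amb T H V) {p q r s : Pt k m} (hm : 1 ≤ m) (hpq : p ≠ q) (hpq1 : p.1 = q.1) (hrs : r ≠ s)
    (hrs1 : r.1 = s.1) : ∃ g ∈ H, ∃ π, Mv M g π ∧ π p = r ∧ π q = s := by
  obtain ⟨t, ht, π, hπ, h1⟩ := trans_sum (M := M) p.1 r.1
  have htH := hA.TH ht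
  obtain ⟨g, hg, hg1⟩ := exists_swap (M := M) (p := π p) (q := r) (h1 p rfl)
  obtain ⟨ρ, hρ⟩ : ∃ ρ, ρ = Equiv.swap (π p) r * π := ⟨_, rfl⟩
  have hb : Mv M (g * t) ρ := by rw [hρ]; exact hg1.mul hA hπ htH
  have h2 : ρ p = r := by rw [hρ, Equiv.Perm.mul_apply, Equiv.swap_apply_left]
  have h3 : (ρ q).1 = s.1 := by
    rw [← hb.fst hA hm (mul_mem hg htH) hpq1, h2, hrs1]
  obtain ⟨g', hg', hg1'⟩ := exists_swap (M := M) (p := ρ q) (q := s) h3
  refine ⟨g' * (g * t), mul_mem hg' (mul_mem hg htH), _, hg1'.mul hA hb (mul_mem hg htH), ?_, ?_⟩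
  · rw [Equiv.Perm.mul_apply, h2]
    refine Equiv.swap_apply_of_ne_of_ne ?_ hrs
    intro h4
    rw [← h2] at h4
    exact hpq (ρ.injective h4)
  · rw [Equiv.Perm.mul_apply, Equiv.swap_apply_left]

/-! ### The cells -/

/-- three points of one block -/
structure Tri (p' q' x : Pt k m) : Prop where
  ne : p' ≠ q'
  xp : x ≠ p'
  xq : x ≠ q'
  blk : p'.1 = q'.1
  xb : x.1 = p'.1

/-- `r` is one of the three points -/
def In3 (p' q' x r : Pt k m) : Prop := r = p' ∨ r = q' ∨ r = x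

omit hA in
/-- the missing point -/
theorem Tri.exists_miss {p' q' x : Pt k m} (t : Tri p' q' x) {a b : Pt k m} (hab : a ≠ b) (ha : In3 p' q' x a)
    (hb : In3 p' q' x b) : ∃ z, In3 p' q' x z ∧ z ≠ a ∧ z ≠ b ∧ ∀ r, In3 p' q' x r → r = a ∨ r = b ∨ r = z := by
  have e1 := t.ne
  have e2 := t.xp
  have e3 := t.xq
  rcases ha with rfl | rfl | rfl <;> rcases hb with rfl | rfl | rfl
  · exact absurd rfl hab
  · exact ⟨x, Or.inr (Or.inr rfl), e2, e3, fun r hr => hr⟩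
  · exact ⟨q', Or.inr (Or.inl rfl), e1.symm, e3.symm, fun r hr => by
      rcases hr with h | h | h
      · exact Or.inl h
      · exact Or.inr (Or.inr h)
      · exact Or.inr (Or.inl h)⟩
  · exact ⟨x, Or.inr (Or.inr rfl), e3, e2, fun r hr => by
      rcases hr with h | h | h
      · exact Or.inr (Or.inl h)
      · exact Or.inl h
      · exact Or.inr (Or.inr h)⟩
  · exact absurd rfl hab
  · exact ⟨p', Or.inl rfl, e1, e2.symm, fun r hr => by
      rcases hr with h | h | h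
      · exact Or.inr (Or.inr h)
      · exact Or.inl h
      · exact Or.inr (Or.inl h)⟩
  · exact ⟨q', Or.inr (Or.inl rfl), e3.symm, e1.symm, fun r hr => by
      rcases hr with h | h | h
      · exact Or.inr (Or.inl h)
      · exact Or.inr (Or.inr h)
      · exact Or.inl h⟩
  · exact ⟨p', Or.inl rfl, e2.symm, e1, fun r hr => by
      rcases hr with h | h | h
      · exact Or.inr (Or.inr h)
      · exact Or.inr (Or.inl h)
      · exact Or.inl h⟩
  · exact absurd rfl hab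

omit hA in
/-- the pair of the three points which misses `z` -/
theorem Tri.exists_pair {p' q' x : Pt k m} (t : Tri p' q' x) {z : Pt k m} (hz : In3 p' q' x z) :
    ∃ a b, a ≠ b ∧ In3 p' q' x a ∧ In3 p' q' x b ∧ z ≠ a ∧ z ≠ b ∧ ∀ r, In3 p' q' x r → r = a ∨ r = b ∨ r = z := by
  have e1 := t.ne
  have e2 := t.xp
  have e3 := t.xq
  rcases hz with rfl | rfl | rfl
  · exact ⟨q', x, e3.symm, Or.inr (Or.inl rfl), Or.inr (Or.inr rfl), e1, e2.symm, fun r hr => by
      rcases hr with h | h | h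
      · exact Or.inr (Or.inr h)
      · exact Or.inl h
      · exact Or.inr (Or.inl h)⟩
  · exact ⟨p', x, e2.symm, Or.inl rfl, Or.inr (Or.inr rfl), e1.symm, e3.symm, fun r hr => by
      rcases hr with h | h | h
      · exact Or.inl h
      · exact Or.inr (Or.inr h)
      · exact Or.inr (Or.inl h)⟩
  · exact ⟨p', q', e1, Or.inl rfl, Or.inr (Or.inl rfl), e2, e3, fun r hr => hr⟩

omit hA in
theorem Tri.blk_of {p' q' x : Pt k m} (t : Tri p' q' x) {a b : Pt k m} (ha : In3 p' q' x a) (hb : In3 p' q' x b) :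
    a.1 = b.1 := by
  have e1 := t.blk
  have e2 := t.xb
  have h : ∀ r, In3 p' q' x r → r.1 = p'.1 := fun r hr => by
    rcases hr with rfl | rfl | rfl
    · rfl
    · exact e1.symm
    · exact e2
  rw [h a ha, h b hb]

omit hA in
/-- `{a, b}` is moved by `(c d)` if they are different pairs of the three points -/
theorem Tri.moved {p' q' x : Pt k m} {a b c d z : Pt k m} (hcd : c ≠ d)
    (hc : In3 p' q' x c) (hd : In3 p' q' x d) (hz1 : z ≠ a) (hz2 : z ≠ b)
    (hz : ∀ r, In3 p' q' x r → r = a ∨ r = b ∨ r = z) (hzcd : z = c ∨ z = d) (hab : a ≠ b) {v : G}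
    (hv : IsC M v a b) : E M v c ≠ E M v d := by
  have h1 : ∀ r, In3 p' q' x r → r ≠ z → E M v r = 1 := fun r hr hrz => by
    rcases hz r hr with rfl | rfl | h
    · exact hv.left hab
    · exact hv.right hab
    · exact absurd h hrz
  rcases hzcd with rfl | rfl
  · rw [hv.zero hz1 hz2, h1 d hd hcd.symm]
    exact zero_ne_one
  · rw [hv.zero hz1 hz2, h1 c hc hcd]
    exact one_ne_zero

/-- the cell of the three points `p', q', x` -/
def Cell (M : SymK T H V ⊥ k m) (p q p' q' x : Pt k m) : Set G :=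
  {y | y ∈ H ∧ ∃ π, Mv M y π ∧ In3 p' q' x (π p) ∧ In3 p' q' x (π q)}

/-- the conjugate centre and another transposition -/
theorem rho_iff (hm : 1 ≤ m) (h : Tr M X p q) {y : G} (hy : y ∈ H) {π : Equiv.Perm (Pt k m)} (hπ : Mv M y π)
    {Y : Subgroup G} {r s : Pt k m} (hY : Tr M Y r s) {c : G} (hc : IsC M c (π p) (π q)) :
    MulAut.conj y • ⁅V, X⁆ ≤ centralizer (Y : Set G) ↔ E M c r = E M c s := by
  rw [smul_comm_eq hA hy]
  exact (h.conj hA hy hm hπ).le_cent_iff hA hm hY hc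

/-- **two steps** -/
theorem cell_two (hm : 1 ≤ m) (h : Tr M X p q) {p' q' x : Pt k m} (t : Tri p' q' x) {a b : G}
    (ha : a ∈ Cell M p q p' q' x) (hb : b ∈ Cell M p q p' q' x) :
    ∃ d ∈ Cell M p q p' q' x, ¬ MulAut.conj a • ⁅V, X⁆ ≤ centralizer (MulAut.conj d • X : Subgroup G) ∧
      ¬ MulAut.conj d • ⁅V, X⁆ ≤ centralizer (MulAut.conj b • X : Subgroup G) := by
  obtain ⟨haH, π, hπ, ha1, ha2⟩ := ha
  obtain ⟨hbH, σ, hσ, hb1, hb2⟩ := hb
  have hπn : π p ≠ π q := fun h1 => h.ne (π.injective h1)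
  have hσn : σ p ≠ σ q := fun h1 => h.ne (σ.injective h1)
  obtain ⟨u, hu, hu1, hu2, hu3⟩ := t.exists_miss hπn ha1 ha2
  obtain ⟨w, hw, hw1, hw2, hw3⟩ := t.exists_miss hσn hb1 hb2
  -- a point different from `u` and `w`
  obtain ⟨z, hz, hzu, hzw⟩ : ∃ z, In3 p' q' x z ∧ z ≠ u ∧ z ≠ w := by
    by_cases huw : u = w
    · exact ⟨π p, ha1, hu1.symm, by rw [← huw]; exact hu1.symm⟩
    · obtain ⟨z, hz, h1, h2, -⟩ := t.exists_miss huw hu hw
      exact ⟨z, hz, h1, h2⟩
  obtain ⟨c, d, hcd, hc, hd, hzc, hzd, hzall⟩ := t.exists_pair hz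
  obtain ⟨g, hg, τ, hτ, hg1, hg2⟩ := exists_map (M := M) hA hm h.ne h.blk hcd (t.blk_of hc hd)
  refine ⟨g, ⟨hg, τ, hτ, by rw [hg1]; exact hc, by rw [hg2]; exact hd⟩, ?_, ?_⟩
  · obtain ⟨v, hv⟩ := exists_isC (M := M) (t.blk_of ha1 ha2)
    rw [rho_iff hA hm h haH hπ (h.conj hA hg hm hτ) hv, hg1, hg2]
    refine Tri.moved hcd hc hd hu1 hu2 hu3 ?_ hπn hv
    rcases hzall u hu with h1 | h1 | h1
    · exact Or.inl h1
    · exact Or.inr h1
    · exact absurd h1.symm hzu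
  · obtain ⟨v, hv⟩ := exists_isC (M := M) (t.blk_of hc hd)
    have hv' : IsC M v (τ p) (τ q) := by rw [hg1, hg2]; exact hv
    rw [rho_iff hA hm h hg hτ (h.conj hA hbH hm hσ) hv']
    refine Tri.moved hσn hb1 hb2 hzc hzd hzall ?_ hcd hv
    rcases hw3 z hz with h1 | h1 | h1
    · exact Or.inl h1
    · exact Or.inr h1
    · exact absurd h1 hzw

/-- **one centre is not centralised by `B`** -/
theorem cell_out (hm : 1 ≤ m) (h : Tr M X p q) {p' q' x : Pt k m} (t : Tri p' q' x) {B : Subgroup G}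
    (hB : Tr M B p' q') : ∃ a ∈ Cell M p q p' q' x, ¬ MulAut.conj a • ⁅V, X⁆ ≤ centralizer (B : Set G) := by
  obtain ⟨g, hg, τ, hτ, hg1, hg2⟩ := exists_map (M := M) hA hm h.ne h.blk t.xp.symm (t.xb.symm)
  refine ⟨g, ⟨hg, τ, hτ, by rw [hg1]; exact Or.inl rfl, by rw [hg2]; exact Or.inr (Or.inr rfl)⟩, ?_⟩
  obtain ⟨v, hv⟩ := exists_isC (M := M) (p := p') (q := x) t.xb.symm
  have hv' : IsC M v (τ p) (τ q) := by rw [hg1, hg2]; exact hv
  rw [rho_iff hA hm h hg hτ hB hv', hv.left t.xp.symm, hv.zero t.ne.symm t.xq.symm]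
  exact one_ne_zero

omit hA in
theorem exists_two (hm : 2 ≤ m) (a b c : Fin (2 ^ m + 1)) :
    ∃ y z : Fin (2 ^ m + 1), y ≠ z ∧ (y ≠ a ∧ y ≠ b ∧ y ≠ c) ∧ z ≠ a ∧ z ≠ b ∧ z ≠ c := by
  have h5 : 5 ≤ 2 ^ m + 1 := by
    have h1 : 2 ^ 2 ≤ 2 ^ m := Nat.pow_le_pow_right (by norm_num) hm
    omega
  have h1 : ∃ y : Fin (2 ^ m + 1), y ∉ ({a, b, c} : Finset (Fin (2 ^ m + 1))) := by
    by_contra hc
    push Not at hc
    have h2 : (Finset.univ : Finset (Fin (2 ^ m + 1))) ⊆ {a, b, c} := fun a _ => hc a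
    have h3 := Finset.card_le_card h2
    have h4 : ({a, b, c} : Finset (Fin (2 ^ m + 1))).card ≤ 3 := Finset.card_le_three
    rw [Finset.card_univ, Fintype.card_fin] at h3
    omega
  obtain ⟨y, hy⟩ := h1
  have h1 : ∃ z : Fin (2 ^ m + 1), z ∉ ({y, a, b, c} : Finset (Fin (2 ^ m + 1))) := by
    by_contra hc
    push Not at hc
    have h2 : (Finset.univ : Finset (Fin (2 ^ m + 1))) ⊆ {y, a, b, c} := fun a _ => hc a
    have h3 := Finset.card_le_card h2
    have h4 : ({y, a, b, c} : Finset (Fin (2 ^ m + 1))).card ≤ 4 := Finset.card_le_four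
    rw [Finset.card_univ, Fintype.card_fin] at h3
    omega
  obtain ⟨z, hz⟩ := h1
  simp only [Finset.mem_insert, Finset.mem_singleton, not_or] at hy hz
  exact ⟨y, z, Ne.symm hz.1, hy, hz.2⟩

/-- a pair generates a group of order two -/
theorem card_zp {c : G} (hc : IsC M c p q) (hpq : p ≠ q) : Nat.card (zpowers c) = 2 := by
  rw [Nat.card_zpowers]
  refine orderOf_eq_prime (hA.sq c hc.1) fun h1 => hc.ne_one hpq h1

/-- **the fixed vectors of the cell** -/
theorem cell_fix [Finite G] (hm : 2 ≤ m) (h : Tr M X p q) {p' q' x : Pt k m} (t : Tri p' q' x) {B : Subgroup G}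
    (hB : Tr M B p' q') : ∃ C ≤ V, C ≤ centralizer (B : Set G) ∧
      (∀ a ∈ Cell M p q p' q' x, C ≤ centralizer (MulAut.conj a • X : Subgroup G)) ∧
      Nat.card ↥(⁅V, B⁆ : Subgroup G) < Nat.card C := by
  have hm1 : 1 ≤ m := by omega
  let C : Subgroup G :=
    { carrier := {v | v ∈ V ∧ E M v p' = E M v q' ∧ E M v x = E M v q'}
      one_mem' := ⟨one_mem _, by rw [E_one, E_one], by rw [E_one, E_one]⟩
      mul_mem' := by
        rintro a b ⟨ha1, ha2, ha3⟩ ⟨hb1, hb2, hb3⟩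
        exact ⟨mul_mem ha1 hb1, by rw [E_mul M ha1 hb1, E_mul M ha1 hb1, ha2, hb2],
          by rw [E_mul M ha1 hb1, E_mul M ha1 hb1, ha3, hb3]⟩
      inv_mem' := by
        rintro a ⟨ha1, ha2, ha3⟩
        exact ⟨inv_mem ha1, by rw [E_inv M ha1, E_inv M ha1, ha2], by rw [E_inv M ha1, E_inv M ha1, ha3]⟩ }
  have hC : ∀ {v}, v ∈ C ↔ v ∈ V ∧ E M v p' = E M v q' ∧ E M v x = E M v q' := Iff.rfl
  refine ⟨C, fun v hv => hv.1, fun v hv => (hB.cent hA hv.1).2 hv.2.1, fun a ha v hv => ?_, ?_⟩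
  · obtain ⟨haH, π, hπ, ha1, ha2⟩ := ha
    rw [(h.conj hA haH hm1 hπ).cent hA hv.1]
    have h1 : ∀ r, In3 p' q' x r → E M v r = E M v q' := fun r hr => by
      rcases hr with rfl | rfl | rfl
      · exact hv.2.1
      · rfl
      · exact hv.2.2
    rw [h1 _ ha1, h1 _ ha2]
  · obtain ⟨c, hc⟩ := exists_isC (M := M) hB.blk
    rw [hB.comm_eq hA hm1 hc, card_zp hA hc hB.ne]
    obtain ⟨y, z, hyz, ⟨hy1, hy2, hy3⟩, hz1, hz2, hz3⟩ := exists_two hm p'.2 q'.2 x.2
    have e1 : q'.1 = p'.1 := t.blk.symm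
    have e2 : x.1 = p'.1 := t.xb
    obtain ⟨c₁, hc₁⟩ := exists_isC (M := M) (p := (p'.1, y)) (q := (p'.1, z)) rfl
    obtain ⟨c₂, hc₂⟩ := exists_isC (M := M) (p := x) (q := (p'.1, y)) t.xb
    have n1 : p' ≠ ((p'.1, y) : Pt k m) := fun h1 => hy1 (congrArg Prod.snd h1).symm
    have n2 : p' ≠ ((p'.1, z) : Pt k m) := fun h1 => hz1 (congrArg Prod.snd h1).symm
    have n3 : q' ≠ ((p'.1, y) : Pt k m) := fun h1 => hy2 (congrArg Prod.snd h1).symm
    have n4 : q' ≠ ((p'.1, z) : Pt k m) := fun h1 => hz2 (congrArg Prod.snd h1).symm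
    have n5 : x ≠ ((p'.1, y) : Pt k m) := fun h1 => hy3 (congrArg Prod.snd h1).symm
    have n6 : x ≠ ((p'.1, z) : Pt k m) := fun h1 => hz3 (congrArg Prod.snd h1).symm
    have n7 : ((p'.1, y) : Pt k m) ≠ (p'.1, z) := fun h1 => hyz (congrArg Prod.snd h1)
    have m1 : c₁ ∈ C := hC.2 ⟨hc₁.1, by rw [hc₁.zero n1 n2, hc₁.zero n3 n4], by
      rw [hc₁.zero n5 n6, hc₁.zero n3 n4]⟩
    have m2 : c * c₂ ∈ C := by
      refine hC.2 ⟨mul_mem hc.1 hc₂.1, ?_, ?_⟩
      · rw [E_mul M hc.1 hc₂.1, E_mul M hc.1 hc₂.1, hc.left hB.ne, hc.right hB.ne, hc₂.zero t.xp.symm n1,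
          hc₂.zero t.xq.symm n3]
      · rw [E_mul M hc.1 hc₂.1, E_mul M hc.1 hc₂.1, hc.zero t.xp t.xq, hc.right hB.ne, hc₂.left n5,
          hc₂.zero t.xq.symm n3]
        rfl
    by_contra hcon
    push Not at hcon
    have h2 := card_zp hA hc₁ n7
    have h3 : zpowers c₁ = C := Subgroup.eq_of_le_of_card_ge ((zpowers_le).2 m1) (by rw [h2]; exact hcon)
    rw [← h3, mem_zpowers_iff (by have := hA.sq c₁ hc₁.1; rwa [pow_two] at this)] at m2
    have h4 : E M (c * c₂) p' = 1 := by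
      rw [E_mul M hc.1 hc₂.1, hc.left hB.ne, hc₂.zero t.xp.symm n1, add_zero]
    rcases m2 with h5 | h5
    · rw [h5, E_one] at h4
      exact zero_ne_one h4
    · rw [h5, hc₁.zero n1 n2] at h4
      exact zero_ne_one h4

/-! ### The block -/

omit hA in
/-- the `j`-th block -/
def blk (M : SymK T H V ⊥ k m) (j : Fin k) : Subgroup G where
  carrier := {v | v ∈ V ∧ ∀ r : Pt k m, r.1 ≠ j → E M v r = 0}
  one_mem' := ⟨one_mem _, fun r _ => E_one M r⟩
  mul_mem' := by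
    rintro a b ⟨ha1, ha2⟩ ⟨hb1, hb2⟩
    exact ⟨mul_mem ha1 hb1, fun r hr => by rw [E_mul M ha1 hb1, ha2 r hr, hb2 r hr, add_zero]⟩
  inv_mem' := by
    rintro a ⟨ha1, ha2⟩
    exact ⟨inv_mem ha1, fun r hr => by rw [E_inv M ha1, ha2 r hr]⟩

omit hA in
theorem mem_blk {j : Fin k} {v : G} : v ∈ blk M j ↔ v ∈ V ∧ ∀ r : Pt k m, r.1 ≠ j → E M v r = 0 := Iff.rfl

omit hA in
theorem pair_mem_blk {j : Fin k} {a b : Pt k m} (ha : a.1 = j) (hb : b.1 = j) {c : G} (hc : IsC M c a b) :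
    c ∈ blk M j :=
  ⟨hc.1, fun r hr => hc.zero (by rintro rfl; exact hr ha) (by rintro rfl; exact hr hb)⟩

/-- the elements which act only on the `j`-th block -/
def Ab (M : SymK T H V ⊥ k m) (hA : Amb T H V) (j : Fin k) : Subgroup G where
  carrier := {g | g ∈ H ∧ ∃ π, Mv M g π ∧ ∀ r : Pt k m, r.1 ≠ j → π r = r}
  one_mem' := ⟨one_mem _, 1, Mv_one M, fun _ _ => rfl⟩
  mul_mem' := by
    rintro a b ⟨ha, π, hπ, h1⟩ ⟨hb, ρ, hρ, h2⟩
    exact ⟨mul_mem ha hb, π * ρ, hπ.mul hA hρ hb, fun r hr => by rw [Equiv.Perm.mul_apply, h2 r hr, h1 r hr]⟩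
  inv_mem' := by
    rintro a ⟨ha, π, hπ, h1⟩
    exact ⟨inv_mem ha, π⁻¹, hπ.inv hA ha, fun r hr => by rw [Equiv.Perm.inv_eq_iff_eq]; exact (h1 r hr).symm⟩

theorem Tr.le_ab (h : Tr M X p q) {j : Fin k} (hj : p.1 = j) : X ≤ Ab M hA j := by
  intro a ha
  rcases h.all a ha with h1 | h1
  · refine ⟨h.le ha, 1, fun v hv r => ?_, fun _ _ => rfl⟩
    rw [← mem_centralizer_iff.1 h1 v hv, mul_inv_cancel_right]
    rfl
  · refine ⟨h.le ha, _, h1, fun r hr => Equiv.swap_apply_of_ne_of_ne ?_ ?_⟩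
    · rintro rfl; exact hr hj
    · rintro rfl; exact hr (h.blk.symm.trans hj)

theorem ab_fix {j : Fin k} {g : G} (hg : g ∈ Ab M hA j) {v : G} (hv : v ∈ V) {r : Pt k m} (hr : r.1 ≠ j) :
    E M (g * v * g⁻¹) r = E M v r := by
  obtain ⟨-, π, hπ, h1⟩ := hg
  have h2 := hπ v hv r
  rwa [h1 r hr] at h2

theorem ab_conj {j : Fin k} {g : G} (hg : g ∈ Ab M hA j) {v : G} (hv : v ∈ blk M j) : g * v * g⁻¹ ∈ blk M j :=
  ⟨hA.conj_mem hg.1 hv.1, fun r hr => by rw [ab_fix hA hg hv.1 hr, hv.2 r hr]⟩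

theorem ab_norm (j : Fin k) : Ab M hA j ≤ normalizer (blk M j : Set G) := by
  intro g hg
  rw [mem_normalizer_iff]
  refine fun v => ⟨fun hv => ab_conj hA hg hv, fun hv => ?_⟩
  have h1 := ab_conj hA (inv_mem hg) hv
  have h2 : g⁻¹ * (g * v * g⁻¹) * g⁻¹⁻¹ = v := by group
  rwa [h2] at h1

theorem ab_cent {i j : Fin k} (hij : i ≠ j) : Ab M hA j ≤ centralizer (blk M i : Set G) := by
  intro g hg
  rw [mem_centralizer_iff]
  intro v hv
  have h1 : g * v * g⁻¹ = v := by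
    refine inj M (hA.conj_mem hg.1 hv.1) hv.1 fun r => ?_
    by_cases hr : r.1 = j
    · obtain ⟨-, π, hπ, h1⟩ := hg
      have h2 := hπ v hv.1 (π⁻¹ r)
      rw [show π (π⁻¹ r) = r from π.apply_symm_apply r] at h2
      have h3 : (π⁻¹ r).1 = j := by
        by_contra h4
        have h5 := h1 _ h4
        rw [show π (π⁻¹ r) = r from π.apply_symm_apply r] at h5
        rw [← h5] at h4
        exact h4 hr
      rw [h2, hv.2 _ (by rw [h3]; exact hij.symm), hv.2 r (by rw [hr]; exact hij.symm)]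
    · exact ab_fix hA hg hv.1 hr
  rw [mul_inv_eq_iff_eq_mul] at h1
  exact h1.symm

/-- the conjugates of the block -/
theorem smul_blk (hm : 1 ≤ m) {g : G} (hg : g ∈ H) {π : Equiv.Perm (Pt k m)} (hπ : Mv M g π) (a : Pt k m) :
    MulAut.conj g • blk M a.1 = blk M (π a).1 := by
  have key : ∀ {g : G} (hg : g ∈ H) {π : Equiv.Perm (Pt k m)} (hπ : Mv M g π) (a : Pt k m) {v : G},
      v ∈ blk M a.1 → g * v * g⁻¹ ∈ blk M (π a).1 := by
    intro g hg π hπ a v hv
    refine ⟨hA.conj_mem hg hv.1, fun r hr => ?_⟩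
    have h2 := hπ v hv.1 (π⁻¹ r)
    rw [show π (π⁻¹ r) = r from π.apply_symm_apply r] at h2
    rw [h2]
    refine hv.2 _ fun h3 => hr ?_
    have h4 := hπ.fst hA hm hg h3
    rwa [show π (π⁻¹ r) = r from π.apply_symm_apply r] at h4
  apply le_antisymm
  · rintro _ ⟨v, hv, rfl⟩
    exact key hg hπ a hv
  · intro v hv
    refine ⟨g⁻¹ * v * g, ?_, ?_⟩
    · have h1 := key (inv_mem hg) (hπ.inv hA hg) (π a) hv
      rw [show π⁻¹ (π a) = a from π.symm_apply_apply a, inv_inv] at h1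
      exact h1
    · change g * (g⁻¹ * v * g) * g⁻¹ = v
      group

/-- **`V` is generated by the conjugates of the block** -/
theorem gen (hm : 1 ≤ m) (j : Fin k) : V ≤ ⨆ g : H, MulAut.conj (g : G) • blk M j := by
  have hb : ∀ i, blk M i ≤ ⨆ g : H, MulAut.conj (g : G) • blk M j := by
    intro i
    obtain ⟨t, ht, π, hπ, h1⟩ := trans_sum (M := M) j i
    have h2 := smul_blk hA hm (hA.TH ht) hπ ((j, 0) : Pt k m)
    rw [h1 (j, 0) rfl] at h2
    rw [← h2]
    exact le_iSup (fun g : H => MulAut.conj (g : G) • blk M j) ⟨t, hA.TH ht⟩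
  have key : ∀ s : Finset (Fin k), ∀ v ∈ V, (∀ r : Pt k m, r.1 ∉ s → E M v r = 0) →
      v ∈ ⨆ g : H, MulAut.conj (g : G) • blk M j := by
    intro s
    induction s using Finset.induction_on with
    | empty =>
      intro v hv h1
      rw [eq_one M hv fun r => h1 r (Finset.notMem_empty _)]
      exact one_mem _
    | insert i s hi ih =>
      intro v hv h1
      obtain ⟨w, hw, hwE⟩ := exists_E M (fun r => if r.1 = i then E M v r else 0) (fun l => by
        by_cases hl : l = i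
        · simp only [hl, if_true]
          exact even M hv i
        · simp only [hl, if_false]
          exact Finset.sum_const_zero)
      have hwb : w ∈ blk M i := ⟨hw, fun r hr => by rw [hwE, if_neg hr]⟩
      have h2 : v * w ∈ ⨆ g : H, MulAut.conj (g : G) • blk M j := by
        refine ih _ (mul_mem hv hw) fun r hr => ?_
        rw [E_mul M hv hw, hwE]
        by_cases hri : r.1 = i
        · rw [if_pos hri]
          exact CharTwo.add_self_eq_zero _
        · rw [if_neg hri, add_zero]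
          refine h1 r fun h3 => ?_
          rcases Finset.mem_insert.1 h3 with h4 | h4
          · exact hri h4
          · exact hr h4
      have h3 := mul_mem h2 (inv_mem (hb i hwb))
      rwa [mul_inv_cancel_right] at h3
  exact fun v hv => key Finset.univ v hv fun r hr => absurd (Finset.mem_univ _) hr

/-! ### Irreducibility -/

omit hA in
/-- a vector `≠ 1` of the block: two points in the support, one outside -/
theorem exists_three (hm : 1 ≤ m) {j : Fin k} {u : G} (hu : u ∈ blk M j) (hu1 : u ≠ 1) :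
    ∃ a b c : Pt k m, (a.1 = j ∧ b.1 = j ∧ c.1 = j) ∧ a ≠ b ∧ b ≠ c ∧ a ≠ c ∧ E M u a = 1 ∧ E M u b = 0 ∧
      E M u c = 1 := by
  have h0 : ∃ a : Pt k m, a.1 = j ∧ E M u a = 1 := by
    by_contra hc
    push Not at hc
    refine hu1 (eq_one M hu.1 fun r => ?_)
    by_cases hr : r.1 = j
    · exact (zmod2 _).resolve_right (hc r hr)
    · exact hu.2 r hr
  obtain ⟨⟨j', a⟩, rfl, ha⟩ := h0
  change u ∈ blk M j' at hu
  have hev := even M hu.1 j'
  have h1 : ∃ c, c ≠ a ∧ E M u (j', c) = 1 := by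
    by_contra hc
    push Not at hc
    rw [← Finset.add_sum_erase _ _ (Finset.mem_univ a), ha,
      Finset.sum_eq_zero fun x hx => (zmod2 _).resolve_right (hc x (Finset.ne_of_mem_erase hx)), add_zero] at hev
    exact one_ne_zero hev
  obtain ⟨c, hca, hc⟩ := h1
  have h2 : ∃ b, E M u (j', b) = 0 := by
    by_contra hb
    push Not at hb
    rw [Finset.sum_congr rfl fun x _ => (zmod2 _).resolve_left (hb x)] at hev
    rw [Finset.sum_const, Finset.card_univ, Fintype.card_fin, nsmul_eq_mul, mul_one] at hev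
    have h4 : ((2 ^ m + 1 : ℕ) : ZMod 2) = 1 := by
      obtain ⟨l, rfl⟩ : ∃ l, m = l + 1 := ⟨m - 1, by omega⟩
      rw [pow_succ]
      push_cast
      have : (2 : ZMod 2) = 0 := by decide
      rw [this, mul_zero, zero_add]
    rw [h4] at hev
    exact one_ne_zero hev
  obtain ⟨b, hb⟩ := h2
  refine ⟨(j', a), (j', b), (j', c), ⟨rfl, rfl, rfl⟩, ?_, ?_, ?_, ha, hb, hc⟩
  · intro h; rw [h, hb] at ha; exact zero_ne_one ha
  · intro h; rw [h, hc] at hb; exact one_ne_zero hb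
  · intro h; exact hca (congrArg Prod.snd h).symm

omit hA in
/-- a subgroup containing all pairs `{b, y}` contains the block -/
theorem blk_le_of_pairs {j : Fin k} {U : Subgroup G} (hU : U ≤ blk M j) (b : Fin (2 ^ m + 1))
    (hp : ∀ y, y ≠ b → ∃ u ∈ U, IsC M u (j, b) (j, y)) : blk M j ≤ U := by
  intro v hv
  have key : ∀ s : Finset (Fin (2 ^ m + 1)), b ∉ s →
      ∃ u ∈ U, ∀ z, z ≠ b → E M u (j, z) = if z ∈ s then 1 else 0 := by
    intro s
    induction s using Finset.induction_on with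
    | empty =>
      intro _
      exact ⟨1, one_mem _, fun z _ => by rw [E_one, if_neg (Finset.notMem_empty z)]⟩
    | insert y s hy ih =>
      intro hb
      rw [Finset.mem_insert, not_or] at hb
      obtain ⟨u, hu, hue⟩ := ih hb.2
      obtain ⟨p, hp', hpe⟩ := hp y (Ne.symm hb.1)
      refine ⟨u * p, mul_mem hu hp', fun z hz => ?_⟩
      rw [E_mul M (hU hu).1 (hU hp').1, hue z hz, hpe.2, if_neg (fun h1 => hz (congrArg Prod.snd h1)), zero_add]
      by_cases hzy : z = y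
      · subst hzy
        rw [if_neg hy, if_pos rfl, zero_add, if_pos (Finset.mem_insert_self _ _)]
      · rw [if_neg (fun h1 => hzy (congrArg Prod.snd h1)), add_zero]
        simp only [Finset.mem_insert, hzy, false_or]
  obtain ⟨u, hu, hue⟩ := key (Finset.univ.filter fun y => y ≠ b ∧ E M v (j, y) = 1) (by simp)
  have h1 : v = u := by
    have h2 : ∀ z, z ≠ b → E M v (j, z) = E M u (j, z) := fun z hz => by
      rw [hue z hz]
      rcases zmod2 (E M v (j, z)) with h3 | h3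
      · rw [if_neg, h3]
        simp [h3]
      · rw [if_pos, h3]
        simp [h3, hz]
    have h3 : E M v (j, b) = E M u (j, b) := by
      have h4 := even M hv.1 j
      have h5 := even M (hU hu).1 j
      rw [← Finset.add_sum_erase _ _ (Finset.mem_univ b)] at h4 h5
      rw [Finset.sum_congr rfl fun x hx => h2 x (Finset.ne_of_mem_erase hx)] at h4
      exact add_right_cancel (h4.trans h5.symm)
    refine inj M hv.1 (hU hu).1 fun r => ?_
    by_cases hr : r.1 = j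
    · obtain ⟨i, z⟩ := r
      change i = j at hr
      subst hr
      by_cases hz : z = b
      · rw [hz]; exact h3
      · exact h2 z hz
    · rw [hv.2 r hr, (hU hu).2 r hr]
  rw [h1]
  exact hu

omit hA in
theorem tc_a {a b c : Pt k m} (hab : a ≠ b) (hac : a ≠ c) : (Equiv.swap a b * Equiv.swap b c) a = b := by
  rw [Equiv.Perm.mul_apply, Equiv.swap_apply_of_ne_of_ne hab hac, Equiv.swap_apply_left]

omit hA in
theorem tc_b {a b c : Pt k m} (hbc : b ≠ c) (hac : a ≠ c) : (Equiv.swap a b * Equiv.swap b c) b = c := by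
  rw [Equiv.Perm.mul_apply, Equiv.swap_apply_left, Equiv.swap_apply_of_ne_of_ne hac.symm hbc.symm]

omit hA in
theorem tc_c {a b c : Pt k m} : (Equiv.swap a b * Equiv.swap b c) c = a := by
  rw [Equiv.Perm.mul_apply, Equiv.swap_apply_right, Equiv.swap_apply_right]

omit hA in
theorem tc_ne {a b c z : Pt k m} (ha : z ≠ a) (hb : z ≠ b) (hc : z ≠ c) :
    (Equiv.swap a b * Equiv.swap b c) z = z := by
  rw [Equiv.Perm.mul_apply, Equiv.swap_apply_of_ne_of_ne hb hc, Equiv.swap_apply_of_ne_of_ne ha hb]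

/-- **irreducibility under the 3-cycles** -/
theorem blk_le_of_tc (hm : 2 ≤ m) {j : Fin k} {U R : Subgroup G} (hU : U ≤ blk M j) (hne : U ≠ ⊥)
    (hRH : R ≤ H) (hRU : R ≤ normalizer (U : Set G))
    (htc : ∀ a b c : Pt k m, a.1 = j → b.1 = j → c.1 = j → a ≠ b → b ≠ c → a ≠ c →
      ∃ g ∈ R, Mv M g (Equiv.swap a b * Equiv.swap b c)) : blk M j ≤ U := by
  obtain ⟨u, hu, hu1⟩ := (Subgroup.bot_or_exists_ne_one U).resolve_left hne
  obtain ⟨a, b, c, ⟨haj, hbj, hcj⟩, hab, hbc, hac, ha, hb, hc⟩ := exists_three (by omega) (hU hu) hu1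
  -- one pair
  have hpair : ∃ p ∈ U, IsC M p b c := by
    obtain ⟨g, hg, hgA⟩ := htc a b c haj hbj hcj hab hbc hac
    have hgu : g * u * g⁻¹ ∈ U := (mem_normalizer_iff.1 (hRU hg) u).1 hu
    refine ⟨g * u * g⁻¹ * u, mul_mem hgu hu, mul_mem (hU hgu).1 (hU hu).1, fun r => ?_⟩
    rw [E_mul M (hU hgu).1 (hU hu).1]
    have hv := hgA u (hU hu).1
    by_cases hza : r = a
    · subst hza
      have h1 := hv c
      rw [tc_c, hc] at h1
      rw [h1, ha, if_neg hab, if_neg hac]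
      decide
    by_cases hzb : r = b
    · subst hzb
      have h1 := hv a
      rw [tc_a hab hac, ha] at h1
      rw [h1, hb, if_pos rfl, if_neg hbc]
    by_cases hzc : r = c
    · subst hzc
      have h1 := hv b
      rw [tc_b hbc hac, hb] at h1
      rw [h1, hc, if_pos rfl, if_neg hbc.symm]
    have h1 := hv r
    rw [tc_ne hza hzb hzc] at h1
    rw [h1, if_neg hzb, if_neg hzc, CharTwo.add_self_eq_zero]
    rfl
  obtain ⟨p, hp, hpe⟩ := hpair
  obtain ⟨i, b⟩ := b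
  change i = j at hbj
  subst hbj
  refine blk_le_of_pairs hU b fun y hyb => ?_
  by_cases hyc : ((i, y) : Pt k m) = c
  · rw [hyc]
    exact ⟨p, hp, hpe⟩
  -- `c → y → z → c`, `z ≠ b, c, y`
  obtain ⟨z, z', -, ⟨hz1, hz2, hz3⟩, -⟩ := exists_two hm b c.2 y
  have hyb' : ((i, y) : Pt k m) ≠ (i, b) := fun h => hyb (congrArg Prod.snd h)
  have hzb' : ((i, z) : Pt k m) ≠ (i, b) := fun h => hz1 (congrArg Prod.snd h)
  have hzc' : ((i, z) : Pt k m) ≠ c := fun h => hz2 (congrArg Prod.snd h)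
  have hzy' : ((i, z) : Pt k m) ≠ (i, y) := fun h => hz3 (congrArg Prod.snd h)
  obtain ⟨g, hg, hgA⟩ := htc c (i, y) (i, z) hcj rfl rfl (Ne.symm hyc) (Ne.symm hzy') (Ne.symm hzc')
  refine ⟨g * p * g⁻¹, (mem_normalizer_iff.1 (hRU hg) p).1 hp, ?_⟩
  have h1 := hpe.conj hA (hRH hg) hgA
  rwa [tc_ne hbc (Ne.symm hyb') (Ne.symm hzb'), tc_a (Ne.symm hyc) (Ne.symm hzc')] at h1

end tr

end Cfsg.Agent.Omega.NO3S.SFive.TyS

end

section


/-!
# Even-subset blocks: `TyD` (helper422, #22571 (2)-(5); GammaFF (S5))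

`tyD_sym` : `SymKM`, two minimal offenders `A`, `B` in `S`: `∃ N K, TyD S P A B N K`.
The cells are the sets of three letters `{p', q', x}`, `B = (p' q')`; `K` = all `A^y` inducing `(p' q')`, `(p' x)`,
`(q' x)` for some `x`.
-/

set_option autoImplicit false

namespace Cfsg.Agent.Omega.NO3S.SFive.TyS

open Subgroup Cfsg Cfsg.Agent.ZN Cfsg.Agent.ZN.ChoiceBase
open Cfsg.Agent.Omega.FFThm (ElemM OffM NoOverM ConclM SymK SymKM ActsSym)
open Cfsg.Agent.Omega.Half (Amb)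
open Cfsg.Agent.Omega.Half.SymA
open Cfsg.Agent.Omega.NOThreeL.NF (MinOffM)
open Cfsg.Agent.Omega.NOThreeL.NF.SymRP
open Cfsg.Agent.Omega.MinPar
open scoped Classical commutatorElement Pointwise

universe u

variable {G : Type u} [Group G]

section k

variable {T H V : Subgroup G} {k m : ℕ}

/-- `K` -/
def KK (M : SymK T H V ⊥ k m) (p q p' q' : Pt k m) (A : Subgroup G) : Subgroup G :=
  ⨆ x : {x : Pt k m // Tri p' q' x}, ⨆ a : Cell M p q p' q' x, MulAut.conj (a : G) • A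

variable {M : SymK T H V ⊥ k m} (hA : Amb T H V) {A : Subgroup G} {p q p' q' : Pt k m}
include hA

theorem KK_le_ab (hm : 1 ≤ m) (h : Tr M A p q) : KK M p q p' q' A ≤ Ab M hA p'.1 := by
  refine iSup_le fun x => iSup_le fun a => ?_
  obtain ⟨a, haH, π, hπ, h1, h2⟩ := a
  refine (h.conj hA haH hm hπ).le_ab hA ?_
  exact x.2.blk_of h1 (Or.inl rfl)

theorem exists_sw_mem (hm : 1 ≤ m) (h : Tr M A p q) {x : Pt k m} (t : Tri p' q' x) {a b : Pt k m} (hab : a ≠ b)
    (ha : In3 p' q' x a) (hb : In3 p' q' x b) : ∃ g ∈ KK M p q p' q' A, Mv M g (Equiv.swap a b) := by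
  obtain ⟨y, hy, π, hπ, h1, h2⟩ := exists_map (M := M) hA hm h.ne h.blk hab (t.blk_of ha hb)
  obtain ⟨g, hg, hg1⟩ := (h.conj hA hy hm hπ).ex
  rw [h1, h2] at hg1
  have h3 : MulAut.conj y • A ≤ KK M p q p' q' A :=
    (le_iSup (fun a : Cell M p q p' q' x => MulAut.conj (a : G) • A)
      ⟨y, hy, π, hπ, by rw [h1]; exact ha, by rw [h2]; exact hb⟩).trans
      (le_iSup (fun x : {x : Pt k m // Tri p' q' x} => ⨆ a : Cell M p q p' q' x, MulAut.conj (a : G) • A) ⟨x, t⟩)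
  exact ⟨g, h3 hg, hg1⟩

omit hA in
theorem exists_tri (hm : 1 ≤ m) (hne : p' ≠ q') (hb : p'.1 = q'.1) : ∃ x, Tri p' q' x := by
  obtain ⟨c, hc1, hc2⟩ := exists_third hm p'.2 q'.2
  exact ⟨(p'.1, c), ⟨hne, fun h => hc1 (congrArg Prod.snd h), fun h => hc2 (congrArg Prod.snd h), hb, rfl⟩⟩

/-- `K` is transitive on the ordered pairs of points of the block -/
theorem exists_K_map (hm : 1 ≤ m) (h : Tr M A p q) (hne : p' ≠ q') (hb : p'.1 = q'.1) {r s : Pt k m} (hrs : r ≠ s)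
    (hr : r.1 = p'.1) (hs : s.1 = p'.1) :
    ∃ y ∈ KK M p q p' q' A, ∃ π, Mv M y π ∧ π p' = r ∧ π q' = s := by
  have hKH : KK M p q p' q' A ≤ H := fun g hg => (KK_le_ab hA hm h hg).1
  -- first step
  obtain ⟨y₁, hy₁, π₁, hπ₁, h1⟩ : ∃ y ∈ KK M p q p' q' A, ∃ π, Mv M y π ∧ π p' = r := by
    by_cases hrp : r = p'
    · exact ⟨1, one_mem _, 1, Mv_one M, hrp.symm⟩
    by_cases hrq : r = q'
    · obtain ⟨x, t⟩ := exists_tri hm hne hb
      obtain ⟨g, hg, hg1⟩ := exists_sw_mem hA hm h t hne (Or.inl rfl) (Or.inr (Or.inl rfl))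
      exact ⟨g, hg, _, hg1, by rw [Equiv.swap_apply_left, hrq]⟩
    · obtain ⟨g, hg, hg1⟩ := exists_sw_mem hA hm h (x := r) ⟨hne, hrp, hrq, hb, hr⟩ (Ne.symm hrp) (Or.inl rfl)
        (Or.inr (Or.inr rfl))
      exact ⟨g, hg, _, hg1, Equiv.swap_apply_left _ _⟩
  have hs' : π₁ (π₁⁻¹ s) = s := π₁.apply_symm_apply s
  obtain ⟨s', hs'e⟩ : ∃ s', s' = π₁⁻¹ s := ⟨_, rfl⟩
  rw [← hs'e] at hs'
  have hsp : s' ≠ p' := by
    rintro rfl
    exact hrs (h1.symm.trans hs')
  have hsb : s'.1 = p'.1 := by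
    have h2 := (hπ₁.inv hA (hKH hy₁)).fst hA hm (inv_mem (hKH hy₁)) (p := s) (q := r) (by rw [hs, hr])
    rw [← hs'e] at h2
    rw [h2, ← h1, show π₁⁻¹ (π₁ p') = p' from π₁.symm_apply_apply p']
  obtain ⟨y₂, hy₂, π₂, hπ₂, h2, h3⟩ : ∃ y ∈ KK M p q p' q' A, ∃ π, Mv M y π ∧ π q' = s' ∧ π p' = p' := by
    by_cases hsq : s' = q'
    · exact ⟨1, one_mem _, 1, Mv_one M, hsq.symm, rfl⟩
    · obtain ⟨g, hg, hg1⟩ := exists_sw_mem hA hm h (x := s') ⟨hne, hsp, hsq, hb, hsb⟩ (Ne.symm hsq)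
        (Or.inr (Or.inl rfl)) (Or.inr (Or.inr rfl))
      exact ⟨g, hg, _, hg1, Equiv.swap_apply_left _ _, Equiv.swap_apply_of_ne_of_ne hne hsp.symm⟩
  refine ⟨y₁ * y₂, mul_mem hy₁ hy₂, π₁ * π₂, hπ₁.mul hA hπ₂ (hKH hy₂), ?_, ?_⟩
  · rw [Equiv.Perm.mul_apply, h3, h1]
  · rw [Equiv.Perm.mul_apply, h2, hs']

/-- `Λ` induces all transpositions -/
theorem exists_Lam (hm : 1 ≤ m) (h : Tr M A p q) {B : Subgroup G} (hB : Tr M B p' q') {r s : Pt k m} (hrs : r ≠ s)
    (hr : r.1 = p'.1) (hs : s.1 = p'.1) : ∃ g ∈ Lam B (KK M p q p' q' A), Mv M g (Equiv.swap r s) := by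
  obtain ⟨y, hy, π, hπ, h1, h2⟩ := exists_K_map hA hm h hB.ne hB.blk hrs hr hs
  have hyH : y ∈ H := (KK_le_ab hA hm h hy).1
  obtain ⟨g, hg, hg1⟩ := (hB.conj hA hyH hm hπ).ex
  rw [h1, h2] at hg1
  exact ⟨g, le_iSup (fun y : KK M p q p' q' A => MulAut.conj (y : G) • B) ⟨y, hy⟩ hg, hg1⟩

theorem Lam_le_ab (hm : 1 ≤ m) (h : Tr M A p q) {B : Subgroup G} (hB : Tr M B p' q') :
    Lam B (KK M p q p' q' A) ≤ Ab M hA p'.1 := by
  refine iSup_le fun y => ?_
  rintro _ ⟨b, hb, rfl⟩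
  have hy := KK_le_ab hA hm h y.2
  exact mul_mem (mul_mem hy (hB.le_ab hA rfl hb)) (inv_mem hy)

theorem Der_le_ab (hm : 1 ≤ m) (h : Tr M A p q) {B : Subgroup G} (hB : Tr M B p' q') :
    Der B (KK M p q p' q' A) ≤ Ab M hA p'.1 := by
  rw [Der, commutator_le]
  intro a ha b hb
  have ha' := Lam_le_ab hA hm h hB ha
  have hb' := Lam_le_ab hA hm h hB hb
  rw [commutatorElement_def]
  exact mul_mem (mul_mem (mul_mem ha' hb') (inv_mem ha')) (inv_mem hb')

/-- `⁅Λ, Λ⁆` induces all 3-cycles -/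
theorem exists_tc (hm : 1 ≤ m) (h : Tr M A p q) {B : Subgroup G} (hB : Tr M B p' q') {a b c : Pt k m}
    (ha : a.1 = p'.1) (hb : b.1 = p'.1) (hc : c.1 = p'.1) (hab : a ≠ b) (hbc : b ≠ c) (hac : a ≠ c) :
    ∃ g ∈ Der B (KK M p q p' q' A), Mv M g (Equiv.swap a b * Equiv.swap b c) := by
  obtain ⟨s, hs, hs1⟩ := exists_Lam hA hm h hB hab ha hb
  obtain ⟨t, ht, ht1⟩ := exists_Lam hA hm h hB hac ha hc
  have hsH := (Lam_le_ab hA hm h hB hs).1
  have htH := (Lam_le_ab hA hm h hB ht).1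
  refine ⟨⁅s, t⁆, commutator_mem_commutator hs ht, ?_⟩
  have h1 := ((hs1.mul hA ht1 htH).mul hA (hs1.inv hA hsH) (inv_mem hsH)).mul hA (ht1.inv hA htH) (inv_mem htH)
  rw [commutatorElement_def]
  have e : Equiv.swap a b * Equiv.swap a c * (Equiv.swap a b)⁻¹ * (Equiv.swap a c)⁻¹ =
      Equiv.swap a b * Equiv.swap b c := by
    rw [Equiv.swap_inv, Equiv.swap_inv]
    have h2 := Equiv.swap_mul_swap_mul_swap (x := b) (y := a) (z := c) hab.symm hbc
    rw [mul_assoc, mul_assoc, ← mul_assoc (Equiv.swap a c)]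
    rw [Equiv.swap_comm a b, h2, Equiv.swap_comm c b]
  rwa [e] at h1

end k

variable [Finite G] {S : Sylow 2 G} {P : Subgroup G} {k m : ℕ}

/-- **The type data for even-subset blocks.** -/
theorem tyD_of {A B : Subgroup G} {M : SymK (S : Subgroup G) P (zl (S : Subgroup G) P) ⊥ k m}
    (hA : Amb (S : Subgroup G) P (zl (S : Subgroup G) P)) (hm : 2 ≤ m) {p q p' q' : Pt k m} (h : Tr M A p q)
    (hB : Tr M B p' q') :
    TyD (S : Subgroup G) P A B (blk M p'.1) (KK M p q p' q' A) := by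
  have hm1 : 1 ≤ m := by omega
  obtain ⟨c, hc⟩ := exists_isC (M := M) hB.blk
  obtain ⟨x, t⟩ := exists_tri hm1 hB.ne hB.blk
  refine ⟨fun v hv => hv.1, ?_, (KK_le_ab hA hm1 h).trans (ab_norm hA _), ?_, ?_, ?_, ?_, gen hA hm1 _⟩
  · rw [hB.comm_eq hA hm1 hc, zpowers_le]
    exact pair_mem_blk rfl hB.blk.symm hc
  · exact ⟨{x : Pt k m // Tri p' q' x}, fun x => Cell M p q p' q' x, fun _ _ ha => ha.1, rfl,
      fun x a ha b hb => cell_two hA hm1 h x.2 ha hb, fun x => cell_out hA hm1 h x.2 hB,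
      fun x => cell_fix hA hm h x.2 hB⟩
  · intro U hU hne hUn
    exact blk_le_of_tc hA hm hU hne (fun g hg => (Der_le_ab hA hm1 h hB hg).1) hUn
      fun a b c ha hb hc hab hbc hac => exists_tc hA hm1 h hB ha hb hc hab hbc hac
  · intro hcon
    obtain ⟨g, hg, hg1⟩ := exists_tc hA hm1 h hB (a := p') (b := q') (c := x) rfl hB.blk.symm t.xb hB.ne
      t.xq.symm t.xp.symm
    have h1 := mem_centralizer_iff.1 (hcon hg) c (pair_mem_blk rfl hB.blk.symm hc)
    have h2 := hg1 c hc.1 x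
    rw [← h1, mul_inv_cancel_right, tc_c, hc.left hB.ne, hc.zero t.xp t.xq] at h2
    exact one_ne_zero h2
  · intro y hy
    obtain ⟨π, hπ, -⟩ := exists_mv (M := M) hy
    rw [smul_blk hA hm1 hy hπ]
    by_cases hj : (π p').1 = p'.1
    · left; rw [hj]
    · right
      exact (Der_le_ab hA hm1 h hB).trans (ab_cent hA hj)

/-- a minimal offender acts as a transposition -/
theorem exists_tr (M : SymKM (S : Subgroup G) P (zl (S : Subgroup G) P) ⊥ k m)
    (hA : Amb (S : Subgroup G) P (zl (S : Subgroup G) P)) (hm : 1 ≤ m) {A : Subgroup G}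
    (h : MinOffM (zl (S : Subgroup G) P) (S : Subgroup G) A) : ∃ p q, Tr M.toSymK A p q := by
  obtain ⟨⟨p, q, had⟩, -⟩ := exists_ad M hA hm h
  exact ⟨p, q, had.le.trans hA.TH, had.sw.1, had.sw.2.1, had.ex, had.all⟩

/-- **`TyD` for even-subset blocks** (S5). -/
theorem tyD_sym (hG : IsCharacteristicTwoType G) (hP : IsParS (S : Subgroup G) P)
    (hcv : FrameFF.cv (S : Subgroup G) P = ⊥) (hm : 2 ≤ m)
    (M : SymKM (S : Subgroup G) P (zl (S : Subgroup G) P) (FrameFF.cv (S : Subgroup G) P) k m) {A B : Subgroup G}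
    (hAo : MinOffM (zl (S : Subgroup G) P) (S : Subgroup G) A)
    (hBo : MinOffM (zl (S : Subgroup G) P) (S : Subgroup G) B) :
    ∃ N K : Subgroup G, TyD (S : Subgroup G) P A B N K := by
  rw [hcv] at M
  have hA : Amb (S : Subgroup G) P (zl (S : Subgroup G) P) := Half.amb_of_loc hG S hP.isLoc
  obtain ⟨p, q, h⟩ := exists_tr M hA (by omega) hAo
  obtain ⟨p', q', hB⟩ := exists_tr M hA (by omega) hBo
  exact ⟨_, _, tyD_of hA hm h hB⟩

end Cfsg.Agent.Omega.NO3S.SFive.TyS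

end
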