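import Cfsg.Agent.Mrg.Omega.NO3S.SFive.NatD
import Cfsg.Agent.Mrg.Omega.NO3S.SFive.TyS


/-!
# GammaFF (S5): one block, over a subgroup `T ≥ O²(P)`

* `exists_pow_odd` : some `g^(4^n)` has odd order;
* `OneB S P T` : the input of `pbN` with `D ≤ T` : a block `N` and `D ≤ P ∩ T`, irreducible on `N`, trivial on the
  other blocks;
* `oneB_nat`, `oneB_sym`, **`oneB`** : `OneB` for natural^k and for even-subset^k, if `T` contains all elements of odd
  order of `P`.
-/

set_option autoImplicit false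
set_option linter.unusedSectionVars false

namespace Cfsg.Agent.Omega.NO3S.SFive

open Subgroup Cfsg Cfsg.Agent.ZN Cfsg.Agent.ZN.ChoiceBase
open Cfsg.Agent.Omega.FFThm (NatK NatKM SymKM ConclM)
open Cfsg.Agent.Omega.Half (Amb)
open Cfsg.Agent.Omega.MinPar
open scoped Pointwise

universe u

variable {G : Type u} [Group G]

/-- some `g^(4^n)` has odd order -/
theorem exists_pow_odd [Finite G] (g : G) : ∃ n : ℕ, Odd (orderOf (g ^ 4 ^ n)) := by
  obtain ⟨a, m, hm, ho⟩ := Nat.exists_eq_two_pow_mul_odd (orderOf_pos g).ne'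
  refine ⟨a, Odd.of_dvd_nat hm (orderOf_dvd_of_pow_eq_one ?_)⟩
  have e : 4 ^ a * m = orderOf g * 2 ^ a := by
    rw [ho]
    have : (4 : ℕ) ^ a = 2 ^ a * 2 ^ a := by rw [← mul_pow]; norm_num
    rw [this]; ring
  rw [← pow_mul, e, pow_mul, pow_orderOf_eq_one, one_pow]

theorem four_pow (n : ℕ) : ∃ l, 4 ^ n = 3 * l + 1 := by
  induction n with
  | zero => exact ⟨0, by norm_num⟩
  | succ n ih =>
    obtain ⟨l, hl⟩ := ih
    exact ⟨4 * l + 1, by rw [pow_succ, hl]; ring⟩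

/-- the input of `pbN` inside `T` -/
def OneB (S P T : Subgroup G) : Prop :=
  ∃ N D : Subgroup G, D ≤ T ∧ D ≤ P ∧ N ≤ zl S P ∧ zl S P ≤ (⨆ p : P, MulAut.conj (p : G) • N) ∧
    (∀ U ≤ N, U ≠ ⊥ → D ≤ normalizer (U : Set G) → N ≤ U) ∧ D ≤ normalizer (N : Set G) ∧
    ¬ D ≤ centralizer (N : Set G) ∧
    ∀ p ∈ P, MulAut.conj p • N = N ∨ D ≤ centralizer ((MulAut.conj p • N : Subgroup G) : Set G)

/-! ### Natural -/

section nat

open NatD
open Cfsg.Agent.Omega.Half.NatA (fac mem_fac Mv Mv.conj Mv.inv Mv.unique)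
open Cfsg.Agent.Omega.NOThreeL.NF.NatR
open Cfsg.Agent.Omega.NatPair (ap ap_mul ap_one ap_inv_ap ap_zero' ap_one' ext2 exists_ap dt)
open Cfsg.Agent.Omega.NO1.NSix (em em_mem e_em_self e_em_ne em_fac em_eq mem_of_em)
open Cfsg.Agent.Lib.SL2Mat

/-- an element of order three: `x ↦ y ↦ x + y ↦ x` -/
theorem exists_three {K : Type} [Field K] [CharP K 2] {x y : Fin 2 → K} (h : dt x y ≠ 0) :
    ∃ X : Matrix.SpecialLinearGroup (Fin 2) K, ap X x = y ∧ ap X y = x + y ∧ ap X (x + y) = x := by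
  have h2 : (2 : K) = 0 := CharTwo.two_eq_zero
  set c : K := (dt x y)⁻¹ with hc
  have hcd : c * dt x y = 1 := inv_mul_cancel₀ h
  have e1 : dt (x + y) x = dt x y := by
    simp only [dt, Pi.add_apply]
    linear_combination (x 1 * y 0 - x 0 * y 1) * h2
  have e2 : dt (x + y) y = dt x y := by simp only [dt, Pi.add_apply]; ring
  have e3 : dt (x + y) (x + y) = 0 := by simp only [dt, Pi.add_apply]; ring
  have e4 : dt y y = 0 := by simp only [dt]; ring
  have e5 : dt y x = dt x y := by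
    simp only [dt]
    linear_combination (x 1 * y 0 - x 0 * y 1) * h2
  have e6 : dt y (x + y) = dt x y := by
    simp only [dt, Pi.add_apply]
    linear_combination (x 1 * y 0 - x 0 * y 1) * h2
  have f1 : x + (x + y) = y := by
    funext i; simp only [Pi.add_apply]; linear_combination (x i) * h2
  have f2 : y + (x + y) = x := by
    funext i; simp only [Pi.add_apply]; linear_combination (y i) * h2
  have f3 : x + y + y = x := by
    funext i; simp only [Pi.add_apply]; linear_combination (y i) * h2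
  refine ⟨tv y c * tv (x + y) c, ?_, ?_, ?_⟩
  · rw [ap_mul, ap_tv (x + y), e1, hcd, one_smul, f1, ap_tv, e4, mul_zero, zero_smul, add_zero]
  · rw [ap_mul, ap_tv (x + y), e2, hcd, one_smul, f2, ap_tv, e5, hcd, one_smul]
  · rw [ap_mul, ap_tv (x + y), e3, mul_zero, zero_smul, add_zero, ap_tv, e6, hcd, one_smul, f3]

theorem ap_pow_four {K : Type} [Field K] {x y : Fin 2 → K} {X : Matrix.SpecialLinearGroup (Fin 2) K} (h1 : ap X x = y)
    (h2 : ap X y = x + y) (h3 : ap X (x + y) = x) (n : ℕ) : ap (X ^ 4 ^ n) x = y := by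
  have h4 : ∀ l : ℕ, ap (X ^ (3 * l)) x = x := by
    intro l
    induction l with
    | zero => rw [mul_zero, pow_zero, ap_one]
    | succ l ih =>
      have e : X ^ (3 * (l + 1)) = X * (X * (X * X ^ (3 * l))) := by
        rw [← pow_succ', ← pow_succ', ← pow_succ']
        congr 1
      rw [e, ap_mul, ap_mul, ap_mul, ih, h1, h2, h3]
  obtain ⟨l, hl⟩ := four_pow n
  rw [hl, pow_succ', ap_mul, h4, h1]

variable {K : Type} [Field K] {S P W : Subgroup G} {k : ℕ} {M : NatKM K S P W ⊥ k} {hPW : P ≤ normalizer (W : Set G)}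
  {j : Fin k}

theorem ac_pow (hPW : P ≤ normalizer (W : Set G)) {g : G} (hg : g ∈ P) {X : Matrix.SpecialLinearGroup (Fin 2) K}
    (h : Ac M g (Pi.mulSingle j X)) (n : ℕ) : Ac M (g ^ n) (Pi.mulSingle j (X ^ n)) := by
  induction n with
  | zero =>
    rw [pow_zero, pow_zero, Pi.mulSingle_one]
    exact ac_one (one_mem _)
  | succ n ih =>
    rw [pow_succ, pow_succ, Pi.mulSingle_mul]
    exact Ac.mul hPW hg ih h

/-- `D` moves independent vectors of the block -/
structure Tw (M : NatKM K S P W ⊥ k) (hPW : P ≤ normalizer (W : Set G)) (j : Fin k) (D : Subgroup G) : Prop where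
  le : D ≤ oneG M hPW j
  ex : ∀ x y : Fin 2 → K, dt x y ≠ 0 → ∃ g ∈ D, ∃ X, Ac M g (Pi.mulSingle j X) ∧ ap X x = y

theorem tw_of [Finite G] [CharP K 2] {T : Subgroup G} (hT : ∀ g ∈ P, Odd (orderOf g) → g ∈ T) :
    Tw M hPW j (oneG M hPW j ⊓ T) := by
  refine ⟨inf_le_left, fun x y h => ?_⟩
  obtain ⟨X, h1, h2, h3⟩ := exists_three h
  obtain ⟨g, hg, hac⟩ := lift_ac (M := M) (Pi.mulSingle j X)
  obtain ⟨n, hn⟩ := exists_pow_odd g
  have h4 := ac_pow hPW hg hac (4 ^ n)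
  have h5 := pow_mem hg (4 ^ n)
  exact ⟨g ^ 4 ^ n, mem_inf.2 ⟨⟨h5, _, h4⟩, hT _ h5 hn⟩, _, h4, ap_pow_four h1 h2 h3 n⟩

theorem Tw.irr {D : Subgroup G} (h : Tw M hPW j D) {U : Subgroup G} (hU : U ≤ fac M.toNatK {j})
    (hne : U ≠ ⊥) (hn : D ≤ normalizer (U : Set G)) : fac M.toNatK {j} ≤ U := by
  obtain ⟨⟨u, hu⟩, hu1'⟩ := U.ne_bot_iff_exists_ne_one.1 hne
  have hu1 : u ≠ 1 := fun h1 => hu1' (Subtype.ext h1)
  have huW : u ∈ W := (hU hu).1
  have hx : M.e u j ≠ 0 := by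
    intro h0
    apply hu1
    refine e_inj (M := M) huW (one_mem _) ?_
    rw [e_one]
    funext i
    by_cases hi : i = j
    · rw [hi, h0]; rfl
    · exact (hU hu).2 i hi
  -- one step
  have step : ∀ w ∈ U, ∀ y : Fin 2 → K, dt (M.e w j) y ≠ 0 → em M.toNatK j y ∈ U := by
    intro w hw y hy
    have hwW : w ∈ W := (hU hw).1
    obtain ⟨g, hg, X, hac, hX⟩ := h.ex _ _ hy
    have h1 : g * w * g⁻¹ ∈ U := (mem_normalizer_iff.1 (hn hg) w).1 hw
    have h2 : em M.toNatK j y = g * w * g⁻¹ := by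
      refine e_inj (M := M) (em_mem _ _ _) (hU h1).1 ?_
      funext i
      by_cases hi : i = j
      · subst hi
        rw [ac_self hac hwW, hX]
        exact e_em_self _ _ _
      · rw [ac_other hac hwW hi, (hU hw).2 i hi]
        exact e_em_ne _ hi _
    rw [h2]; exact h1
  have all : ∀ y : Fin 2 → K, y ≠ 0 → em M.toNatK j y ∈ U := by
    intro y hy
    obtain ⟨z, hz1, hz2⟩ := exists_third hx hy
    have h1 := step u hu z hz1
    refine step _ h1 y ?_
    have e : M.e (em M.toNatK j z) j = z := e_em_self _ _ _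
    rwa [e]
  intro v hv
  by_cases h0 : M.e v j = 0
  · have : v = 1 := by
      refine e_inj (M := M) hv.1 (one_mem _) ?_
      rw [e_one]
      funext i
      by_cases hi : i = j
      · rw [hi, h0]; rfl
      · exact hv.2 i hi
    rw [this]; exact one_mem _
  · have h1 := all _ h0
    have h2 := em_eq M.toNatK hv.1 (i := j) fun i hi => hv.2 i hi
    rwa [h2] at h1

theorem Tw.nt {D : Subgroup G} (h : Tw M hPW j D) : ¬ D ≤ centralizer (fac M.toNatK {j} : Set G) := by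
  intro hc
  have h01 : dt (![1, 0] : Fin 2 → K) ![0, 1] ≠ 0 := by simp [dt]
  obtain ⟨g, hg, X, hac, hX⟩ := h.ex _ _ h01
  have hv : em M.toNatK j ![1, 0] ∈ fac M.toNatK {j} := em_fac _ _ _
  have h1 := mem_centralizer_iff.1 (hc hg) _ hv
  have h2 := ac_self hac hv.1
  have e : M.e (em M.toNatK j ![1, 0]) j = ![1, 0] := e_em_self _ _ _
  rw [← h1, mul_inv_cancel_right, e, hX] at h2
  have h3 := congrFun h2 0
  exact one_ne_zero h3

theorem oneB_nat [Finite G] [Finite K] [CharP K 2] {T : Subgroup G} (M : NatKM K S P (zl S P) ⊥ k) (hk : 0 < k)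
    (hAmb : Amb S P (zl S P)) (hT : ∀ g ∈ P, Odd (orderOf g) → g ∈ T) : OneB S P T := by
  have hPW := hAmb.HV
  have hSP := hAmb.TH
  set j : Fin k := ⟨0, hk⟩ with hj
  have tw : Tw M hPW j (oneG M hPW j ⊓ T) := tw_of hT
  refine ⟨fac M.toNatK {j}, oneG M hPW j ⊓ T, inf_le_right, inf_le_left.trans oneG_le, fun v hv => hv.1, ?_,
    fun U hU hne hn => tw.irr hU hne hn, inf_le_left.trans oneG_norm, tw.nt, ?_⟩
  · intro v hv
    refine mem_of_em M.toNatK hv fun i => ?_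
    obtain ⟨s, hs, hsi⟩ := M.trans j i
    obtain ⟨σ, hσ⟩ := M.perm s (hSP hs)
    have h1 : σ j = i := Mv.unique M.toNatK hAmb hσ (hSP hs) hsi
    have h2 := exists_conj_fac hAmb (hSP hs) hσ j
    rw [h1] at h2
    have h3 : em M.toNatK i (M.e v i) ∈ fac M.toNatK {i} := em_fac _ _ _
    rw [← h2] at h3
    exact (le_iSup (fun p : P => MulAut.conj (p : G) • fac M.toNatK {j}) ⟨s, hSP hs⟩) h3
  · intro p hp
    obtain ⟨σ, hσ⟩ := M.perm p hp
    rw [exists_conj_fac hAmb hp hσ]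
    by_cases h1 : σ j = j
    · left; rw [h1]
    · right
      refine (inf_le_left.trans (le_centralizer_iff.1 fun v hv => cent_oneG hv.1 (hv.2 j fun h => h1 h.symm)))

end nat

/-! ### Even subsets -/

section sym

open TyS
open Cfsg.Agent.Omega.FFThm (SymK)
open Cfsg.Agent.Omega.Half.SymA
open Cfsg.Agent.Omega.NOThreeL.NF.SymRP
open scoped Classical

variable {T H V : Subgroup G} {k m : ℕ}

theorem tc_four {a b c : Pt k m} (hab : a ≠ b) (hbc : b ≠ c) (hac : a ≠ c) (n : ℕ) :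
    (Equiv.swap a b * Equiv.swap b c) ^ 4 ^ n = Equiv.swap a b * Equiv.swap b c := by
  obtain ⟨π, hπ⟩ : ∃ π, π = Equiv.swap a b * Equiv.swap b c := ⟨_, rfl⟩
  have h1 : π a = b := by rw [hπ]; exact tc_a hab hac
  have h2 : π b = c := by rw [hπ]; exact tc_b hbc hac
  have h3 : π c = a := by rw [hπ]; exact tc_c
  have h4 : ∀ z, z ≠ a → z ≠ b → z ≠ c → π z = z := fun z ha hb hc => by rw [hπ]; exact tc_ne ha hb hc
  have h5 : π ^ 3 = 1 := by
    ext1 z
    rw [pow_succ, pow_two, Equiv.Perm.mul_apply, Equiv.Perm.mul_apply, Equiv.Perm.one_apply]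
    by_cases ha : z = a
    · rw [ha, h1, h2, h3]
    by_cases hb : z = b
    · rw [hb, h2, h3, h1]
    by_cases hc : z = c
    · rw [hc, h3, h1, h2]
    rw [h4 z ha hb hc, h4 z ha hb hc, h4 z ha hb hc]
  obtain ⟨l, hl⟩ := four_pow n
  rw [← hπ, hl, pow_add, pow_mul, h5, one_pow, one_mul, pow_one]

variable {M : SymK T H V ⊥ k m} (hA : Amb T H V)

include hA in
theorem exists_tc_T [Finite G] {X : Subgroup G} (hX : ∀ g ∈ H, Odd (orderOf g) → g ∈ X) {j : Fin k} {a b c : Pt k m}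
    (ha : a.1 = j) (hb : b.1 = j) (hc : c.1 = j) (hab : a ≠ b) (hbc : b ≠ c) (hac : a ≠ c) :
    ∃ g ∈ Ab M hA j ⊓ X, Mv M g (Equiv.swap a b * Equiv.swap b c) := by
  obtain ⟨s, hs, hs1⟩ := exists_swap (M := M) (p := a) (q := b) (ha.trans hb.symm)
  obtain ⟨t, ht, ht1⟩ := exists_swap (M := M) (p := b) (q := c) (hb.trans hc.symm)
  have h1 := hs1.mul hA ht1 ht
  have h2 := mul_mem hs ht
  obtain ⟨n, hn⟩ := exists_pow_odd (s * t)
  have h3 := h1.pow hA h2 (4 ^ n)
  rw [tc_four hab hbc hac] at h3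
  have h4 := pow_mem h2 (4 ^ n)
  refine ⟨_, mem_inf.2 ⟨⟨h4, _, h3, fun r hr => tc_ne ?_ ?_ ?_⟩, hX _ h4 hn⟩, h3⟩
  · rintro rfl; exact hr ha
  · rintro rfl; exact hr hb
  · rintro rfl; exact hr hc

theorem oneB_sym [Finite G] {S P T : Subgroup G} {k m : ℕ} (M : SymK S P (zl S P) ⊥ k m) (hk : 0 < k) (hm : 2 ≤ m)
    (hA : Amb S P (zl S P)) (hT : ∀ g ∈ P, Odd (orderOf g) → g ∈ T) : OneB S P T := by
  have hm1 : 1 ≤ m := by omega
  set j : Fin k := ⟨0, hk⟩ with hj
  have htc := fun {a b c : Pt k m} => exists_tc_T (M := M) hA hT (j := j) (a := a) (b := b) (c := c)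
  have hAP : Ab M hA j ≤ P := by
    intro g hg
    exact hg.1
  refine ⟨blk M j, Ab M hA j ⊓ T, inf_le_right, inf_le_left.trans hAP, fun v hv => hv.1,
    gen hA hm1 _, ?_, inf_le_left.trans (ab_norm hA _), ?_, ?_⟩
  · intro U hU hne hUn
    exact blk_le_of_tc hA hm hU hne (inf_le_left.trans hAP) hUn
      fun a b c ha hb hc hab hbc hac => htc ha hb hc hab hbc hac
  · intro hcon
    obtain ⟨y, z, hyz, ⟨hy1, -, -⟩, hz1, -, -⟩ := exists_two hm (0 : Fin (2 ^ m + 1)) 0 0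
    set a : Pt k m := (j, 0) with ha
    set b : Pt k m := (j, y) with hb
    set c : Pt k m := (j, z) with hc
    have hab : a ≠ b := fun h1 => hy1 (congrArg Prod.snd h1).symm
    have hac : a ≠ c := fun h1 => hz1 (congrArg Prod.snd h1).symm
    have hbc : b ≠ c := fun h1 => hyz (congrArg Prod.snd h1)
    obtain ⟨v, hv⟩ := exists_isC (M := M) (p := a) (q := b) rfl
    obtain ⟨g, hg, hg1⟩ := htc (a := a) (b := b) (c := c) rfl rfl rfl hab hbc hac
    have hvb : v ∈ blk M j := pair_mem_blk (a := a) (b := b) rfl rfl hv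
    have h1 := mem_centralizer_iff.1 (hcon hg) v hvb
    have h2 := hg1 v hv.1 c
    rw [← h1, mul_inv_cancel_right, tc_c, hv.left hab, hv.zero hac.symm hbc.symm] at h2
    exact one_ne_zero h2
  · intro y hy
    obtain ⟨π, hπ, -⟩ := exists_mv (M := M) hy
    have h1 := smul_blk hA hm1 hy hπ ((j, 0) : Pt k m)
    change MulAut.conj y • blk M j = _ at h1
    rw [h1]
    by_cases hj : (π ((j, 0) : Pt k m)).1 = j
    · left; rw [hj]
    · right
      exact inf_le_left.trans (ab_cent hA hj)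

end sym

/-- **One block inside `T ≥ O²(P)`.** -/
theorem oneB [Finite G] {S : Sylow 2 G} {P : Subgroup G} (hG : IsCharacteristicTwoType G)
    (hP : IsParS (S : Subgroup G) P) (hcv : FrameFF.cv (S : Subgroup G) P = ⊥) (hc : ConclM (S : Subgroup G) P)
    {T : Subgroup G} (hT : ∀ g ∈ P, Odd (orderOf g) → g ∈ T) : OneB (S : Subgroup G) P T := by
  have hA : Amb (S : Subgroup G) P (zl (S : Subgroup G) P) := Half.amb_of_loc hG S hP.isLoc
  rcases hc with ⟨K, _, _, _, k, hk, ⟨M⟩⟩ | ⟨k, m, hk, hm, ⟨M⟩⟩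
  · rw [hcv] at M
    exact oneB_nat M hk hA hT
  · rw [hcv] at M
    exact oneB_sym M.toSymK hk hm hA hT

end Cfsg.Agent.Omega.NO3S.SFive
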