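import Cfsg.Agent.Mrg.Omega.NO3S.Act.Dich
import Cfsg.Agent.Mrg.Omega.NO3S.SFive.PB
import Cfsg.Agent.Mrg.Omega.NO3S.SFive.OneB
import Cfsg.Agent.Mrg.Omega.NO3S.SFive.NatD
import Cfsg.Agent.Mrg.Omega.NO3S.Pas.Three
import Cfsg.Agent.Mrg.Omega.NO3S.SFive.Out


/-!
# GammaFF (S5): a bad chamber (helper31 #23010 (G))

* `Fv.pbo` : `B ≤ S` which moves `L` does not satisfy `[V, B] ≤ L`;
* `card_comm_nat`, `card_comm_sym` : `|[L, A]| = |K|`, `= 2` for a minimal offender `A`;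
* `Fv.rhoG` : the root group `ρ` : `[E, B] ≤ ρ`, `|ρ| = q₀ ≤ |I : F|`;
* **`Fv.gam`** : at a bad chamber `B` is a minimal offender on `L`, `L ∩ E ≤ C(B)`, `[L, B] ∩ F = 1`.
-/

set_option autoImplicit false
set_option linter.unusedSectionVars false

namespace Cfsg.Agent.Omega.NO3S.SFive

open Subgroup Cfsg Cfsg.Agent.ZN Cfsg.Agent.ZN.ChoiceBase
open Cfsg.Agent.Omega.MinPar
open Cfsg.Agent.Omega.FFThm (ConclM NoOverM OffM ElemM relIndex_le_iff NatKM SymKM)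
open Cfsg.Agent.Omega.NOne.Flat (Hyp EE NN Cos conj_eq_of_norm EE_conj WW_conj conj_centralizer
  card_mul_relIndex')
open Cfsg.Agent.Omega.NOne.NearFF (c c_def)
open Cfsg.Agent.Omega.NOThreeL.NF (MinOffM RP)
open Cfsg.Agent.Omega.NOThreeL.Low (Tp)
open Cfsg.Agent.Omega.NOThreeL.Low.Key (BH c_eq_one')
open Cfsg.Agent.Omega.NoFF.Basic (conj_conj mem_conj conj_le_iff conj_le_centralizer)
open Cfsg.Agent.Omega.Half (Amb)
open Cfsg.Agent.MinSimple.VModule (oddGen mem_oddGen oddGen_le_of_sup zc_le_zl)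
open scoped Pointwise commutatorElement

universe u

variable {G : Type u} [Group G] [Finite G] {S : Sylow 2 G} {P V M F : Subgroup G}

theorem o2_le_cent (hG : IsCharacteristicTwoType G) (hP : IsParS (S : Subgroup G) P) :
    o2 P ≤ centralizer (zl (S : Subgroup G) P : Set G) := by
  have h1 : zl (S : Subgroup G) P ≤ zc (o2 P) := hP.isLoc.zl_le S hG
  intro q hq
  rw [mem_centralizer_iff]
  intro v hv
  exact ((ChoiceBase.mem_zc.1 (h1 hv)).2.2 q hq).symm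

theorem ph_eq (v b : G) : ph v b = (c v b)⁻¹ := by
  rw [ph, c_def]; group

/-- **`[V, B] ≰ L`** if `B ≤ S` moves `L` -/
theorem Fv.pbo (h : Fv S P V M F) {B : Subgroup G} (hBS : B ≤ (S : Subgroup G))
    (hne : ¬ B ≤ centralizer (zl (S : Subgroup G) P : Set G))
    (hVB : ∀ v ∈ V, ∀ b ∈ B, c v b ∈ zl (S : Subgroup G) P) : False := by
  have hPV := h.PM.trans h.MV
  have hPL : P ≤ normalizer (zl (S : Subgroup G) P : Set G) := MinSimple.VModule.le_normalizer_zl _ _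
  have hSP : (S : Subgroup G) ≤ P := h.par.le
  have hTP : trv hPL V ≤ P := fun g hg => hg.1
  have hPT : P ≤ normalizer (trv hPL V : Set G) := by
    refine le_normalizer_of' fun p hp t ht => ⟨mul_mem (mul_mem hp ht.1) (inv_mem hp), fun v hv => ?_⟩
    have h1 : p⁻¹ * v * p⁻¹⁻¹ ∈ V := (mem_normalizer_iff.1 (hPV (inv_mem hp)) v).1 hv
    have h2 := (mem_normalizer_iff.1 (hPL hp) _).1 (ht.2 _ h1)
    have e : ph v (p * t * p⁻¹) = p * ph (p⁻¹ * v * p⁻¹⁻¹) t * p⁻¹ := by simp only [ph]; group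
    rwa [e]
  have hBT : B ≤ trv hPL V := fun b hb => ⟨hSP (hBS hb), fun v hv => by
    rw [ph_eq]; exact inv_mem (hVB v hv b hb)⟩
  have hQL := o2_le_cent h.ct h.par
  rcases h.par.toIsPar.sup_eq_or_inf_le S hTP hPT with h1 | h1
  · have hT : ∀ g ∈ P, Odd (orderOf g) → g ∈ trv hPL V := fun g hg ho =>
      oddGen_le_of_sup hPT h1.ge hSP hTP S.isPGroup' (mem_oddGen hg ho)
    obtain ⟨N, D, hDT, hDP, hNL, hgen, hirr, hDN, hnt, hdis⟩ := oneB h.ct h.par h.cvb h.concl hT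
    have hVD : ⁅V, D⁆ ≤ zl (S : Subgroup G) P := by
      rw [commutator_le]
      intro v hv d hd
      have h2 := (hDT hd).2 v hv
      have e : ⁅v, d⁆ = (ph v d)⁻¹ := by rw [commutatorElement_def, ph]; group
      rw [e]
      exact inv_mem h2
    refine h.ne (pbN h.comm h.sq hPV hPL h.LV (ZN.o2_le P) hQL h.t6 hDP hNL hgen hirr hDN hnt hdis hVD ?_
      fun A hA => h.noOff A (hA.trans hPV))
    intro U hU hU1 hPU
    have h1 := exists_fix (hU.trans h.VS) (fun v hv => h.sq v (hU hv)) hU1 (hSP.trans hPU)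
    intro h2
    apply h1
    rw [eq_bot_iff, ← h2]
    exact inf_le_inf le_rfl (zc_le_zl _ _)
  · exact hne fun b hb => hQL (h1 ⟨hBS hb, hBT hb⟩)

/-! ### The order of the root group -/

theorem card_comm_nat {K : Type} [Field K] [Finite K] [CharP K 2] {k : ℕ}
    (N : NatKM K (S : Subgroup G) P (zl (S : Subgroup G) P) ⊥ k) (hSP : (S : Subgroup G) ≤ P) {A : Subgroup G}
    (hA : MinOffM (zl (S : Subgroup G) P) (S : Subgroup G) A) :
    Nat.card ↥(⁅zl (S : Subgroup G) P, A⁆ : Subgroup G) = Nat.card K := by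
  have hPW : P ≤ normalizer (zl (S : Subgroup G) P : Set G) := MinSimple.VModule.le_normalizer_zl _ _
  obtain ⟨j, hj⟩ := NOThreeL.NF.NatR.Rt.of (M := N) hPW hSP hA
  rw [hj.comm_eq hPW hSP, NOThreeL.NF.NatR.card_ln]

theorem card_comm_sym {k m : ℕ} (N : SymKM (S : Subgroup G) P (zl (S : Subgroup G) P) ⊥ k m) (hm : 1 ≤ m)
    (hAmb : Amb (S : Subgroup G) P (zl (S : Subgroup G) P)) {A : Subgroup G}
    (hA : MinOffM (zl (S : Subgroup G) P) (S : Subgroup G) A) :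
    Nat.card ↥(⁅zl (S : Subgroup G) P, A⁆ : Subgroup G) = 2 := by
  obtain ⟨p, q, h⟩ := TyS.exists_tr N hAmb hm hA
  obtain ⟨d, hd⟩ := NOThreeL.NF.SymRP.exists_isC (M := N.toSymK) h.blk
  rw [h.comm_eq hAmb hm hd, TyS.card_zp hAmb hd h.ne]

/-- a group of order `≤ 3` which meets `L` is in `L` -/
theorem le_of_card_le_three {ρ L : Subgroup G} (h3 : Nat.card ρ ≤ 3) (h : ρ ⊓ L ≠ ⊥) : ρ ≤ L := by
  have h1 : Nat.card ↥(ρ ⊓ L) ∣ Nat.card ρ := card_dvd_of_le inf_le_left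
  have h2 : Nat.card ↥(ρ ⊓ L) ≠ 1 := fun h4 => h (card_eq_one.1 h4)
  have h4 : 0 < Nat.card ↥(ρ ⊓ L) := Nat.card_pos
  have h5 : Nat.card ρ = Nat.card ↥(ρ ⊓ L) := by
    obtain ⟨d, hd⟩ := h1
    have h6 : d = 1 := by
      by_contra hd1
      have h7 : d ≠ 0 := by
        rintro rfl
        rw [mul_zero] at hd
        exact absurd hd (Nat.card_pos (α := ρ)).ne'
      have h8 : 2 * 2 ≤ Nat.card ↥(ρ ⊓ L) * d := Nat.mul_le_mul (by omega) (by omega)
      omega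
    rw [hd, h6, mul_one]
  have h6 : ρ ⊓ L = ρ := Subgroup.eq_of_le_of_card_ge inf_le_left h5.le
  rw [← h6]
  exact inf_le_right

theorem tp_of (hcv : FrameFF.cv (S : Subgroup G) P = ⊥) (hc : ConclM (S : Subgroup G) P) :
    Tp (S : Subgroup G) P := by
  unfold ConclM at hc
  rwa [hcv] at hc

section main

variable {B : Subgroup G}

/-- `|V : E| = |L : L ∩ E| = |I : F|` -/
theorem Fv.idxG (h : Fv S P V M F) (bh : BH V F B) (hsq : ∀ b ∈ B, b ^ 2 = 1) (hBS : B ≤ (S : Subgroup G))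
    (hUE : ¬ zl (S : Subgroup G) P ≤ EE V F) (hI : ¬ V ⊓ B ≤ F) :
    (EE V F).relIndex (zl (S : Subgroup G) P) = F.relIndex (V ⊓ B) ∧ (EE V F).relIndex V = F.relIndex (V ⊓ B) := by
  have h3 := Pas.three h.ct h.par (tp_of h.cvb h.concl) bh hsq hBS h.LV hUE
  have h4 : (EE V F).relIndex (zl (S : Subgroup G) P) ≤ (EE V F).relIndex V :=
    relIndex_le_of_le_right h.LV (rne _ _)
  have h5 := bh.relIndex_V_le hI
  omega

/-- **the root group** -/
theorem Fv.rhoG (h : Fv S P V M F) (bh : BH V F B) (hkey : F.relIndex (V ⊓ B) ≤ (EE V F).relIndex V)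
    {m : G} (hm : m ∈ M) (hWm : NOne.Flat.WW V F ≤ MulAut.conj m • (S : Subgroup G))
    (hmB : MulAut.conj m • zl (S : Subgroup G) P ≤ B) (hmF : ¬ MulAut.conj m • zl (S : Subgroup G) P ≤ F) :
    ∃ ρ A : Subgroup G, MinOffM (zl (S : Subgroup G) P) (S : Subgroup G) A ∧
      Nat.card ρ = Nat.card ↥(⁅zl (S : Subgroup G) P, A⁆ : Subgroup G) ∧ (∀ e ∈ EE V F, ∀ b ∈ B, c e b ∈ ρ) ∧
      Nat.card ρ ≤ F.relIndex (V ⊓ B) := by
  set L := zl (S : Subgroup G) P with hL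
  have hmV := h.MV hm
  have hmV' := h.MV (inv_mem hm)
  have hcV : MulAut.conj m • V = V := conj_eq_of_norm hmV
  have hmLV : MulAut.conj m • L ≤ V := by
    rw [← hcV]; exact conj_le_iff.2 h.LV
  have hmI : MulAut.conj m • L ≤ V ⊓ B := le_inf hmLV hmB
  have hI : ¬ V ⊓ B ≤ F := fun h1 => hmF (hmI.trans h1)
  obtain ⟨b₀, hb₀, hb₀N⟩ := bh.exists_not_mem_NN hI
  have hyp' := h.toHyp.conj hmV'
  have hr : Pas.Root V F (V ⊓ B) :=
    Pas.Root.of_key (fun r hr hrF b hb hbN y => bh.root hkey hr hrF hb hbN y) ⟨b₀, hb₀, hb₀N⟩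
  have hr' := hr.conj hmV'
  have hIE' : MulAut.conj m⁻¹ • (V ⊓ B) ≤ EE V (MulAut.conj m⁻¹ • F) := by
    rw [← EE_conj hmV']; exact conj_le_iff.2 bh.I_le_E
  have hLI' : L ≤ MulAut.conj m⁻¹ • (V ⊓ B) := by
    have := conj_le_iff (g := m⁻¹).2 hmI
    rwa [conj_conj, inv_mul_cancel, map_one, one_smul] at this
  have hWS' : NOne.Flat.WW V (MulAut.conj m⁻¹ • F) ≤ (S : Subgroup G) := by
    rw [← WW_conj hmV']
    have := conj_le_iff (g := m⁻¹).2 hWm
    rwa [conj_conj, inv_mul_cancel, map_one, one_smul] at this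
  have hLF' : ¬ L ≤ MulAut.conj m⁻¹ • F := by
    intro h1
    apply hmF
    have := conj_le_iff (g := m).2 h1
    rwa [conj_conj, mul_inv_cancel, map_one, one_smul] at this
  have hmov' : ¬ NOne.Flat.WW V (MulAut.conj m⁻¹ • F) ≤ centralizer (L : Set G) := by
    intro h1
    apply hLF'
    rw [← hyp'.cent_VW]
    exact le_inf h.LV (le_centralizer_iff.1 h1)
  have hmin := Pas.minOff_of_root h.ct h.par h.cvb h.concl hyp' hr' hIE' hLI' hWS' hmov'
  have rp := Pas.rp_of_concl h.ct h.par h.cvb h.concl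
  obtain ⟨l, hl, hlF⟩ := SetLike.not_le_iff_exists.1 hLF'
  have hrI : m * l * m⁻¹ ∈ V ⊓ B := hmI (by
    rw [mem_conj]
    have e : m⁻¹ * (m * l * m⁻¹) * m = l := by group
    rwa [e])
  have hrF : m * l * m⁻¹ ∉ F := by
    intro h1
    apply hlF
    rw [mem_conj]
    have e : m⁻¹⁻¹ * l * m⁻¹ = m * l * m⁻¹ := by group
    rwa [e]
  have hcard : Nat.card ↥(MulAut.conj m • ⁅L, NOne.Flat.WW V (MulAut.conj m⁻¹ • F)⁆ : Subgroup G) =
      Nat.card ↥(⁅L, NOne.Flat.WW V (MulAut.conj m⁻¹ • F)⁆ : Subgroup G) := NOne.Choice.card_conj _ _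
  refine ⟨MulAut.conj m • ⁅L, NOne.Flat.WW V (MulAut.conj m⁻¹ • F)⁆, NOne.Flat.WW V (MulAut.conj m⁻¹ • F), hmin,
    hcard, ?_, ?_⟩
  · intro e he b hb
    by_cases hbN : b ∈ NN V F
    · rw [c_eq_one' (mem_centralizer_iff.1 hbN.2 e he)]
      exact one_mem _
    · obtain ⟨s, hs, h1⟩ := (bh.root hkey hrI hrF hb hbN (c e b)).2 ⟨e, he, rfl⟩
      rw [← h1, mem_conj]
      have e1 : m⁻¹ * c (m * l * m⁻¹) s * m = c l (m⁻¹ * s * m) := by rw [c_def, c_def]; group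
      rw [e1]
      refine commutator_mem_commutator hl ?_
      rw [← WW_conj hmV', mem_conj]
      have e2 : m⁻¹⁻¹ * (m⁻¹ * s * m) * m⁻¹ = s := by group
      rwa [e2]
  · rw [hcard, rp.card _ hmin]
    have h1 := relIndex_le_iff.1 (h.noOver _ (hWS'.trans h.par.le) hmin.off.toElemM)
    refine h1.trans ?_
    have h2 : (centralizer (NOne.Flat.WW V (MulAut.conj m⁻¹ • F) : Set G)).relIndex L =
        (MulAut.conj m⁻¹ • F).relIndex L := by
      rw [← inf_relIndex_right, ← inf_relIndex_right (MulAut.conj m⁻¹ • F)]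
      congr 1
      have h3 := hyp'.cent_VW
      apply le_antisymm
      · rintro x ⟨hx1, hx2⟩
        refine ⟨?_, hx2⟩
        have h4 : x ∈ V ⊓ centralizer (NOne.Flat.WW V (MulAut.conj m⁻¹ • F) : Set G) := ⟨h.LV hx2, hx1⟩
        rwa [h3] at h4
      · rintro x ⟨hx1, hx2⟩
        refine ⟨?_, hx2⟩
        have h4 : x ∈ V ⊓ centralizer (NOne.Flat.WW V (MulAut.conj m⁻¹ • F) : Set G) := by rw [h3]; exact hx1
        exact h4.2
    rw [h2]
    have h3 : (MulAut.conj m⁻¹ • F).relIndex L ≤ (MulAut.conj m⁻¹ • F).relIndex (MulAut.conj m⁻¹ • (V ⊓ B)) :=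
      relIndex_le_of_le_right hLI' (rne _ _)
    rwa [relIndex_pointwise_smul] at h3

/-- `L ∩ E` is centralised by `B` -/
theorem Fv.cent_LE (h : Fv S P V M F) (bh : BH V F B) (hsq : ∀ b ∈ B, b ^ 2 = 1) (hBS : B ≤ (S : Subgroup G))
    (hUE : ¬ zl (S : Subgroup G) P ≤ EE V F) {m : G} (hm : m ∈ M)
    (hWm : NOne.Flat.WW V F ≤ MulAut.conj m • (S : Subgroup G))
    (hmB : MulAut.conj m • zl (S : Subgroup G) P ≤ B) (hmF : ¬ MulAut.conj m • zl (S : Subgroup G) P ≤ F)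
    (hI : ¬ V ⊓ B ≤ F) : zl (S : Subgroup G) P ⊓ EE V F ≤ centralizer (B : Set G) := by
  by_contra hne
  obtain ⟨i1, i2⟩ := h.idxG bh hsq hBS hUE hI
  obtain ⟨ρ, A, hA, hρA, hρ, hρi⟩ := h.rhoG bh i2.ge hm hWm hmB hmF
  have hSP : (S : Subgroup G) ≤ P := h.par.le
  have hPL : P ≤ normalizer (zl (S : Subgroup G) P : Set G) := MinSimple.VModule.le_normalizer_zl _ _
  have hcL : ∀ v ∈ zl (S : Subgroup G) P, ∀ b ∈ B, c v b ∈ zl (S : Subgroup G) P := fun v hv b hb =>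
    NOThreeL.Low.Key.c_mem_left hv (hPL (hSP (hBS hb)))
  have hmeet : ρ ⊓ zl (S : Subgroup G) P ≠ ⊥ := by
    intro h0
    apply hne
    intro v hv
    rw [mem_centralizer_iff]
    intro b hb
    have h1 : c v b ∈ ρ ⊓ zl (S : Subgroup G) P := ⟨hρ v hv.2 b hb, hcL v hv.1 b hb⟩
    rw [h0, mem_bot] at h1
    exact (NOThreeL.Low.Key.comm_of_c h1).symm
  have hρL : ρ ≤ zl (S : Subgroup G) P := by
    rcases h.concl with ⟨K, _, _, _, k, hk, ⟨N⟩⟩ | ⟨k, n, hk, hn, ⟨N⟩⟩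
    · rw [h.cvb] at N
      have h1 := card_comm_nat N hSP hA
      by_cases h4 : 4 ≤ Nat.card K
      · exact alpha h4 N h.ct h.par bh hsq hBS h.LV hUE (by omega) hρ (by omega) hne
      · exact le_of_card_le_three (by omega) hmeet
    · rw [h.cvb] at N
      have hAmb : Amb (S : Subgroup G) P (zl (S : Subgroup G) P) := Half.amb_of_loc h.ct S h.par.isLoc
      have h1 := card_comm_sym N (by omega) hAmb hA
      exact le_of_card_le_three (by omega) hmeet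
  obtain ⟨b₀, hb₀, hb₀N⟩ := bh.exists_not_mem_NN hI
  obtain ⟨w₀, hw₀, hw₀E⟩ := SetLike.not_le_iff_exists.1 hUE
  refine h.pbo hBS (fun h1 => hb₀N (bh.mem_NN_of_c (h.LV hw₀) hw₀E hb₀ ?_)) ?_
  · rw [c_eq_one' (mem_centralizer_iff.1 (h1 hb₀) w₀ hw₀)]
    exact one_mem _
  · intro v hv b hb
    have hcos : Cos id (zl (S : Subgroup G) P) (EE V F) V (EE V F) := ⟨fun l hl => h.LV hl, fun _ _ _ _ => Iff.rfl⟩
    obtain ⟨l, hl, h1⟩ := hcos.surj (by omega) hv
    have h1' : l⁻¹ * v ∈ EE V F := h1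
    have hve : v = l * (l⁻¹ * v) := by group
    rw [hve, h.toHyp.c_mul_left (h.LV hl) h1'.1 (bh.le_W hb)]
    exact mul_mem (hcL l hl b hb) (hρL (hρ _ h1' b hb))

/-- **A bad chamber.** -/
theorem Fv.gam (h : Fv S P V M F) {B : Subgroup G} (bh : BH V F B) (hsq : ∀ b ∈ B, b ^ 2 = 1)
    (hBS : B ≤ (S : Subgroup G)) (hUE : ¬ zl (S : Subgroup G) P ≤ EE V F)
    (ha : ∃ m ∈ M, NOne.Flat.WW V F ≤ MulAut.conj m • (S : Subgroup G) ∧
      MulAut.conj m • zl (S : Subgroup G) P ≤ B ∧ ¬ MulAut.conj m • zl (S : Subgroup G) P ≤ F) :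
    zl (S : Subgroup G) P ⊓ EE V F ≤ centralizer (B : Set G) ∧
      MinOffM (zl (S : Subgroup G) P) (S : Subgroup G) B ∧
      ⁅zl (S : Subgroup G) P, B⁆ ⊓ F = ⊥ ∧
      (EE V F).relIndex V ≤ (EE V F).relIndex (zl (S : Subgroup G) P) ∧
      F.relIndex (V ⊓ B) ≤ Nat.card ↥(⁅zl (S : Subgroup G) P, B⁆ : Subgroup G) := by
  obtain ⟨m, hm, hWm, hmB, hmF⟩ := ha
  have hI : ¬ V ⊓ B ≤ F := by
    intro h1
    apply hmF
    refine (le_inf ?_ hmB).trans h1
    rw [← conj_eq_of_norm (h.MV hm)]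
    exact conj_le_iff.2 h.LV
  obtain ⟨i1, i2⟩ := h.idxG bh hsq hBS hUE hI
  have hLE := h.cent_LE bh hsq hBS hUE hm hWm hmB hmF hI
  set L := zl (S : Subgroup G) P with hL
  have rp := Pas.rp_of_concl h.ct h.par h.cvb h.concl
  obtain ⟨b₀, hb₀, hb₀N⟩ := bh.exists_not_mem_NN hI
  obtain ⟨w₀, hw₀, hw₀E⟩ := SetLike.not_le_iff_exists.1 hUE
  -- `C_L(A) ≤ E` for `A ≤ B`, `A ≰ N`
  have hcen : ∀ A ≤ B, ∀ a ∈ A, a ∉ NN V F → L ⊓ centralizer (A : Set G) ≤ EE V F := by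
    rintro A hAB a ha haN w ⟨hw, hwA⟩
    refine bh.mem_E_of_c (h.LV hw) (hAB ha) haN ?_
    rw [c_eq_one' (mem_centralizer_iff.1 hwA a ha).symm]
    exact one_mem _
  have hle : ∀ A ≤ B, ∀ a ∈ A, a ∉ NN V F → F.relIndex (V ⊓ B) ≤ (centralizer (A : Set G)).relIndex L := by
    intro A hAB a ha haN
    rw [← i1]
    have h1 : (L ⊓ centralizer (A : Set G)).relIndex L = (centralizer (A : Set G)).relIndex L := by
      rw [inf_comm, inf_relIndex_right]
    rw [← h1]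
    exact relIndex_le_of_le_left (hcen A hAB a ha haN) (rne _ _)
  have hB1 : (centralizer (B : Set G)).relIndex L = F.relIndex (V ⊓ B) := by
    refine le_antisymm ?_ (hle B le_rfl b₀ hb₀ hb₀N)
    rw [← i1]
    have h1 : (L ⊓ EE V F).relIndex L = (EE V F).relIndex L := by rw [inf_comm, inf_relIndex_right]
    rw [← h1]
    exact relIndex_le_of_le_left hLE (rne _ _)
  -- `C_B(L) ≤ N`
  have hCN : B ⊓ centralizer (L : Set G) ≤ NN V F := by
    rintro b ⟨hb, hbL⟩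
    refine bh.mem_NN_of_c (h.LV hw₀) hw₀E hb ?_
    rw [c_eq_one' (mem_centralizer_iff.1 hbL w₀ hw₀)]
    exact one_mem _
  have hne : ¬ B ≤ centralizer (L : Set G) := fun h1 => hb₀N (hCN ⟨hb₀, h1 hb₀⟩)
  have hB2 : F.relIndex (V ⊓ B) ≤ (centralizer (L : Set G)).relIndex B := by
    rw [← bh.relIndex_B]
    have h1 : (B ⊓ centralizer (L : Set G)).relIndex B = (centralizer (L : Set G)).relIndex B := by
      rw [inf_comm, inf_relIndex_right]
    rw [← h1]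
    exact relIndex_le_of_le_left hCN (rne _ _)
  have hoff : OffM L B :=
    { sq := fun b hb => by rw [hsq b hb]; exact one_mem _
      comm := fun a ha b hb => by
        have e : a * b * a⁻¹ * b⁻¹ = 1 := by rw [bh.B_comm ha hb]; group
        rw [e]; exact one_mem _
      ne := hne
      le := relIndex_le_iff.2 (by rw [hB1]; exact hB2) }
  have hB3 : (centralizer (L : Set G)).relIndex B = F.relIndex (V ⊓ B) := by
    refine le_antisymm ?_ hB2
    have h1 := relIndex_le_iff.1 (h.noOver _ (hBS.trans h.par.le) hoff.toElemM)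
    rwa [hB1] at h1
  -- `C_B(L) = B ∩ N`
  have hNC : B ⊓ NN V F ≤ centralizer (L : Set G) := by
    have h1 : B ⊓ centralizer (L : Set G) ≤ B ⊓ NN V F := le_inf inf_le_left hCN
    have h2 : (B ⊓ centralizer (L : Set G)).relIndex B = (B ⊓ NN V F).relIndex B := by
      rw [inf_comm, inf_relIndex_right, hB3, inf_comm B, inf_relIndex_right, bh.relIndex_B]
    have h3 := card_mul_relIndex' (inf_le_left : B ⊓ centralizer (L : Set G) ≤ B)
    have h4 := card_mul_relIndex' (inf_le_left : B ⊓ NN V F ≤ B)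
    have h5 : B ⊓ centralizer (L : Set G) = B ⊓ NN V F := by
      refine Subgroup.eq_of_le_of_card_ge h1 ?_
      rw [h2] at h3
      have h6 : 0 < (B ⊓ NN V F).relIndex B := Nat.pos_of_ne_zero (rne _ _)
      have h7 := h3.trans h4.symm
      exact (Nat.eq_of_mul_eq_mul_right h6 h7).ge
    rw [← h5]
    exact inf_le_right
  have hmin : MinOffM L (S : Subgroup G) B := by
    refine ⟨hBS, hoff, fun A hAB hA => ?_⟩
    rw [hB3]
    obtain ⟨a, ha, haN⟩ : ∃ a ∈ A, a ∉ NN V F := by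
      by_contra hcon
      push Not at hcon
      exact hA.ne fun a ha => hNC ⟨hAB ha, hcon a ha⟩
    exact (hle A hAB a ha haN).trans (relIndex_le_iff.1 hA.le)
  refine ⟨hLE, hmin, ?_, by omega, ?_⟩
  · rw [eq_bot_iff]
    rintro x ⟨hx1, hx2⟩
    have hw₀B : w₀ ∉ centralizer (B : Set G) := fun h1 => hw₀E (hcen B le_rfl b₀ hb₀ hb₀N ⟨hw₀, h1⟩)
    obtain ⟨a, ha, h1⟩ := rp.surj B hmin w₀ hw₀ hw₀B x hx1
    have h2 : c w₀ a = x⁻¹ := by rw [← h1, c_def]; group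
    have haN : a ∈ NN V F := bh.mem_NN_of_c (h.LV hw₀) hw₀E ha (by rw [h2]; exact inv_mem hx2)
    have h3 : c w₀ a = 1 := c_eq_one' (mem_centralizer_iff.1 (hNC ⟨ha, haN⟩) w₀ hw₀)
    rw [h2, inv_eq_one] at h3
    exact h3
  · rw [rp.card B hmin, hB3]

end main

end Cfsg.Agent.Omega.NO3S.SFive
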