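import Cfsg.Agent.Mrg.Omega.NO3S.Act.Dich
import Cfsg.Agent.Mrg.Omega.NO3S.BetaFF.UniqZ
import Cfsg.Agent.Mrg.Omega.NO3S.Level.Cut
import Cfsg.Agent.Mrg.Omega.FF.GlobEnd


/-!
# GammaFF (S5): the frame `Fv S P X₀ M₀ F` from `WSt S P F` (helper31's cut #23980)

`WSt S P F`, `P ∈ P**`, all `R ∈ P*(S)` normalise `V_P`:

* `noffL_of` : lines which normalise each other commute;
* `le_EE_conj` : the lines of the chambers over `W_F` are good;
* `act_of` : `BetaFF.Act S P X₀ F`;
* `fv_of` : `Fv S P X₀ M₀ F`.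
-/

set_option autoImplicit false
set_option linter.unusedSectionVars false

namespace Cfsg.Agent.Omega.NO3S.SFive

open Subgroup Cfsg Cfsg.Agent.ZN Cfsg.Agent.ZN.ChoiceBase Cfsg.Agent.Omega.MinPar Cfsg.Agent.Omega.Frame
open Cfsg.Agent.Omega.FrameNOFF (CZ)
open Cfsg.Agent.Omega.FFThm (OffM ElemM NoOverM ConclM)
open Cfsg.Agent.Omega.NO3S.Level
open Cfsg.Agent.Omega.NOne.Flat (EE_conj WW_conj conj_eq_of_norm conj_centralizer)
open Cfsg.Agent.Omega.NoFF.Basic (conj_conj conj_le_iff conj_le_centralizer)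
open scoped Pointwise

universe u

variable {G : Type u} [Group G] [Finite G] {S : Sylow 2 G} {P : Subgroup G}

/-- A 2-subgroup of `M ≥ S` has an `M`-conjugate in `S`; for the Sylow subgroup `S^g`. -/
theorem exists_conj_le_smul (S : Sylow 2 G) (g : G) {M B : Subgroup G} (hS : MulAut.conj g • (S : Subgroup G) ≤ M)
    (hB2 : IsPGroup 2 B) (hB : B ≤ M) : ∃ n ∈ M, MulAut.conj n • B ≤ MulAut.conj g • (S : Subgroup G) := by
  have h1 : ((g • S : Sylow 2 G) : Subgroup G) = MulAut.conj g • (S : Subgroup G) := Sylow.coe_subgroup_smul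
  obtain ⟨n, hn, h2⟩ := FFThm.exists_conj_le (g • S) (h1.le.trans hS) hB2 hB
  exact ⟨n, hn, h2.trans h1.le⟩

theorem smul_le_norm {n : G} {A B : Subgroup G} (h : A ≤ normalizer (B : Set G)) :
    MulAut.conj n • A ≤ normalizer ((MulAut.conj n • B : Subgroup G) : Set G) := by
  rintro x hx
  rw [NoFF.Basic.mem_conj] at hx
  have h1 := h hx
  rw [mem_normalizer_iff] at h1 ⊢
  intro y
  rw [NoFF.Basic.mem_conj, NoFF.Basic.mem_conj, h1]
  have e : n⁻¹ * x * n * (n⁻¹ * y * n) * (n⁻¹ * x * n)⁻¹ = n⁻¹ * (x * y * x⁻¹) * n := by group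
  rw [e]

/-- **Lines which normalise each other commute.** -/
theorem noffL_of (hno : BetaFF.NOff (S : Subgroup G)) (hP : IsParS (S : Subgroup G) P) (hc : IsCharacteristicTwoType G)
    (g : G) (h1 : zl (S : Subgroup G) P ≤ normalizer ((MulAut.conj g • zl (S : Subgroup G) P : Subgroup G) : Set G))
    (h2 : MulAut.conj g • zl (S : Subgroup G) P ≤ normalizer (zl (S : Subgroup G) P : Set G)) :
    MulAut.conj g • zl (S : Subgroup G) P ≤ centralizer (zl (S : Subgroup G) P : Set G) := by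
  set L := zl (S : Subgroup G) P with hL
  have hPL : P ≤ normalizer (L : Set G) := ZN.le_normalizer_zl _ _
  have hSP := hP.le
  have hLS : L ≤ (S : Subgroup G) :=
    ((hP.isLoc.zl_le S hc).trans (ZN.zc_le _)).trans (hP.isLoc.o2_le S)
  have hL2 : IsPGroup 2 L := S.isPGroup'.to_le hLS
  have hLg2 : IsPGroup 2 ↥(MulAut.conj g • L : Subgroup G) := hL2.map _
  obtain ⟨n, hn, hn2⟩ := exists_conj_le_smul S g
    ((conj_le_iff.2 hSP).trans (smul_le_norm hPL)) hL2 h1
  have hgn : MulAut.conj n • (MulAut.conj g • L) = MulAut.conj g • L := conj_eq_of_norm hn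
  have h3 : MulAut.conj g • L ≤ normalizer ((MulAut.conj n • L : Subgroup G) : Set G) := by
    rw [← hgn]
    exact smul_le_norm h2
  obtain ⟨n', hn', hn2'⟩ := exists_conj_le_smul S n
    ((conj_le_iff.2 hSP).trans (smul_le_norm hPL)) hLg2 h3
  have hnn : MulAut.conj n' • (MulAut.conj n • L) = MulAut.conj n • L := conj_eq_of_norm hn'
  have h4 : L ≤ MulAut.conj (n⁻¹ * n' * g) • P := by
    have h5 : MulAut.conj n' • (MulAut.conj n • L) ≤ MulAut.conj n' • (MulAut.conj g • P) :=
      conj_le_iff.2 (hn2.trans (conj_le_iff.2 hSP))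
    rw [hnn] at h5
    have h6 := conj_le_iff (g := n⁻¹) |>.2 h5
    rwa [conj_conj, conj_conj, conj_conj, inv_mul_cancel, map_one, one_smul] at h6
  have h5 : MulAut.conj (n⁻¹ * n' * g) • L ≤ P := by
    have h6 := conj_le_iff (g := n⁻¹) |>.2 (hn2'.trans (conj_le_iff.2 hSP))
    rwa [conj_conj, conj_conj, conj_conj, inv_mul_cancel, map_one, one_smul] at h6
  have h6 := hno P hP P hP (n⁻¹ * n' * g) h4 h5
  -- back
  have h7 : MulAut.conj n • L ≤ centralizer ((MulAut.conj (n' * g) • L : Subgroup G) : Set G) := by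
    have h8 := conj_le_iff (g := n) |>.2 h6
    rwa [conj_centralizer, conj_conj, mul_assoc n⁻¹ n' g, mul_inv_cancel_left] at h8
  have h8 : MulAut.conj n • L ≤ centralizer ((MulAut.conj g • L : Subgroup G) : Set G) := by
    have h9 := conj_le_iff (g := n'⁻¹) |>.2 h7
    have h10 : MulAut.conj n'⁻¹ • (MulAut.conj n • L) = MulAut.conj n • L := conj_eq_of_norm (inv_mem hn')
    rwa [h10, conj_centralizer, conj_conj, inv_mul_cancel_left] at h9
  have h9 : L ≤ centralizer ((MulAut.conj g • L : Subgroup G) : Set G) := by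
    have h10 := conj_le_iff (g := n⁻¹) |>.2 h8
    have h11 : MulAut.conj n⁻¹ • (MulAut.conj g • L) = MulAut.conj g • L := conj_eq_of_norm (inv_mem hn)
    rwa [conj_centralizer, h11, conj_conj, inv_mul_cancel, map_one, one_smul] at h10
  exact le_centralizer_iff.1 h9

section inst

variable {F : Subgroup G} (w : WSt S P F) (hn : NonLoc P (CZ (S : Subgroup G)))

include w hn in
theorem hypN_of : HypN S P := w.toHypC.hypN w.par hn

include w in
theorem zl_le_X0' : zl (S : Subgroup G) P ≤ X0 (S : Subgroup G) := zl_le_X0 w.toW0.hj (Level.par_le w.par)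

/-- the lines of the chambers over `W_F` are good -/
theorem le_EE_conj {V F : Subgroup G} (hf : NOne.Flat.Hyp V F) (hZ : zc (S : Subgroup G) ≤ V) {L : Subgroup G}
    (hL : L ≤ V) (hlow : L ≤ o2 (CZ (S : Subgroup G))) {m : G} (hm : m ∈ normalizer (V : Set G))
    (hW : NOne.Flat.WW V F ≤ MulAut.conj m • (S : Subgroup G)) : MulAut.conj m • L ≤ NOne.Flat.EE V F := by
  have hm' := inv_mem hm
  have hf' := hf.conj hm'
  have h1 : NOne.Flat.WW V (MulAut.conj m⁻¹ • F) ≤ (S : Subgroup G) := by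
    rw [← WW_conj hm']
    have h2 := conj_le_iff (g := m⁻¹) |>.2 hW
    rwa [conj_conj, inv_mul_cancel, map_one, one_smul] at h2
  have h2 := BetaFF.le_EE_of_low hf' hL (BetaFF.zc_le_F hf' hZ h1) hlow
  rw [← EE_conj hm'] at h2
  have h3 := conj_le_iff (g := m) |>.2 h2
  rwa [conj_conj, mul_inv_cancel, map_one, one_smul] at h3

include w hn in
/-- **`BetaFF.Act S P X₀ F`** -/
theorem act_of : BetaFF.Act S P (X0 (S : Subgroup G)) F :=
  BetaFF.Act.of_hyp (hypN_of w hn).toHyp w.hyp (zl_le_X0' w)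
    ((Level.par_le w.par).trans (M0_norm _)) w.WS w.mv

include w hn in
/-- **The frame of (S5).** -/
theorem fv_of (hall : ∀ R, IsParS (S : Subgroup G) R → R ≤ normalizer (zl (S : Subgroup G) P : Set G)) :
    Fv S P (X0 (S : Subgroup G)) (M0 (S : Subgroup G)) F := by
  have hN := hypN_of w hn
  have hG := w.ctx.char2
  have a := act_of w hn
  have hff := w.ff P ⟨w.par, hn⟩
  obtain ⟨hno, hcc⟩ := hN.toHyp.ff FF.Glob.ffthmM hff
  have hLV := zl_le_X0' w
  exact
    { toHyp := w.hyp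
      ct := hG
      par := w.par
      cvb := hN.toHyp.cen
      concl := hcc
      noOver := hno
      LV := hLV
      VS := w.toW0.X0_le
      ne := fun h1 => by
        have he := le_antisymm h1 hLV
        obtain ⟨A, hAS, hA⟩ := hff
        rw [← he] at hA
        exact w.toW0.noOff (hAS.trans ((S_le_M0 _).trans (M0_norm _))) hA
      t6 := (a.cent_VQ FF.Glob.ffthmM).le
      PM := Level.par_le w.par
      MV := M0_norm _
      RM := w.toW0.o2_le ((K0_cent _).trans (centralizer_le w.hyp.F_le_V))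
      good := fun m hm hW => le_EE_conj w.hyp w.toW0.zc_le_X0 hLV (hN.low P w.par) (M0_norm _ hm) hW
      noffL := fun g h1 h2 => noffL_of (BetaFF.nOff hN) w.par hG g h1 h2
      prin := fun A hAM hA2 hAne => by
        obtain ⟨m, hm, hmS, R, hR, hmR⟩ := w.toW0.prin le_rfl A hAM hA2 hAne
        refine ⟨m, hm, hmS, fun h1 => hmR (h1.trans (centralizer_le ?_))⟩
        exact ZN.zl_le ZN.zc_le_zl (hall R hR)
      noOff := fun A hA => w.toW0.noOff hA }

end inst

end Cfsg.Agent.Omega.NO3S.SFive
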