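import Cfsg.Agent.Mrg.Omega.NO3S.SFive.WCAlp
import Cfsg.Agent.Mrg.Omega.NO3S.SFive.Chamber
import Cfsg.Agent.Mrg.Omega.NO3S.SFive.WCNorm
import Cfsg.Agent.Mrg.Omega.NO3S.Fld.LevEnd
import Cfsg.Agent.Mrg.Omega.NO3S.Pas.Three

section


/-!
# GammaFF (S5): `k = 1` natural, `|K| ≥ 4`, is impossible (THEOREM WC1, helper879 #23006)

`five_one` : `FiveP G S P`, `NatP K (zl S P) P`, `4 ≤ |K|` ⟹ `False`; `redH_five`, `wH_five`.
-/

set_option autoImplicit false

namespace Cfsg.Agent.Omega.NO3S.SFive.WCPlug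

open Subgroup Cfsg Cfsg.Agent.ZN Cfsg.Agent.Omega.MinPar Cfsg.Agent.Omega.Frame
open Cfsg.Agent.Omega.NO3S.Level
open Cfsg.Agent.Omega.NO3S.SFive.One (Wv)
open scoped Pointwise

universe u

variable {G : Type u} [Group G] [Finite G]

/-- **`k = 1` natural, `|K| ≥ 4`, is impossible in (S5).** -/
theorem five_one {S : Sylow 2 G} {P : Subgroup G} (h : FiveP G S P) (K : Type) [Field K] [Finite K] [CharP K 2]
    (h4 : 4 ≤ Nat.card K) (hN : NatP K (zl (S : Subgroup G) P) P) : False := by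
  obtain ⟨hpss, ⟨F, w⟩, hall, -⟩ := h
  have hn := hpss.nonLoc
  obtain ⟨N⟩ := Fld.exists_crd (w.toHypC.hypN w.par hn).toHyp hN
  have v := fv_of w hn hall
  have a := act_of w hn
  have wv : Wv S P (X0 (S : Subgroup G)) (M0 (S : Subgroup G)) F N :=
    { toAct := a
      four := h4
      PM := v.PM
      MV := v.MV
      VS := v.VS
      WM := v.WM
      goodL := v.good
      noffL := v.noffL
      prin := v.prin }
  obtain ⟨T, hQT, hTS, n, hnT, -, hne⟩ := v.exists_move hall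
  apply hne
  have h1 := wv.norm_le FF.Glob.ffthmM (fun T h1 h2 => Level.norm_le ((K0_le_o2 v.par).trans h1) h2) hQT hTS hnT
  exact (NOne.Flat.conj_eq_of_norm h1).le

theorem redH_five (K : Cls.{u}) : RedH K FiveP := fun _ _ _ _ _ _ h F _ _ _ h4 _ hN =>
  (five_one h F h4 hN).elim

theorem wH_five (K : Cls.{u}) : WH K FiveP := fun _ _ _ _ _ _ h F _ _ _ h4 hN _ _ _ _ _ _ _ _ =>
  (five_one h F h4 hN).elim

end Cfsg.Agent.Omega.NO3S.SFive.WCPlug

end

section


/-!
# GammaFF (S5), (3) of helper75 #22081 (helper31 #23010)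

`Fv S P V M F`, an active chamber of `F`.

* `Fv.bh_BBB` : `B2 = BBB` is abelian, `BB ≤ BBB ≤ B1`;
* `Fv.inf_BBB_eq` : `V ∩ B2 = V ∩ B`;
* **`Fv.three`** : some `m ∈ M` has `B1_{F^m} ≤ S`, `B1_{F^m}` moves `L`, `L ≰ E_{F^m}`.
-/

set_option autoImplicit false
set_option linter.unusedSectionVars false

namespace Cfsg.Agent.Omega.NO3S.SFive

open Subgroup Cfsg Cfsg.Agent.ZN Cfsg.Agent.Omega.MinPar Cfsg.Agent.Omega.Frame Cfsg.Agent.Omega.FrameNOFF
open Cfsg.Agent.Omega.NOne.Flat (EE NN BadX conj_eq_of_norm conj_centralizer WW_conj EE_conj conj_eq_of_cent)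
open Cfsg.Agent.Omega.NOne.NearFF (c)
open Cfsg.Agent.Omega.NoFF.Basic (conj_conj mem_conj conj_le_iff conj_le_centralizer comm_symm comm_mono)
open Cfsg.Agent.Omega.FFThm (ElemM OffM NoOverM ConclM)
open Cfsg.Agent.Omega.NOThreeL.Low (Tp)
open Cfsg.Agent.Omega.NOThreeL.Low.Key (BH)
open scoped Pointwise

universe u

variable {G : Type u} [Group G] [Finite G] {S : Sylow 2 G} {P V M F : Subgroup G}

namespace Fv

variable (h : Fv S P V M F)
include h

theorem tp : Tp (S : Subgroup G) P := by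
  have h1 := h.concl
  rw [ConclM, h.cvb] at h1
  exact h1

/-- lines of two chambers, `X`-conjugates -/
theorem mutu {m m' x y : G} (hx : x ∈ centralizer (F : Set G)) (hy : y ∈ centralizer (F : Set G))
    (h1 : ∀ z ∈ centralizer (F : Set G), MulAut.conj (z * m) • zl (S : Subgroup G) P ≤
      MulAut.conj m' • (S : Subgroup G))
    (h2 : ∀ z ∈ centralizer (F : Set G), MulAut.conj (z * m') • zl (S : Subgroup G) P ≤
      MulAut.conj m • (S : Subgroup G)) :
    MulAut.conj (x * m) • zl (S : Subgroup G) P ≤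
      centralizer ((MulAut.conj (y * m') • zl (S : Subgroup G) P : Subgroup G) : Set G) := by
  have h3 := h.commL (h1 (y⁻¹ * x) (mul_mem (inv_mem hy) hx)) (h2 _ (inv_mem (mul_mem (inv_mem hy) hx)))
  have h4 := (cent_conj_iff (g := y)).2 h3
  rw [conj_conj, conj_conj] at h4
  have e : y * (y⁻¹ * x * m) = x * m := by group
  rwa [e] at h4

/-- the lines commute with `F` -/
theorem line_cent {m x : G} (hm : m ∈ M) (hx : x ∈ centralizer (F : Set G)) :
    MulAut.conj (x * m) • zl (S : Subgroup G) P ≤ centralizer (F : Set G) := by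
  have h1 := (conj_le_iff (g := x)).2 ((h.conjLV hm).trans h.toHyp.V_le_X)
  rwa [conj_conj, conj_centralizer, conj_eq_of_cent hx] at h1

theorem BB_le_B1 : BB S P V M F ≤ B1 S P V M F :=
  le_inf h.bh.le_W (h.bh.abel.trans (centralizer_le inf_le_right))

/-- `C_W(B) ≤ B1` -/
theorem le_B1 {U : Subgroup G} (h1 : U ≤ NOne.Flat.WW V F) (h2 : U ≤ centralizer (BB S P V M F : Set G)) :
    U ≤ B1 S P V M F := le_inf h1 (h2.trans (centralizer_le inf_le_right))

/-- a good line whose chamber contains `B` is centralised by `B` -/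
theorem line_cent_BB {m x : G} (hmM : m ∈ M) (hB : BB S P V M F ≤ MulAut.conj m • (S : Subgroup G))
    (hE : MulAut.conj m • zl (S : Subgroup G) P ≤ EE V F) (hx : x ∈ centralizer (F : Set G)) :
    MulAut.conj (x * m) • zl (S : Subgroup G) P ≤ centralizer (BB S P V M F : Set G) := by
  refine comm_symm (BL_le (comm_symm (h.line_cent hmM hx)) fun m' hm' y hy => ?_)
  exact h.mutu hy hx (fun z hz => (le_BL hm' hz).trans hB) fun z hz => (h.conjxL_le_W hz hE).trans hm'.2

theorem DB_line_le {m x : G} (hm : m ∈ DB S P V M F) (hx : x ∈ centralizer (F : Set G)) :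
    MulAut.conj (x * m) • zl (S : Subgroup G) P ≤ B1 S P V M F :=
  h.le_B1 (h.conjxL_le_W hx hm.2.2) (h.line_cent_BB hm.1 (h.BB_le_B1.trans hm.2.1) hm.2.2 hx)

/-- `B2` is abelian -/
theorem bh_BBB : BH V F (BBB S P V M F) :=
  h.bh_of (fun _ hm => hm.2.2) fun _ hm _ hm' _ hx =>
    h.commL ((h.DB_line_le hm hx).trans hm'.2.1) ((h.DB_line_le hm' (inv_mem hx)).trans hm.2.1)

theorem sq_BBB : ∀ b ∈ BBB S P V M F, b ^ 2 = 1 := h.sq_BL (fun _ hm => hm.1) h.bh_BBB.abel

theorem DW_sub_DB : DW S V M F ⊆ DB S P V M F := fun _ hm => ⟨hm.1, inf_le_left.trans hm.2, h.good_DW hm⟩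

theorem BB_le_BBB : BB S P V M F ≤ BBB S P V M F := BL_mono h.DW_sub_DB

theorem BBB_le_B1 : BBB S P V M F ≤ B1 S P V M F :=
  BL_le (F_le_BL.trans h.BB_le_B1) fun _ hm _ hx => h.DB_line_le hm hx

/-- a good line whose chamber contains `B2` is centralised by `B2` -/
theorem line_cent_BBB {m x : G} (hmM : m ∈ M) (hB : BBB S P V M F ≤ MulAut.conj m • (S : Subgroup G))
    (hE : MulAut.conj m • zl (S : Subgroup G) P ≤ EE V F) (hx : x ∈ centralizer (F : Set G)) :
    MulAut.conj (x * m) • zl (S : Subgroup G) P ≤ centralizer (BBB S P V M F : Set G) := by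
  refine comm_symm (BL_le (comm_symm (h.line_cent hmM hx)) fun m' hm' y hy => ?_)
  refine h.mutu hy hx (fun z hz => (le_BL hm' hz).trans hB) fun z hz => ?_
  refine (h.le_B1 (h.conjxL_le_W hz hE) ?_).trans hm'.2.1
  exact h.line_cent_BB hmM (h.BB_le_BBB.trans hB) hE hz

/-- **`V ∩ B2 = V ∩ B`** -/
theorem inf_BBB_eq (ha : ∃ m ∈ DW S V M F, ¬ MulAut.conj m • zl (S : Subgroup G) P ≤ F) :
    V ⊓ BBB S P V M F = V ⊓ BB S P V M F := by
  obtain ⟨m, hm, hmS, hmL⟩ := h.exists_chamber h.bh_BBB.le_W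
    (h.not_cent_V h.bh_BBB (h.not_le_F ha h.DW_sub_DB))
  have h' := h.conj hm
  rw [← h.BBB_conj hm] at hmS hmL
  have hLE : ¬ zl (S : Subgroup G) P ≤ EE V (MulAut.conj m • F) := by
    intro h1
    apply hmL
    have h2 := h'.line_cent_BBB (m := 1) (x := 1) (one_mem _) (by rwa [conj_one])
      (by rwa [conj_one]) (one_mem _)
    rw [one_mul, conj_one] at h2
    exact comm_symm h2
  have h3 := Pas.three h'.ct h'.par h'.tp h'.bh_BBB h'.sq_BBB hmS h'.LV hLE
  have h4 : (EE V (MulAut.conj m • F)).relIndex (zl (S : Subgroup G) P) ≤ (EE V (MulAut.conj m • F)).relIndex V :=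
    relIndex_le_of_le_right h'.LV index_ne_zero_of_finite
  have h5 := h'.bh.relIndex_V_le (h'.not_le_F (h.act_conj hm ha) le_rfl)
  have h6 : V ⊓ BB S P V M (MulAut.conj m • F) = V ⊓ BBB S P V M (MulAut.conj m • F) := by
    have hle : V ⊓ BB S P V M (MulAut.conj m • F) ≤ V ⊓ BBB S P V M (MulAut.conj m • F) :=
      inf_le_inf_left _ h'.BB_le_BBB
    refine Subgroup.eq_of_le_of_card_ge hle ?_
    rw [← NOne.Flat.card_mul_relIndex' h'.bh.F_le_I, ← NOne.Flat.card_mul_relIndex' h'.bh_BBB.F_le_I]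
    exact Nat.mul_le_mul_left _ ((h3.trans h4).trans h5)
  rw [h.BB_conj hm, h.BBB_conj hm] at h6
  have h7 := congrArg (fun A : Subgroup G => MulAut.conj m⁻¹ • A) h6
  simp only [Subgroup.smul_inf, h.conj_V (inv_mem hm), conj_conj, inv_mul_cancel, conj_one] at h7
  exact h7.symm

/-- **(3)** -/
theorem three (ha : ∃ m ∈ DW S V M F, ¬ MulAut.conj m • zl (S : Subgroup G) P ≤ F) :
    ∃ m ∈ M, B1 S P V M (MulAut.conj m • F) ≤ (S : Subgroup G) ∧
      ¬ B1 S P V M (MulAut.conj m • F) ≤ centralizer (zl (S : Subgroup G) P : Set G) ∧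
      ¬ zl (S : Subgroup G) P ≤ EE V (MulAut.conj m • F) := by
  obtain ⟨m, hm, hmS, hmL⟩ := h.exists_chamber (A := B1 S P V M F) inf_le_left
    (fun h1 => h.not_cent_V h.bh (h.not_le_F ha le_rfl) (h.BB_le_B1.trans h1))
  rw [← h.B1_conj hm] at hmS hmL
  refine ⟨m, hm, hmS, hmL, fun hLE => hmL ?_⟩
  have h' := h.conj hm
  have h1 : (1 : G) ∈ DB S P V M (MulAut.conj m • F) :=
    ⟨one_mem _, by rwa [conj_one], by rwa [conj_one]⟩
  have h2 := le_BL' (S := S) (P := P) (F := MulAut.conj m • F) h1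
  rw [conj_one] at h2
  have h3 : zl (S : Subgroup G) P ≤ V ⊓ BB S P V M (MulAut.conj m • F) := by
    rw [← h'.inf_BBB_eq (h.act_conj hm ha)]
    exact le_inf h'.LV h2
  exact inf_le_right.trans (centralizer_le h3)

end Fv

end Cfsg.Agent.Omega.NO3S.SFive

end
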