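import Cfsg.Agent.Mrg.Omega.NO3S.SFive.GamC
import Cfsg.Agent.Mrg.Omega.NO3S.SFive.Gam
import Cfsg.Agent.Mrg.Omega.NO3S.SFive.Four
import Cfsg.Agent.Mrg.Omega.NO3S.SFive.Inst
import Cfsg.Agent.Mrg.Omega.NO3S.SFive.Lit
import Cfsg.Agent.Mrg.Omega.NO3S.Level.Cut
import Cfsg.Agent.Mrg.Omega.NO3S.BetaFF.ActClaim
import Cfsg.Agent.Mrg.Omega.NO3S.SFive.WCPlug
import Cfsg.Agent.Mrg.Omega.NO3S.SFive.NatD
import Cfsg.Agent.Mrg.Omega.NO3S.SFive.TyS
import Cfsg.Agent.Mrg.Omega.NO3S.Fld.LevEnd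
import Cfsg.Agent.Mrg.Omega.NO3S.SFive.WCNorm
import Cfsg.Agent.Mrg.Omega.NO3S.SFive.WCAlp
import Cfsg.Agent.Mrg.Omega.FrameI
import Cfsg.Agent.Mrg.Omega.NOne.LemmaT

section


/-!
# GammaFF (S5): helper75's #22081, complete: the output `OutD` of the frame `Fv`

`Fv.gamAll` : the bad chambers (618's `Fv.gam`); `Fv.outAll` : `∃ F' B s, OutD S P V M F F' B s`;
`out_of_wst` : the same from `WSt S P F`.
-/

set_option autoImplicit false
set_option linter.unusedSectionVars false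

namespace Cfsg.Agent.Omega.NO3S.SFive

open Subgroup Cfsg Cfsg.Agent.ZN Cfsg.Agent.Omega.MinPar Cfsg.Agent.Omega.Frame Cfsg.Agent.Omega.FrameNOFF
open Cfsg.Agent.Omega.NoFF.Basic (conj_conj mem_conj conj_le_iff comm_symm comm_mono)
open Cfsg.Agent.Omega.NOne.Flat (EE NN BadX EE_conj)
open Cfsg.Agent.Omega.NO3S.Level
open scoped Pointwise commutatorElement

universe u

variable {G : Type u} [Group G] [Finite G] {S : Sylow 2 G} {P V M F : Subgroup G}

namespace Fv

/-- **The bad chambers.** -/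
theorem gamAll (h : Fv S P V M F) (ha : ∃ m ∈ DW S V M F, ¬ MulAut.conj m • zl (S : Subgroup G) P ≤ F) :
    ∀ m ∈ M, BB S P V M (MulAut.conj m • F) ≤ (S : Subgroup G) →
      ¬ zl (S : Subgroup G) P ≤ EE V (MulAut.conj m • F) →
      GamO (S : Subgroup G) P V (MulAut.conj m • F) (BB S P V M (MulAut.conj m • F)) := by
  intro m hm hBS hUE
  have h' := h.conj hm
  obtain ⟨n, hn, hn2⟩ := h.act_conj hm ha
  obtain ⟨g1, g2, g3, g4, g5⟩ := h'.gam h'.bh h'.sq_BB hBS hUE ⟨n, hn.1, hn.2, le_BL' hn, hn2⟩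
  exact ⟨g1, g2, g3, g4, g5⟩

/-- **The output of helper75's #22081.** -/
theorem outAll (h : Fv S P V M F) (hWS : NOne.Flat.WW V F ≤ (S : Subgroup G))
    (hmov : ¬ NOne.Flat.WW V F ≤ centralizer (zl (S : Subgroup G) P : Set G)) :
    ∃ F' B s, OutD S P V M F F' B s := by
  have a := h.act_one hWS hmov
  have g := h.gamAll (h.act_ex a)
  exact h.out_of' hWS hmov (fun m hm h1 h2 => (g m hm h1 h2).cent) (h.four a g)

end Fv

/-- **`OutD` from `WSt`.** -/
theorem out_of_wst (w : WSt S P F) (hn : NonLoc P (CZ (S : Subgroup G)))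
    (hall : ∀ R, IsParS (S : Subgroup G) R → R ≤ normalizer (zl (S : Subgroup G) P : Set G)) :
    ∃ F' B s, OutD S P (X0 (S : Subgroup G)) (M0 (S : Subgroup G)) F F' B s :=
  (fv_of w hn hall).outAll w.WS (act_of w hn).mov

end Cfsg.Agent.Omega.NO3S.SFive

end

section


/-!
# GammaFF: THEOREM SMALL (helper58 #21256 (4)) in the W-stage

`WSt S P F`, `V = X₀`, `M = M₀`: `Small V (Cls M F)`.  [`D = ⋂ 𝒳 ≠ 1`: `V ∩ O₂(C_G(D')) ≤ D` for `D' ≤ D`; so `Z(T) ≤ D`
for some chamber `T`, and `Z(T) ≤ D` implies `Z(T^p) ≤ D` for `p ∈ R ∈ P*(T)` (low) and `p ∈ N_M(Z(T))`; so `Z^M ≤ D ≤ F`,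
`V_P ≤ F` is centralised by `W_F`.]
-/

set_option autoImplicit false
set_option linter.unusedSectionVars false

namespace Cfsg.Agent.Omega.NO3S.SFive

open Subgroup Cfsg Cfsg.Agent.ZN Cfsg.Agent.Omega.MinPar Cfsg.Agent.Omega.Frame
open Cfsg.Agent.Omega.FrameNOFF (CZ)
open Cfsg.Agent.ZN.ChoiceBase (cj)
open Cfsg.Agent.Omega.NOne.Flat (conj_eq_of_norm EE_conj WW_conj conj_centralizer)
open Cfsg.Agent.Omega.NoFF.Basic (conj_conj mem_conj conj_le_iff conj_le_centralizer)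
open Cfsg.Agent.Omega.NO3S.Level
open scoped Pointwise

universe u

variable {G : Type u} [Group G] [Finite G] {S : Sylow 2 G} {P F : Subgroup G}

/-- **THEOREM SMALL.** -/
theorem small (w : WSt S P F) : Small (X0 (S : Subgroup G)) (Cls (M0 (S : Subgroup G)) F) := by
  intro 𝒳 h𝒳 hne pp v hv
  by_contra hv1
  have hc := w.ctx.char2
  set V := X0 (S : Subgroup G) with hV
  set M := M0 (S : Subgroup G) with hM
  have hMV : M ≤ normalizer (V : Set G) := M0_norm _
  set D : Subgroup G := sInf 𝒳 with hDdef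
  have hDF : ∀ F' ∈ 𝒳, D ≤ F' := fun F' hF' => sInf_le hF'
  have hvD : v ∈ D := by
    rw [hDdef, mem_sInf]
    exact hv
  have hD1 : D ≠ ⊥ := fun h => hv1 (by rw [h, mem_bot] at hvD; exact hvD)
  have hyp : ∀ F' ∈ 𝒳, NOne.Flat.Hyp V F' := by
    intro F' hF'
    obtain ⟨m, hm, rfl⟩ := h𝒳 hF'
    exact w.hyp.conj (hMV hm)
  obtain ⟨F₁, hF₁⟩ := hne
  have hDV : D ≤ V := (hDF F₁ hF₁).trans (hyp F₁ hF₁).F_le_V
  -- (a)
  have step : ∀ D' : Subgroup G, D' ≤ D → V ⊓ o2 (centralizer (D' : Set G)) ≤ D := by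
    intro D' hD'
    rw [hDdef, le_sInf_iff]
    refine pp _ fun F' hF' => ⟨?_, ?_⟩
    · exact BetaFF.le_EE_of_low (hyp F' hF') inf_le_left (hD'.trans (hDF F' hF')) inf_le_right
    · have h1 : NOne.Flat.WW V F' ≤ normalizer (V : Set G) := (hyp F' hF').W_norm_V
      have h2 : NOne.Flat.WW V F' ≤ centralizer (D' : Set G) :=
        NOne.Flat.Hyp.W_le_X.trans (centralizer_le (hD'.trans (hDF F' hF')))
      have h3 : NOne.Flat.WW V F' ≤ normalizer (o2 (centralizer (D' : Set G)) : Set G) :=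
        h2.trans (MinSimple.VModule.le_normalizer_o2 _)
      intro x hx
      have a1 := mem_normalizer_iff.1 (h1 hx)
      have a2 := mem_normalizer_iff.1 (h3 hx)
      rw [mem_normalizer_iff]
      intro y
      rw [mem_inf, mem_inf, a1 y, a2 y]
  -- (b)
  obtain ⟨m₀, hm₀, hZ₀⟩ : ∃ m ∈ M, MulAut.conj m • zc (S : Subgroup G) ≤ D := by
    have hK : K0 (S : Subgroup G) ≤ centralizer (D : Set G) := (K0_cent _).trans (centralizer_le hDV)
    obtain ⟨T, hT, hKT⟩ := ChoiceSit.exists_syl (S.isPGroup'.to_le (K0_le (S : Subgroup G))) hK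
    have hTM : T ≤ M := w.pgroup_le hT.2.1 hKT
    obtain ⟨n, hn, hnS⟩ := FFThm.exists_conj_le S (S_le_M0 _) hT.2.1 hTM
    refine ⟨n⁻¹, inv_mem hn, ?_⟩
    have hZV : MulAut.conj n⁻¹ • zc (S : Subgroup G) ≤ V := by
      rw [← conj_eq_of_norm (hMV (inv_mem hn))]
      exact conj_le_iff.2 w.zc_le_X0
    have hTS : T ≤ MulAut.conj n⁻¹ • (S : Subgroup G) := by
      have h1 := conj_le_iff (g := n⁻¹).2 (show MulAut.conj n • T ≤ (S : Subgroup G) from hnS)
      rwa [conj_conj, inv_mul_cancel, map_one, one_smul] at h1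
    have hZT : MulAut.conj n⁻¹ • zc (S : Subgroup G) ≤ centralizer (o2 (centralizer (D : Set G)) : Set G) := by
      refine le_trans (conj_le_centralizer (le_centralizer_iff.1 (Level.le_centralizer_zc _))) (centralizer_le ?_)
      exact (ChoiceSit.o2_le_syl hT).trans hTS
    have hZC : MulAut.conj n⁻¹ • zc (S : Subgroup G) ≤ centralizer (D : Set G) :=
      hZV.trans ((X0_comm _).trans (centralizer_le hDV))
    have h2 := w.char2 D hD1 hDV
    exact (le_inf hZV ((le_inf hZC hZT).trans h2)).trans (step D le_rfl)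
  -- (c)
  have hstep : ∀ g ∈ M, MulAut.conj g • zc (S : Subgroup G) ≤ D → ∀ R, IsParS (S : Subgroup G) R → ∀ p ∈ R,
      MulAut.conj (g * p) • zc (S : Subgroup G) ≤ D := by
    intro g hg hZ R hR p hp
    refine le_trans ?_ (step _ hZ)
    have h1 : MulAut.conj (g * p) • zc (S : Subgroup G) ≤ MulAut.conj g • zl (S : Subgroup G) R := by
      rw [← conj_conj]
      exact conj_le_iff.2 (le_iSup (fun g : R => (zc (S : Subgroup G)).map (MulAut.conj (g : G)).toMonoidHom) ⟨p, hp⟩)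
    refine h1.trans (le_inf ?_ ?_)
    · rw [← conj_eq_of_norm (hMV hg)]
      exact conj_le_iff.2 (zl_le_X0 w.hj (par_le hR))
    · have h2 := conj_le_iff (g := g).2 (w.low R hR)
      rwa [NOne.Flat.o2_conj, CZ, conj_centralizer] at h2
  -- (d)
  let Y : Subgroup G :=
    { carrier := {y | y ∈ M ∧ ∀ g ∈ M, MulAut.conj g • zc (S : Subgroup G) ≤ D ↔
        MulAut.conj (g * y) • zc (S : Subgroup G) ≤ D}
      one_mem' := ⟨one_mem _, fun g _ => by rw [mul_one]⟩
      mul_mem' := by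
        rintro a b ⟨ha, ha'⟩ ⟨hb, hb'⟩
        refine ⟨mul_mem ha hb, fun g hg => ?_⟩
        rw [ha' g hg, hb' _ (mul_mem hg ha), mul_assoc]
      inv_mem' := by
        rintro a ⟨ha, ha'⟩
        refine ⟨inv_mem ha, fun g hg => ?_⟩
        rw [ha' _ (mul_mem hg (inv_mem ha)), inv_mul_cancel_right] }
  have hnz : ∀ g y : G, y ∈ normalizer (zc (S : Subgroup G) : Set G) →
      MulAut.conj (g * y) • zc (S : Subgroup G) = MulAut.conj g • zc (S : Subgroup G) := by
    intro g y hy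
    rw [← conj_conj, conj_eq_of_norm hy]
  have hMY : M ≤ Y := by
    refine w.isLoc_M0.le_of_forall S ?_ ?_
    · rintro y ⟨hy, hyS⟩
      refine ⟨hy, fun g _ => ?_⟩
      rw [hnz g y (normalizer_le_normalizer_zc _ hyS)]
    · intro R hR hRM p hp
      by_cases hRZ : R ≤ normalizer (zc (S : Subgroup G) : Set G)
      · refine ⟨hRM hp, fun g _ => ?_⟩
        rw [hnz g p (hRZ hp)]
      · have hRs : IsParS (S : Subgroup G) R := ⟨hR, hRZ⟩
        refine ⟨hRM hp, fun g hg => ⟨fun h => hstep g hg h R hRs p hp, fun h => ?_⟩⟩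
        have h1 := hstep (g * p) (mul_mem hg (hRM hp)) h R hRs p⁻¹ (inv_mem hp)
        rwa [mul_inv_cancel_right] at h1
  have hall : ∀ m ∈ M, MulAut.conj m • zc (S : Subgroup G) ≤ D := by
    intro m hm
    have h1 := ((hMY (mul_mem (inv_mem hm₀) hm)).2 m₀ hm₀).1 hZ₀
    rwa [mul_inv_cancel_left] at h1
  -- (e)
  obtain ⟨n, hn, hF₁e⟩ := h𝒳 hF₁
  have hZF : ∀ m ∈ M, MulAut.conj m • zc (S : Subgroup G) ≤ F := by
    intro m hm
    have h1 := (hall (n * m) (mul_mem hn hm)).trans (hDF F₁ hF₁)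
    rw [hF₁e, ← conj_conj] at h1
    exact conj_le_iff.1 h1
  have hL : zl (S : Subgroup G) P ≤ F := iSup_le fun p => hZF p (par_le w.par p.2)
  apply w.mv
  rw [← IsParS.inf_centralizer S hc w.par]
  refine le_inf w.WS ?_
  exact NOne.Flat.Hyp.W_le_X.trans (centralizer_le hL)

end Cfsg.Agent.Omega.NO3S.SFive

end

section


/-!
# GammaFF (S5): `Ends K FiveP`

* `five_false` : `FiveP G S P` and the type data `TyD` for two minimal offenders ⟹ `False`;
* **`endsFive : Ends K FiveP`**, for every class `K`.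
-/

set_option autoImplicit false

namespace Cfsg.Agent.Omega.NO3S.SFive.EndsFive

open Subgroup Cfsg Cfsg.Agent.ZN Cfsg.Agent.Omega.MinPar Cfsg.Agent.Omega.Frame
open Cfsg.Agent.Omega.NO3S.Level
open Cfsg.Agent.Omega.NOThreeL.NF (MinOffM)

universe u

variable {G : Type u} [Group G] [Finite G]

theorem five_false {S : Sylow 2 G} {P : Subgroup G} (h : FiveP G S P)
    (ty : IsCharacteristicTwoType G → IsParS (S : Subgroup G) P → FrameFF.cv (S : Subgroup G) P = ⊥ →
      ∀ A B : Subgroup G, MinOffM (zl (S : Subgroup G) P) (S : Subgroup G) A →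
        MinOffM (zl (S : Subgroup G) P) (S : Subgroup G) B →
          ∃ N K : Subgroup G, TyD (S : Subgroup G) P A B N K) : False := by
  obtain ⟨hpss, ⟨F, w⟩, hall, -⟩ := h
  have hn := hpss.nonLoc
  obtain ⟨F', B, s, o⟩ := out_of_wst w hn hall
  have v := fv_of w hn hall
  obtain ⟨N, K, t⟩ := ty v.ct v.par v.cvb _ _ o.min o.minB
  exact o.false t (small w) v.VS v.par.le v.PM v.MV v.LV v.ne (o2_le_cent v.ct v.par) v.t6 v.noOff

/-- **The ends of (S5).** -/
theorem endsFive (K : Cfsg.Agent.Omega.Frame.Cls.{u}) : Ends K FiveP where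
  red := WCPlug.redH_five K
  w := WCPlug.wH_five K
  multiTwo := by
    intro G _ _ _ S P h F _ _ _ k hk _ M
    refine (five_false h fun hc hP hcv A B hA hB => ?_).elim
    rw [hcv] at M
    exact NatD.tyd M hk (Half.amb_of_loc hc S hP.isLoc) hA hB
  multiQ := by
    intro G _ _ _ S P h F _ _ _ k hk _ M
    refine (five_false h fun hc hP hcv A B hA hB => ?_).elim
    rw [hcv] at M
    exact NatD.tyd M hk (Half.amb_of_loc hc S hP.isLoc) hA hB
  symTwo := by
    intro G _ _ _ S P h M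
    exact (five_false h fun hc hP hcv A B hA hB => TyS.tyD_sym hc hP hcv le_rfl M hA hB).elim
  symBig := by
    intro G _ _ _ S P h m hm M
    exact (five_false h fun hc hP hcv A B hA hB => TyS.tyD_sym hc hP hcv (by omega) M hA hB).elim
  symMany := by
    intro G _ _ _ S P h k m _ hm M
    exact (five_false h fun hc hP hcv A B hA hB => TyS.tyD_sym hc hP hcv hm M hA hB).elim

end Cfsg.Agent.Omega.NO3S.SFive.EndsFive

end

section


/-!
# GammaFF (S5): the output of #22081 from the frame (helper75 #22081, helper31 #23010)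

`Gw S P V M F` : `[L ∩ E', B'] = 1` at all chambers `B' ≤ S` with `L ≰ E'`.

* `Fv.gamOw` : `GamO` from `Gw`;
* `Fv.gw_of` : `Gw`, if no `B ≤ S` with `[L, B] ≠ 1` has `[V, B] ≤ L` (helper531, `Fv.not_VB`);
* `Fv.perp_of`, `Fv.four_of` : (4) from `Gw`;
* **`Fv.outF`** : `OutD S P V M F F' B s` from `Gw`.
-/

set_option autoImplicit false

namespace Cfsg.Agent.Omega.NO3S.SFive

open Subgroup Cfsg Cfsg.Agent.ZN Cfsg.Agent.Omega.MinPar Cfsg.Agent.Omega.Frame Cfsg.Agent.Omega.FrameNOFF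
open Cfsg.Agent.Omega.NOne.Flat (EE NN)
open Cfsg.Agent.Omega.NOne.NearFF (c)
open scoped Pointwise commutatorElement

universe u

variable {G : Type u} [Group G] [Finite G] {S : Sylow 2 G} {P V M F : Subgroup G}

/-- `[L ∩ E', B'] = 1` at all chambers `B' ≤ S` with `L ≰ E'` -/
def Gw (S : Sylow 2 G) (P V M F : Subgroup G) : Prop :=
  ∀ m ∈ M, BB S P V M (MulAut.conj m • F) ≤ (S : Subgroup G) →
    ¬ zl (S : Subgroup G) P ≤ EE V (MulAut.conj m • F) →
      zl (S : Subgroup G) P ⊓ EE V (MulAut.conj m • F) ≤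
        centralizer ((BB S P V M (MulAut.conj m • F) : Subgroup G) : Set G)

namespace Fv

variable (h : Fv S P V M F)
include h

theorem gamOw (ha : ∃ m ∈ DW S V M F, ¬ MulAut.conj m • zl (S : Subgroup G) P ≤ F) (gw : Gw S P V M F) :
    ∀ m ∈ M, BB S P V M (MulAut.conj m • F) ≤ (S : Subgroup G) →
      ¬ zl (S : Subgroup G) P ≤ EE V (MulAut.conj m • F) →
      GamO (S : Subgroup G) P V (MulAut.conj m • F) (BB S P V M (MulAut.conj m • F)) := by
  intro m hm hBS hUE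
  have h' := h.conj hm
  have hg := gw m hm hBS hUE
  obtain ⟨h1, h2, h3, h4⟩ := h'.gam_of h'.bh h'.sq_BB hBS hUE (h'.not_le_F (h.act_conj hm ha) le_rfl) hg
  exact ⟨hg, h1, h2, h3, h4⟩

/-- `Gw` from: no `B ≤ S` with `[L, B] ≠ 1` has `[V, B] ≤ L` -/
theorem gw_of (ha : ∃ m ∈ DW S V M F, ¬ MulAut.conj m • zl (S : Subgroup G) P ≤ F)
    (nvb : ∀ B ≤ (S : Subgroup G), ¬ B ≤ centralizer (zl (S : Subgroup G) P : Set G) →
      ¬ ∀ v ∈ V, ∀ b ∈ B, c v b ∈ zl (S : Subgroup G) P) : Gw S P V M F := by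
  intro m hm hBS hUE
  have h' := h.conj hm
  have ha' := h.act_conj hm ha
  by_contra hne
  refine nvb _ hBS (fun h1 => hne (inf_le_left.trans (le_centralizer_iff.1 h1))) ?_
  refine h'.comm_le h'.bh h'.sq_BB hBS hUE ?_ hne
  obtain ⟨m', hm', h1⟩ := ha'
  exact ⟨m', hm'.1, hm'.2, le_BL' hm', h1⟩

/-- `C_E(B) = I` -/
theorem perp_of (ha : ∃ m ∈ DW S V M F, ¬ MulAut.conj m • zl (S : Subgroup G) P ≤ F) (gw : Gw S P V M F) :
    EE V F ⊓ centralizer (BB S P V M F : Set G) ≤ V ⊓ BB S P V M F := h.perp ha (h.gamOw ha gw)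

/-- **(4)** -/
theorem four_of (a : BetaFF.Act S P V F) (gw : Gw S P V M F) :
    ∀ b ∈ BB S P V M F, b ∉ NN V F → ∀ e ∈ EE V F, e * b = b * e → e ∈ BB S P V M F :=
  h.four a (h.gamOw (h.act_ex a) gw)

/-- **The output of #22081.** -/
theorem outF (hWS : NOne.Flat.WW V F ≤ (S : Subgroup G))
    (hmov : ¬ NOne.Flat.WW V F ≤ centralizer (zl (S : Subgroup G) P : Set G)) (gw : Gw S P V M F) :
    ∃ F' B s, OutD S P V M F F' B s :=
  h.out_of' hWS hmov gw (h.four_of (h.act_one hWS hmov) gw)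

end Fv

end Cfsg.Agent.Omega.NO3S.SFive

end

section


/-!
# GammaFF: (S5) is impossible (helper422 #22571, helper75 #22081, helper58 #22615; `k = 1`: helper879 #23006)

* `OneK` : the natural case `k = 1` (helper879, `SFive/WC*.lean`);
* `false_of_fiveP` : `FiveP G S P` is impossible;
* **`gamFive`** : the literal of `GamFive K` (`Node/NO3SGam.lean`).
-/

set_option autoImplicit false

namespace Cfsg.Agent.Omega.NO3S.SFive

open Subgroup Cfsg Cfsg.Agent.ZN Cfsg.Agent.Omega.MinPar Cfsg.Agent.Omega.Frame Cfsg.Agent.Omega.FrameNOFF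
open Cfsg.Agent.Omega.NO3S.Level
open Cfsg.Agent.Omega.NOThreeL.Merge (MZ)
open scoped Pointwise

universe u

/-- The natural case `k = 1`. -/
def OneK : Prop :=
  ∀ (G : Type u) [Group G] [Finite G] (S : Sylow 2 G) (P F : Subgroup G), WSt S P F → PSS (S : Subgroup G) P →
    zl (S : Subgroup G) (MZ (S : Subgroup G)) = zl (S : Subgroup G) P → ∀ (K : Type) [Field K] [Finite K] [CharP K 2],
      4 ≤ Nat.card K → NatP K (zl (S : Subgroup G) P) P → False

section

variable {G : Type u} [Group G] [Finite G] {S : Sylow 2 G} {P F : Subgroup G}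

/-- **(S5) is impossible.** -/
theorem false_of_wSt (h1 : OneK.{u}) (w : WSt S P F) (hn : PSS (S : Subgroup G) P)
    (hall : ∀ R, IsParS (S : Subgroup G) R → R ≤ normalizer (zl (S : Subgroup G) P : Set G))
    (he : zl (S : Subgroup G) (MZ (S : Subgroup G)) = zl (S : Subgroup G) P) : False := by
  have h := fv_of w hn.nonLoc hall
  obtain ⟨F', B, s, o⟩ := out_of_wst w hn.nonLoc hall
  have key : ∀ N K : Subgroup G, TyD (S : Subgroup G) P (NOne.Flat.WW (X0 (S : Subgroup G)) F) B N K → False :=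
    fun N K t => o.false t (small w) h.VS h.SP h.PM h.MV h.LV h.ne (o2_le_cent h.ct h.par) h.t6 h.noOff
  rcases h.concl with ⟨K, _, _, _, k, hk, ⟨N⟩⟩ | ⟨k, m, hk, hm, ⟨N⟩⟩
  · rcases Nat.lt_or_ge k 2 with hk2 | hk2
    · obtain rfl : k = 1 := by omega
      have hH := w.toHypC.hypN w.par hn.nonLoc
      obtain ⟨K', _, _, _, ⟨M⟩⟩ := hH.toHyp.exists_natP N.toNatK.single
      rcases card_field' (F := K') with h5 | h5
      · exact absurd (by rw [M.card, h5]; norm_num) (w.toHypC.four P w.par hn.nonLoc)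
      · exact h1 G S P F w hn he K' h5 M
    · rw [h.cvb] at N
      obtain ⟨N', K', t⟩ := NatD.tyd N hk2 (Half.amb_of_loc h.ct S h.par.isLoc) o.min o.minB
      exact key N' K' t
  · obtain ⟨N', K', t⟩ := TyS.tyD_sym h.ct h.par h.cvb hm N o.min o.minB
    exact key N' K' t

/-- `FiveP` is impossible. -/
theorem false_of_fiveP (h1 : OneK.{u}) (h : FiveP G S P) : False := by
  obtain ⟨hP, ⟨F, w⟩, hall, he⟩ := h
  exact false_of_wSt h1 w hP hall he

/-- **(S5)**, the literal of `GamFive`. -/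
theorem false_of_five (h1 : OneK.{u}) (h : WSt S P F) (hff : FFMod (S : Subgroup G) P)
    (hall : ∀ R, IsParS (S : Subgroup G) R → R ≤ normalizer (zl (S : Subgroup G) P : Set G))
    (he : zl (S : Subgroup G) (MZ (S : Subgroup G)) = zl (S : Subgroup G) P)
    (hR : ∃ R, PSS (S : Subgroup G) R ∧ zl (S : Subgroup G) R = zl (S : Subgroup G) P) : False := by
  obtain ⟨R, hR, hRe⟩ := hR
  obtain ⟨R, hR⟩ := exists_five h hff hall (Or.inl ⟨R, hR, he.trans hRe.symm⟩)
  exact false_of_fiveP h1 hR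

end

/-- **`GamFive K`** (`Node/NO3SGam.lean`). -/
theorem gamFive_one (K : Cfsg.Agent.Omega.Frame.Cls.{u}) (h1 : OneK.{u}) :
    ∀ (G : Type u) [Group G] [Finite G], K G → ∀ (S : Sylow 2 G) (P F : Subgroup G), WSt S P F →
    zc (S : Subgroup G) ⊓ centralizer (P : Set G) = ⊥ → FFMod (S : Subgroup G) P →
      (∀ R, IsParS (S : Subgroup G) R → R ≤ normalizer (zl (S : Subgroup G) P : Set G)) →
        zl (S : Subgroup G) (MZ (S : Subgroup G)) = zl (S : Subgroup G) P →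
          (∃ R, PSS (S : Subgroup G) R ∧ zl (S : Subgroup G) R = zl (S : Subgroup G) P) → IsKnownSimple' G :=
  fun _ _ _ _ _ _ _ w _ hff hall he hR => (false_of_five h1 w hff hall he hR).elim

end Cfsg.Agent.Omega.NO3S.SFive

end

section


/-!
# GammaFF: (S5) is impossible, all types

* `oneK` : the natural case `k = 1` (helper879 #23006: `Wv.norm_le`; helper618: `Fv.exists_move`);
* `not_fiveP`, `not_five` : (S5) is impossible;
* **`gamFive`** : the literal of `GamFive K` (`Node/NO3SGam.lean`), no hypothesis.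
-/

set_option autoImplicit false

namespace Cfsg.Agent.Omega.NO3S.SFive

open Subgroup Cfsg Cfsg.Agent.ZN Cfsg.Agent.Omega.MinPar Cfsg.Agent.Omega.Frame Cfsg.Agent.Omega.FrameNOFF
open Cfsg.Agent.Omega.NO3S.Level
open Cfsg.Agent.Omega.NOThreeL.Merge (MZ)
open scoped Pointwise

universe u

/-- **The natural case `k = 1`.** -/
theorem oneK : OneK.{u} := by
  intro G _ _ S P F w hP he K _ _ _ h4 N
  have hH := (w.toHypC.hypN w.par hP.nonLoc).toHyp
  have hall : ∀ R, IsParS (S : Subgroup G) R → R ≤ normalizer (zl (S : Subgroup G) P : Set G) := by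
    intro R hR
    have h1 : R ≤ MZ (S : Subgroup G) := le_sSup hR
    rw [← he]
    exact h1.trans (ZN.le_normalizer_zl _ _)
  have h := fv_of w hP.nonLoc hall
  obtain ⟨C⟩ := Fld.exists_crd hH N
  have hv : One.Wv S P (X0 (S : Subgroup G)) (M0 (S : Subgroup G)) F C :=
    { toAct := act_of w hP.nonLoc
      four := h4
      PM := h.PM
      MV := h.MV
      VS := h.VS
      WM := h.WM
      goodL := h.good
      noffL := h.noffL
      prin := h.prin }
  obtain ⟨T, hT1, hT2, n, hn, -, hne⟩ := h.exists_move hall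
  have h3 := hv.norm_le FF.Glob.ffthmM (fun T h1 h2 => norm_le ((K0_le_o2 w.par).trans h1) h2) hT1 hT2 hn
  exact hne (NOne.Flat.conj_eq_of_norm h3).le

section

variable {G : Type u} [Group G] [Finite G] {S : Sylow 2 G} {P F : Subgroup G}

/-- `FiveP` is impossible. -/
theorem not_fiveP (h : FiveP G S P) : False := false_of_fiveP oneK h

/-- **(S5) is impossible.** -/
theorem not_five (h : WSt S P F) (hff : FFMod (S : Subgroup G) P)
    (hall : ∀ R, IsParS (S : Subgroup G) R → R ≤ normalizer (zl (S : Subgroup G) P : Set G))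
    (he : zl (S : Subgroup G) (MZ (S : Subgroup G)) = zl (S : Subgroup G) P)
    (hR : ∃ R, PSS (S : Subgroup G) R ∧ zl (S : Subgroup G) R = zl (S : Subgroup G) P) : False :=
  false_of_five oneK h hff hall he hR

end

/-- **`GamFive K`** (`Node/NO3SGam.lean`). -/
theorem gamFive (K : Cfsg.Agent.Omega.Frame.Cls.{u}) :
    ∀ (G : Type u) [Group G] [Finite G], K G → ∀ (S : Sylow 2 G) (P F : Subgroup G), WSt S P F →
    zc (S : Subgroup G) ⊓ centralizer (P : Set G) = ⊥ → FFMod (S : Subgroup G) P →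
      (∀ R, IsParS (S : Subgroup G) R → R ≤ normalizer (zl (S : Subgroup G) P : Set G)) →
        zl (S : Subgroup G) (MZ (S : Subgroup G)) = zl (S : Subgroup G) P →
          (∃ R, PSS (S : Subgroup G) R ∧ zl (S : Subgroup G) R = zl (S : Subgroup G) P) → IsKnownSimple' G :=
  gamFive_one K oneK

end Cfsg.Agent.Omega.NO3S.SFive

end

section


/-!
# GammaFF (S5): the commutator offender (LEMMA (A) of helper800, #23098)

`V` an elementary abelian 2-group, `B` and `a` normalise `V`, `[V, B, B] = 1`, `[V, a, a] = 1`, `[V, a, B] = 1`.  For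
`b ∈ B` the commutator `[b, a]` acts on `V` as `v ↦ v [[v, b], a]`.  So, if every `b ∈ B ∖ C(V)` has some `[v, b]` which
is moved by `a`, and `|V : H| ≤ |B : C_B(V)|` for some `H ≤ V` with `[[H, B], a] = 1`, the group generated by the
`[b, a]`, `b ∈ B`, is an offender on `V`.

* `Dat V B a` : the quadratic data;
* `Dat.cc` : `c v (b a b⁻¹ a⁻¹) = c (c v b) a`;
* **`Dat.exists_off`** : `∃ A ≤ B ⊔ zpowers a, OffM V A`;
* `Dat.exists_off_K`, `Dat.false_of_K` : the same with `|B : B ∩ K|`, `[V, b, a] ≠ 1` for `b ∈ B ∖ K`;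
* `Dat.false_of`, **`Dat.false_of_D`** : impossible if `V` has no offender.
-/

set_option autoImplicit false

namespace Cfsg.Agent.Omega.NO3S.SFive.CommOff

open Subgroup Cfsg
open Cfsg.Agent.Omega.NOne.NearFF (c c_def)
open Cfsg.Agent.Omega.FFThm (OffM ElemM)

universe u

variable {G : Type u} [Group G] {V B : Subgroup G} {a : G}

/-- The quadratic data. -/
structure Dat (V B : Subgroup G) (a : G) : Prop where
  sq : ∀ v ∈ V, v * v = 1
  comm : ∀ v ∈ V, ∀ w ∈ V, v * w = w * v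
  BV : B ≤ normalizer (V : Set G)
  aV : a ∈ normalizer (V : Set G)
  qB : ∀ v ∈ V, ∀ b ∈ B, ∀ b' ∈ B, c (c v b) b' = 1
  qa : ∀ v ∈ V, c (c v a) a = 1
  aB : ∀ v ∈ V, ∀ b ∈ B, c (c v a) b = 1

section basic

/-- `x v x⁻¹ = v [v, x]` -/
theorem cj_eq (sq : ∀ v ∈ V, v * v = 1) {x v : G}
    (hx : x ∈ normalizer (V : Set G)) (hv : v ∈ V) : x * v * x⁻¹ = v * c v x := by
  have h1 : x * v * x⁻¹ ∈ V := (mem_normalizer_iff.1 hx v).1 hv
  have h2 : (x * v * x⁻¹)⁻¹ = x * v * x⁻¹ := inv_eq_of_mul_eq_one_right (sq _ h1)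
  have h3 : c v x = v * (x * v * x⁻¹) := by
    rw [← h2, c_def]; group
  rw [h3, ← mul_assoc, sq v hv, one_mul]

/-- `[v, x] = v (x v x⁻¹)` -/
theorem c_eq (sq : ∀ v ∈ V, v * v = 1) {x v : G} (hx : x ∈ normalizer (V : Set G)) (hv : v ∈ V) :
    c v x = v * (x * v * x⁻¹) := by
  have h1 : x * v * x⁻¹ ∈ V := (mem_normalizer_iff.1 hx v).1 hv
  have h2 : (x * v * x⁻¹)⁻¹ = x * v * x⁻¹ := inv_eq_of_mul_eq_one_right (sq _ h1)
  rw [← h2, c_def]; group

theorem c_mem {x v : G} (hx : x ∈ normalizer (V : Set G)) (hv : v ∈ V) : c v x ∈ V := by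
  have h1 : x * v * x⁻¹ ∈ V := (mem_normalizer_iff.1 hx v).1 hv
  have h3 : c v x = v * (x * v * x⁻¹)⁻¹ := by rw [c_def]; group
  rw [h3]
  exact V.mul_mem hv (V.inv_mem h1)

theorem c_one_right (v : G) : c v 1 = 1 := by rw [c_def]; group

theorem c_one_left (x : G) : c 1 x = 1 := by rw [c_def]; group

theorem c_mul_left (sq : ∀ v ∈ V, v * v = 1) (comm : ∀ v ∈ V, ∀ w ∈ V, v * w = w * v) {x v w : G}
    (hx : x ∈ normalizer (V : Set G)) (hv : v ∈ V) (hw : w ∈ V) : c (v * w) x = c v x * c w x := by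
  have h1 : x * v * x⁻¹ ∈ V := (mem_normalizer_iff.1 hx v).1 hv
  have h2 : x * w * x⁻¹ ∈ V := (mem_normalizer_iff.1 hx w).1 hw
  rw [c_eq sq hx (V.mul_mem hv hw), c_eq sq hx hv, c_eq sq hx hw]
  have e : x * (v * w) * x⁻¹ = (x * v * x⁻¹) * (x * w * x⁻¹) := by group
  rw [e]
  calc v * w * (x * v * x⁻¹ * (x * w * x⁻¹)) = v * (w * (x * v * x⁻¹)) * (x * w * x⁻¹) := by group
    _ = v * ((x * v * x⁻¹) * w) * (x * w * x⁻¹) := by rw [comm w hw _ h1]
    _ = _ := by group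

theorem c_mul_right (sq : ∀ v ∈ V, v * v = 1) {x y v : G}
    (hx : x ∈ normalizer (V : Set G)) (hy : y ∈ normalizer (V : Set G)) (hv : v ∈ V) :
    c v (x * y) = c v x * c v y * c (c v y) x := by
  have hcy := c_mem hy hv
  have hcx := c_mem hx hv
  have h1 : x * y * v * (x * y)⁻¹ = v * (c v x * c v y * c (c v y) x) := by
    calc x * y * v * (x * y)⁻¹ = x * (y * v * y⁻¹) * x⁻¹ := by group
      _ = x * (v * c v y) * x⁻¹ := by rw [cj_eq sq hy hv]
      _ = (x * v * x⁻¹) * (x * c v y * x⁻¹) := by group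
      _ = (v * c v x) * (c v y * c (c v y) x) := by rw [cj_eq sq hx hv, cj_eq sq hx hcy]
      _ = _ := by group
  rw [c_eq sq (mul_mem hx hy) hv, h1, ← mul_assoc, sq v hv, one_mul]

theorem card_rel {H K : Subgroup G} (h : H ≤ K) : H.relIndex K * Nat.card H = Nat.card K := by
  rw [mul_comm, ← relIndex_bot_left, ← relIndex_bot_left]
  exact relIndex_mul_relIndex ⊥ H K bot_le h

/-- centralisers by commutators -/
theorem mem_cent {x : G} : x ∈ centralizer (V : Set G) ↔ ∀ v ∈ V, c v x = 1 := by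
  rw [mem_centralizer_iff]
  constructor
  · intro h v hv
    rw [c_def, h v hv]; group
  · intro h v hv
    have h1 := h v hv
    rw [c_def, mul_inv_eq_one, mul_inv_eq_iff_eq_mul] at h1
    exact h1

end basic

namespace Dat

variable (D : Dat V B a)
include D

theorem cj {x v : G} (hx : x ∈ normalizer (V : Set G)) (hv : v ∈ V) : x * v * x⁻¹ = v * c v x :=
  cj_eq D.sq hx hv

/-- `x` acts on `V` as `v ↦ v [[v, b], a]` -/
def Act (_ : Dat V B a) (x b : G) : Prop := x ∈ normalizer (V : Set G) ∧ ∀ v ∈ V, c v x = c (c v b) a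

/-- **`[v, [b, a]] = [[v, b], a]`** -/
theorem cc {b : G} (hb : b ∈ B) : D.Act (b * a * b⁻¹ * a⁻¹) b := by
  have hbV := D.BV hb
  have hxV : b * a * b⁻¹ * a⁻¹ ∈ normalizer (V : Set G) :=
    mul_mem (mul_mem (mul_mem hbV D.aV) (inv_mem hbV)) (inv_mem D.aV)
  refine ⟨hxV, fun v hv => ?_⟩
  -- `v = w ^ {(a b)}`
  have habV : a * b ∈ normalizer (V : Set G) := mul_mem D.aV hbV
  obtain ⟨w, hw, rfl⟩ : ∃ w ∈ V, v = (a * b) * w * (a * b)⁻¹ := by
    refine ⟨(a * b)⁻¹ * v * (a * b)⁻¹⁻¹, (mem_normalizer_iff.1 (inv_mem habV) v).1 hv, by group⟩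
  have hcb := c_mem hbV hw
  have hca := c_mem D.aV hw
  have hcba := c_mem D.aV hcb
  -- the action of `b a` and `a b`
  have h1 : c w (b * a) = c w b * c w a := by
    rw [c_mul_right D.sq hbV D.aV hw, D.aB w hw b hb, mul_one]
  have h2 : c w (a * b) = c w a * c w b * c (c w b) a := c_mul_right D.sq D.aV hbV hw
  have h3 : (a * b) * w * (a * b)⁻¹ = w * (c w a * c w b * c (c w b) a) := by rw [D.cj habV hw, h2]
  have h4 : c ((a * b) * w * (a * b)⁻¹) b = c w b := by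
    rw [h3, c_mul_left D.sq D.comm hbV hw (V.mul_mem (V.mul_mem hca hcb) hcba),
      c_mul_left D.sq D.comm hbV (V.mul_mem hca hcb) hcba, c_mul_left D.sq D.comm hbV hca hcb,
      D.aB w hw b hb, D.qB w hw b hb b hb, D.aB _ hcb b hb, one_mul, one_mul, mul_one]
  rw [h4, c_eq D.sq hxV hv]
  have h5 : b * a * b⁻¹ * a⁻¹ * (a * b * w * (a * b)⁻¹) * (b * a * b⁻¹ * a⁻¹)⁻¹ = b * a * w * (b * a)⁻¹ := by group
  rw [h5, D.cj (mul_mem hbV D.aV) hw, h1, h3]
  calc w * (c w a * c w b * c (c w b) a) * (w * (c w b * c w a))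
      = w * (c w a * c w b * c (c w b) a) * (c w b * c w a * w) := by
        rw [D.comm w hw _ (V.mul_mem hcb hca)]
    _ = w * (c w a * c w b) * (c (c w b) a * (c w b * c w a)) * w := by group
    _ = w * (c w a * c w b) * ((c w b * c w a) * c (c w b) a) * w := by
        rw [D.comm _ hcba _ (V.mul_mem hcb hca)]
    _ = w * (c w a * (c w b * c w b) * c w a) * c (c w b) a * w := by group
    _ = w * c (c w b) a * w := by rw [D.sq _ hcb, mul_one, D.sq _ hca, mul_one]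
    _ = c (c w b) a * w * w := by rw [D.comm w hw _ hcba]
    _ = c (c w b) a := by rw [mul_assoc, D.sq w hw, mul_one]

theorem Act.one : D.Act 1 1 := ⟨one_mem _, fun v _ => by rw [c_one_right, c_one_left]⟩

/-- the operators compose to zero -/
theorem zero {b b' v : G} (hb : b ∈ B) (hb' : b' ∈ B) (hv : v ∈ V) : c (c (c (c v b) a) b') a = 1 := by
  rw [D.aB _ (c_mem (D.BV hb) hv) b' hb', c_one_left]

theorem Act.mul {x y b b' : G} (hb : b ∈ B) (hb' : b' ∈ B) (h : D.Act x b) (h' : D.Act y b') :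
    D.Act (x * y) (b * b') := by
  refine ⟨mul_mem h.1 h'.1, fun v hv => ?_⟩
  have hbV := D.BV hb
  have hbV' := D.BV hb'
  rw [c_mul_right D.sq h.1 h'.1 hv, h.2 v hv, h'.2 v hv,
    h.2 _ (c_mem D.aV (c_mem hbV' hv)), D.zero hb' hb hv, mul_one,
    c_mul_right D.sq hbV hbV' hv, D.qB v hv b' hb' b hb, mul_one,
    c_mul_left D.sq D.comm D.aV (c_mem hbV hv) (c_mem hbV' hv)]

theorem Act.inv {x b : G} (hb : b ∈ B) (h : D.Act x b) : D.Act x⁻¹ b := by
  refine ⟨inv_mem h.1, fun v hv => ?_⟩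
  have hcx := c_mem h.1 hv
  have h0 : c (c v x) x = 1 := by
    rw [h.2 _ hcx, h.2 v hv, D.zero hb hb hv]
  have h1 : x * (v * c v x) * x⁻¹ = v := by
    calc x * (v * c v x) * x⁻¹ = (x * v * x⁻¹) * (x * c v x * x⁻¹) := by group
      _ = (v * c v x) * (c v x * c (c v x) x) := by rw [D.cj h.1 hv, D.cj h.1 hcx]
      _ = v * (c v x * c v x) := by rw [h0]; group
      _ = v := by rw [D.sq _ hcx, mul_one]
  have h2 : x⁻¹ * v * x⁻¹⁻¹ = v * c v x := by
    rw [inv_inv]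
    calc x⁻¹ * v * x = x⁻¹ * (x * (v * c v x) * x⁻¹) * x := by rw [h1]
      _ = _ := by group
  rw [c_eq D.sq (inv_mem h.1) hv, h2, ← mul_assoc, D.sq v hv, one_mul, h.2 v hv]

/-- the group of the commutators -/
def AA (_ : Dat V B a) : Subgroup G := closure {x | ∃ b ∈ B, x = b * a * b⁻¹ * a⁻¹}

theorem AA_le : D.AA ≤ B ⊔ zpowers a := by
  rw [AA, closure_le]
  rintro x ⟨b, hb, rfl⟩
  have h1 : b ∈ B ⊔ zpowers a := le_sup_left (a := B) hb
  have h2 : a ∈ B ⊔ zpowers a := le_sup_right (a := B) (mem_zpowers a)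
  exact mul_mem (mul_mem (mul_mem h1 h2) (inv_mem h1)) (inv_mem h2)

theorem mem_AA {b : G} (hb : b ∈ B) : b * a * b⁻¹ * a⁻¹ ∈ D.AA := subset_closure ⟨b, hb, rfl⟩

theorem exists_act {x : G} (hx : x ∈ D.AA) : ∃ b ∈ B, D.Act x b := by
  refine closure_induction (p := fun x _ => ∃ b ∈ B, D.Act x b) ?_ ?_ ?_ ?_ hx
  · rintro x ⟨b, hb, rfl⟩
    exact ⟨b, hb, D.cc hb⟩
  · exact ⟨1, one_mem _, Act.one D⟩
  · rintro x y _ _ ⟨b, hb, h⟩ ⟨b', hb', h'⟩
    exact ⟨b * b', mul_mem hb hb', Act.mul D hb hb' h h'⟩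
  · rintro x _ ⟨b, hb, h⟩
    exact ⟨b, hb, Act.inv D hb h⟩

theorem AA_norm : D.AA ≤ normalizer (V : Set G) := fun _ hx => (D.exists_act hx).choose_spec.2.1

theorem elemM : ElemM V D.AA where
  sq := fun x hx => by
    obtain ⟨b, hb, h⟩ := D.exists_act hx
    rw [mem_cent]
    intro v hv
    have hcx := c_mem h.1 hv
    rw [pow_two, c_mul_right D.sq h.1 h.1 hv, D.sq _ hcx, one_mul, h.2 _ hcx, h.2 v hv, D.zero hb hb hv]
  comm := fun x hx y hy => by
    obtain ⟨b, hb, h⟩ := D.exists_act hx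
    obtain ⟨b', hb', h'⟩ := D.exists_act hy
    -- `x y` and `y x` act in the same way
    have key : ∀ v ∈ V, x * y * v * (x * y)⁻¹ = y * x * v * (y * x)⁻¹ := by
      intro v hv
      rw [D.cj (mul_mem h.1 h'.1) hv, D.cj (mul_mem h'.1 h.1) hv, c_mul_right D.sq h.1 h'.1 hv,
        c_mul_right D.sq h'.1 h.1 hv, h.2 _ (c_mem h'.1 hv), h'.2 _ (c_mem h.1 hv), h'.2 v hv, h.2 v hv,
        D.zero hb' hb hv, D.zero hb hb' hv, D.comm _ (c_mem D.aV (c_mem (D.BV hb) hv)) _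
          (c_mem D.aV (c_mem (D.BV hb') hv))]
    have hyx : y * x ∈ normalizer (V : Set G) := mul_mem h'.1 h.1
    rw [mem_centralizer_iff]
    intro v hv
    obtain ⟨w, hw, rfl⟩ : ∃ w ∈ V, v = (y * x) * w * (y * x)⁻¹ :=
      ⟨(y * x)⁻¹ * v * (y * x)⁻¹⁻¹, (mem_normalizer_iff.1 (inv_mem hyx) v).1 hv, by group⟩
    have h1 := key w hw
    have h2 : x * y * x⁻¹ * y⁻¹ * (y * x * w * (y * x)⁻¹) * (x * y * x⁻¹ * y⁻¹)⁻¹ = y * x * w * (y * x)⁻¹ := by
      calc x * y * x⁻¹ * y⁻¹ * (y * x * w * (y * x)⁻¹) * (x * y * x⁻¹ * y⁻¹)⁻¹ = x * y * w * (x * y)⁻¹ := by group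
        _ = _ := h1
    rw [mul_inv_eq_iff_eq_mul] at h2
    exact h2.symm

/-- `|B : B ∩ K| ≤ |A : C_A(V)|` if `a` moves `[V, b]` for `b ∈ B ∖ K` -/
theorem relIndex_le_K [Finite G] {K : Subgroup G} (mv : ∀ b ∈ B, b ∉ K → ∃ v ∈ V, c (c v b) a ≠ 1) :
    K.relIndex B ≤ (centralizer (V : Set G)).relIndex D.AA := by
  set C := centralizer (V : Set G) with hC
  let f : B ⧸ K.subgroupOf B → D.AA ⧸ C.subgroupOf D.AA := fun q =>
    QuotientGroup.mk ⟨(q.out : G) * a * (q.out : G)⁻¹ * a⁻¹, D.mem_AA q.out.2⟩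
  have hf : Function.Injective f := by
    intro q q' h
    have h1 := QuotientGroup.eq.1 h
    rw [mem_subgroupOf] at h1
    simp only [Subgroup.coe_mul, Subgroup.coe_inv] at h1
    set b : G := (q.out : G) with hb
    set b' : G := (q'.out : G) with hb'
    have hbB : b ∈ B := q.out.2
    have hbB' : b' ∈ B := q'.out.2
    have h2 : D.Act ((b * a * b⁻¹ * a⁻¹)⁻¹ * (b' * a * b'⁻¹ * a⁻¹)) (b * b') :=
      Act.mul D hbB hbB' (Act.inv D hbB (D.cc hbB)) (D.cc hbB')
    have h3 : b * b' ∈ K := by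
      by_contra hcon
      obtain ⟨v, hv, hne⟩ := mv _ (mul_mem hbB hbB') hcon
      apply hne
      rw [← h2.2 v hv]
      exact mem_cent.1 h1 v hv
    have h4 : b * b ∈ K := by
      by_contra hcon
      obtain ⟨v, hv, hne⟩ := mv _ (mul_mem hbB hbB) hcon
      apply hne
      have h5 : c v (b * b) = 1 := by
        rw [c_mul_right D.sq (D.BV hbB) (D.BV hbB) hv, D.sq _ (c_mem (D.BV hbB) hv), one_mul,
          D.qB v hv b hbB b hbB]
      rw [h5, c_one_left]
    have h5 : b⁻¹ * b' ∈ K := by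
      have h6 : b⁻¹ * b' = (b * b)⁻¹ * (b * b') := by group
      rw [h6]
      exact mul_mem (inv_mem h4) h3
    have h7 : (QuotientGroup.mk q.out : B ⧸ K.subgroupOf B) = QuotientGroup.mk q'.out := by
      rw [QuotientGroup.eq, mem_subgroupOf]
      exact h5
    rwa [QuotientGroup.out_eq', QuotientGroup.out_eq'] at h7
  exact Nat.card_le_card_of_injective f hf

/-- `|B : C_B(V)| ≤ |A : C_A(V)|` if `a` moves `[V, b]` for `b ∈ B ∖ C(V)` -/
theorem relIndex_le [Finite G] (mv : ∀ b ∈ B, b ∉ centralizer (V : Set G) → ∃ v ∈ V, c (c v b) a ≠ 1) :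
    (centralizer (V : Set G)).relIndex B ≤ (centralizer (V : Set G)).relIndex D.AA := D.relIndex_le_K mv

/-- **LEMMA (A)**: the commutator offender; `K` = the elements `b` with `[V, b, a] = 1`. -/
theorem exists_off_K [Finite G] {K : Subgroup G} (mv : ∀ b ∈ B, b ∉ K → ∃ v ∈ V, c (c v b) a ≠ 1)
    (ne : ¬ B ≤ K) {H : Subgroup G} (hHV : H ≤ V)
    (hH : ∀ h ∈ H, ∀ b ∈ B, c (c h b) a = 1)
    (hcard : H.relIndex V ≤ K.relIndex B) : ∃ A ≤ B ⊔ zpowers a, OffM V A := by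
  refine ⟨D.AA, D.AA_le, D.elemM, ?_, ?_⟩
  · intro hcon
    obtain ⟨b, hb, hbc⟩ := SetLike.not_le_iff_exists.1 ne
    obtain ⟨v, hv, hne⟩ := mv b hb hbc
    apply hne
    rw [← (D.cc hb).2 v hv]
    exact mem_cent.1 (hcon (D.mem_AA hb)) v hv
  · have h1 : H ≤ V ⊓ centralizer (D.AA : Set G) := by
      intro h hh
      refine ⟨hHV hh, mem_centralizer_iff.2 ?_⟩
      intro x hx
      obtain ⟨b, hb, hact⟩ := D.exists_act hx
      have h2 := hact.2 h (hHV hh)
      rw [hH h hh b hb, c_def, mul_inv_eq_one, mul_inv_eq_iff_eq_mul] at h2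
      exact h2.symm
    have h2 := D.relIndex_le_K mv
    have h3 : H.relIndex V * Nat.card H = Nat.card V := card_rel hHV
    have h4 : (centralizer (V : Set G)).relIndex D.AA * Nat.card ↥(D.AA ⊓ centralizer (V : Set G)) =
        Nat.card D.AA := by
      rw [← inf_relIndex_left]
      exact card_rel inf_le_left
    have h5 : Nat.card H ≤ Nat.card ↥(V ⊓ centralizer (D.AA : Set G)) := by
      exact Nat.card_le_card_of_injective (inclusion h1) (inclusion_injective h1)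
    calc Nat.card V * Nat.card ↥(D.AA ⊓ centralizer (V : Set G))
        = H.relIndex V * Nat.card H * Nat.card ↥(D.AA ⊓ centralizer (V : Set G)) := by rw [h3]
      _ ≤ (centralizer (V : Set G)).relIndex D.AA * Nat.card ↥(V ⊓ centralizer (D.AA : Set G)) *
          Nat.card ↥(D.AA ⊓ centralizer (V : Set G)) :=
        Nat.mul_le_mul_right _ (Nat.mul_le_mul (hcard.trans h2) h5)
      _ = (centralizer (V : Set G)).relIndex D.AA * Nat.card ↥(D.AA ⊓ centralizer (V : Set G)) *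
          Nat.card ↥(V ⊓ centralizer (D.AA : Set G)) := by ring
      _ = _ := by rw [h4]

/-- **LEMMA (A)**: the commutator offender. -/
theorem exists_off [Finite G] (mv : ∀ b ∈ B, b ∉ centralizer (V : Set G) → ∃ v ∈ V, c (c v b) a ≠ 1)
    (ne : ¬ B ≤ centralizer (V : Set G)) {H : Subgroup G} (hHV : H ≤ V)
    (hH : ∀ h ∈ H, ∀ b ∈ B, c (c h b) a = 1)
    (hcard : H.relIndex V ≤ (centralizer (V : Set G)).relIndex B) : ∃ A ≤ B ⊔ zpowers a, OffM V A :=
  D.exists_off_K mv ne hHV hH hcard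

/-- **LEMMA (A)** for a `V` without offender, with `K`. -/
theorem false_of_K [Finite G] (noOff : ∀ A ≤ normalizer (V : Set G), ¬ OffM V A) {K : Subgroup G}
    (mv : ∀ b ∈ B, b ∉ K → ∃ v ∈ V, c (c v b) a ≠ 1) (ne : ¬ B ≤ K) {H : Subgroup G} (hHV : H ≤ V)
    (hH : ∀ h ∈ H, ∀ b ∈ B, c (c h b) a = 1) (hcard : H.relIndex V ≤ K.relIndex B) : False := by
  obtain ⟨A, hA, hoff⟩ := D.exists_off_K mv ne hHV hH hcard
  exact noOff A (hA.trans (sup_le D.BV (by rw [zpowers_le]; exact D.aV))) hoff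

/-- **LEMMA (A)** for a `V` without offender. -/
theorem false_of [Finite G] (noOff : ∀ A ≤ normalizer (V : Set G), ¬ OffM V A)
    (mv : ∀ b ∈ B, b ∉ centralizer (V : Set G) → ∃ v ∈ V, c (c v b) a ≠ 1)
    (ne : ¬ B ≤ centralizer (V : Set G)) {H : Subgroup G} (hHV : H ≤ V)
    (hH : ∀ h ∈ H, ∀ b ∈ B, c (c h b) a = 1)
    (hcard : H.relIndex V ≤ (centralizer (V : Set G)).relIndex B) : False :=
  D.false_of_K noOff mv ne hHV hH hcard

/-- **LEMMA (A)** in the notation of #23098: `[V, b] ≥ D₁` for all `b ∈ B ∖ C(V)`, `a` moves `d₀ ∈ D₁`, `a` centralises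
`δ ≥ [H, B]` and `|V : H| ≤ |B : C_B(V)|`. -/
theorem false_of_D [Finite G] (noOff : ∀ A ≤ normalizer (V : Set G), ¬ OffM V A) {D₁ δ H : Subgroup G} {d₀ : G}
    (hD : ∀ b ∈ B, b ∉ centralizer (V : Set G) → ∀ d ∈ D₁, ∃ v ∈ V, c v b = d) (h₀ : d₀ ∈ D₁) (h₀a : c d₀ a ≠ 1)
    (hδ : ∀ d ∈ δ, c d a = 1) (ne : ¬ B ≤ centralizer (V : Set G)) (hHV : H ≤ V)
    (hH : ∀ h ∈ H, ∀ b ∈ B, c h b ∈ δ)
    (hcard : H.relIndex V ≤ (centralizer (V : Set G)).relIndex B) : False := by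
  refine D.false_of noOff ?_ ne hHV (fun h hh b hb => hδ _ (hH h hh b hb)) hcard
  intro b hb hbc
  obtain ⟨v, hv, rfl⟩ := hD b hb hbc _ h₀
  exact ⟨v, hv, h₀a⟩

end Dat

end Cfsg.Agent.Omega.NO3S.SFive.CommOff

end
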