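import Cfsg.Agent.Mrg.Omega.NO3S.SFive.Chamber
import Cfsg.Agent.Mrg.Omega.NO3S.SFive.Out
import Cfsg.Agent.Mrg.Omega.NO3S.Pas.Three
import Cfsg.Agent.Mrg.Omega.NOThreeL.NF.Final
import Cfsg.Agent.Mrg.Omega.NO3S.SFive.PB
import Cfsg.Agent.Mrg.Omega.NO3S.SFive.NatD
import Cfsg.Agent.Mrg.Omega.NO3S.SFive.TyS

section


/-!
# GammaFF (S5): `B` at a bad chamber is a minimal offender on `L` (helper75 #22081 (2), cut #23010)

`B ≤ S`, `L ≰ E` and `[L ∩ E, B] = 1`.

* `Fv.idx` : `|I : F| = |V : E| = |L : L ∩ E|`;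
* `Fv.gam_of` : `B` is a minimal offender on `L`, `[L, B] ∩ F = 1`, `|[L, B]| = |I : F|`.
-/

set_option autoImplicit false
set_option linter.unusedSectionVars false

namespace Cfsg.Agent.Omega.NO3S.SFive

open Subgroup Cfsg Cfsg.Agent.ZN Cfsg.Agent.Omega.MinPar Cfsg.Agent.Omega.Frame Cfsg.Agent.Omega.FrameNOFF
open Cfsg.Agent.Omega.NOne.Flat (EE NN BadX)
open Cfsg.Agent.Omega.NOne.NearFF (c c_def)
open Cfsg.Agent.Omega.FFThm (ElemM OffM NoOverM ConclM relIndex_le_iff)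
open Cfsg.Agent.Omega.NOThreeL.NF (MinOffM RP)
open Cfsg.Agent.Omega.NOThreeL.Low.Key (BH c_eq_one' comm_of_c)
open scoped Pointwise commutatorElement

universe u

variable {G : Type u} [Group G] [Finite G] {S : Sylow 2 G} {P V M F B : Subgroup G}

theorem card_inf_mul' (X C : Subgroup G) : Nat.card ↥(X ⊓ C) * C.relIndex X = Nat.card X := by
  rw [← inf_relIndex_left X C]
  exact NOne.Flat.card_mul_relIndex' inf_le_left

namespace Fv

variable (h : Fv S P V M F)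
include h

theorem rp : RP (S : Subgroup G) P := rp_of h.ct h.par h.cvb h.noOver h.concl

theorem tpL : NOThreeL.Low.Tp (S : Subgroup G) P := by
  have h1 := h.concl
  unfold ConclM at h1
  rw [h.cvb] at h1
  exact h1

/-- `|I : F| ≤ |L : L ∩ E|` -/
theorem three_le (bh : BH V F B) (hsq : ∀ b ∈ B, b ^ 2 = 1) (hBS : B ≤ (S : Subgroup G))
    (hUE : ¬ zl (S : Subgroup G) P ≤ EE V F) : F.relIndex (V ⊓ B) ≤ (EE V F).relIndex (zl (S : Subgroup G) P) :=
  Pas.three h.ct h.par h.tpL bh hsq hBS h.LV hUE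

/-- `|L : L ∩ E| ≤ |V : E|` -/
theorem relIndex_L_le : (EE V F).relIndex (zl (S : Subgroup G) P) ≤ (EE V F).relIndex V :=
  Subgroup.relIndex_le_of_le_right h.LV (rne _ _)

/-- `|V : E| = |I : F| = |L : L ∩ E|` -/
theorem idx (bh : BH V F B) (hsq : ∀ b ∈ B, b ^ 2 = 1) (hBS : B ≤ (S : Subgroup G))
    (hUE : ¬ zl (S : Subgroup G) P ≤ EE V F) (hI : ¬ V ⊓ B ≤ F) :
    (EE V F).relIndex (zl (S : Subgroup G) P) = F.relIndex (V ⊓ B) ∧ (EE V F).relIndex V = F.relIndex (V ⊓ B) := by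
  have h1 := h.three_le bh hsq hBS hUE
  have h2 := h.relIndex_L_le
  have h3 := bh.relIndex_V_le hI
  omega

/-- `C_L(B) ≤ E` -/
theorem cent_le_EE (bh : BH V F B) (hI : ¬ V ⊓ B ≤ F) {v : G} (hv : v ∈ V) (hvB : v ∈ centralizer (B : Set G)) :
    v ∈ EE V F := by
  obtain ⟨b, hb, hbN⟩ := bh.exists_not_mem_NN hI
  refine bh.mem_E_of_c hv hb hbN ?_
  rw [c_eq_one' (mem_centralizer_iff.1 hvB b hb).symm]
  exact one_mem _

/-- **`B` is a minimal offender on `L`.** -/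
theorem gam_of (bh : BH V F B) (hsq : ∀ b ∈ B, b ^ 2 = 1) (hBS : B ≤ (S : Subgroup G))
    (hUE : ¬ zl (S : Subgroup G) P ≤ EE V F) (hI : ¬ V ⊓ B ≤ F)
    (h1 : zl (S : Subgroup G) P ⊓ EE V F ≤ centralizer (B : Set G)) :
    MinOffM (zl (S : Subgroup G) P) (S : Subgroup G) B ∧ ⁅zl (S : Subgroup G) P, B⁆ ⊓ F = ⊥ ∧
      (EE V F).relIndex V ≤ (EE V F).relIndex (zl (S : Subgroup G) P) ∧
      F.relIndex (V ⊓ B) ≤ Nat.card ↥(⁅zl (S : Subgroup G) P, B⁆ : Subgroup G) := by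
  set L := zl (S : Subgroup G) P with hL
  have hLV : L ≤ V := h.LV
  obtain ⟨hi1, hi2⟩ := h.idx bh hsq hBS hUE hI
  obtain ⟨w, hw, hwE⟩ := SetLike.not_le_iff_exists.1 hUE
  have hBP : B ≤ P := hBS.trans h.SP
  -- `C_L(B) = L ∩ E`
  have hCL : L ⊓ centralizer (B : Set G) = L ⊓ EE V F :=
    le_antisymm (le_inf inf_le_left fun v hv => h.cent_le_EE bh hI (hLV hv.1) hv.2) (le_inf inf_le_left h1)
  have hidx : (centralizer (B : Set G)).relIndex L = F.relIndex (V ⊓ B) := by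
    rw [← hi1, ← inf_relIndex_left L, hCL, inf_relIndex_left]
  -- `C_B(L) ≤ N`
  have hCN : ∀ b ∈ B, b ∈ centralizer (L : Set G) → b ∈ NN V F := by
    intro b hb hbL
    refine bh.mem_NN_of_c (hLV hw) hwE hb ?_
    rw [c_eq_one' (mem_centralizer_iff.1 hbL w hw)]
    exact one_mem _
  have hle1 : (NN V F).relIndex B ≤ (centralizer (L : Set G)).relIndex B := by
    rw [← inf_relIndex_right (centralizer (L : Set G)) B, ← inf_relIndex_right (NN V F) B]
    exact Subgroup.relIndex_le_of_le_left (fun b hb => ⟨hCN b hb.2 hb.1, hb.2⟩) (rne _ _)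
  have hne : ¬ B ≤ centralizer (L : Set G) := by
    intro h2
    exact hwE (h.cent_le_EE bh hI (hLV hw) (le_centralizer_iff.1 h2 hw))
  have hel : ElemM L B :=
    { sq := fun b hb => by rw [hsq b hb]; exact one_mem _
      comm := fun a ha b hb => by
        have e : a * b * a⁻¹ * b⁻¹ = 1 := by rw [bh.B_comm ha hb]; group
        rw [e]; exact one_mem _ }
  have hoff : OffM L B :=
    { toElemM := hel
      ne := hne
      le := relIndex_le_iff.2 (by rw [hidx, ← bh.relIndex_B]; exact hle1) }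
  have hle2 : (centralizer (L : Set G)).relIndex B ≤ (NN V F).relIndex B := by
    have h2 := relIndex_le_iff.1 (h.noOver B hBP hel)
    rw [bh.relIndex_B, ← hidx]
    exact h2
  have heq : (centralizer (L : Set G)).relIndex B = F.relIndex (V ⊓ B) := by
    rw [← bh.relIndex_B]; exact le_antisymm hle2 hle1
  -- `B ∩ N = C_B(L)`
  have hNC : ∀ b ∈ B, b ∈ NN V F → b ∈ centralizer (L : Set G) := by
    have h2 : centralizer (L : Set G) ⊓ B ≤ NN V F ⊓ B := fun b hb => ⟨hCN b hb.2 hb.1, hb.2⟩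
    have h3 := card_inf_mul' B (centralizer (L : Set G))
    have h4 := card_inf_mul' B (NN V F)
    have h5 : Nat.card ↥(NN V F ⊓ B) ≤ Nat.card ↥(centralizer (L : Set G) ⊓ B) := by
      rw [heq] at h3
      rw [bh.relIndex_B] at h4
      rw [inf_comm] at h3 h4
      have h6 : 0 < F.relIndex (V ⊓ B) := Nat.pos_of_ne_zero (rne _ _)
      exact Nat.le_of_mul_le_mul_right (by rw [h3, h4]) h6
    intro b hb hbN
    have h6 := Subgroup.eq_of_le_of_card_ge h2 h5
    have h7 : b ∈ NN V F ⊓ B := ⟨hbN, hb⟩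
    rw [← h6] at h7
    exact h7.1
  have hmin : MinOffM L (S : Subgroup G) B :=
    { le := hBS
      off := hoff
      min := by
        intro A hA hoA
        obtain ⟨a, ha, haL⟩ := SetLike.not_le_iff_exists.1 hoA.ne
        have h2 : (centralizer (B : Set G)).relIndex L ≤ (centralizer (A : Set G)).relIndex L := by
          rw [← inf_relIndex_left L (centralizer (B : Set G)), ← inf_relIndex_left L (centralizer (A : Set G))]
          refine Subgroup.relIndex_le_of_le_left (le_inf inf_le_left fun v hv => ?_) (rne _ _)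
          refine h1 ⟨hv.1, bh.mem_E_of_c (hLV hv.1) (hA ha) (fun hN => haL (hNC a (hA ha) hN)) ?_⟩
          rw [c_eq_one' (mem_centralizer_iff.1 hv.2 a ha).symm]
          exact one_mem _
        have h3 := relIndex_le_iff.1 hoA.le
        rw [heq, ← hidx]
        exact h2.trans h3 }
  have hrp := h.rp
  have hcard : Nat.card ↥(⁅L, B⁆ : Subgroup G) = F.relIndex (V ⊓ B) := by
    rw [hrp.card B hmin, heq]
  refine ⟨hmin, ?_, by rw [hi1, hi2], hcard.ge⟩
  rw [eq_bot_iff]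
  rintro y ⟨hy, hyF⟩
  have hwB : w ∉ centralizer (B : Set G) := fun h2 => hwE (h.cent_le_EE bh hI (hLV hw) h2)
  obtain ⟨b, hb, h2⟩ := hrp.surj B hmin w hw hwB y hy
  have h3 : c w b = y⁻¹ := by rw [← h2, c]; group
  have h4 : b ∈ NN V F := bh.mem_NN_of_c (hLV hw) hwE hb (by rw [h3]; exact inv_mem hyF)
  have h5 := mem_centralizer_iff.1 (hNC b hb h4) w hw
  rw [mem_bot, ← h2, ← h5]; group

end Fv

end Cfsg.Agent.Omega.NO3S.SFive

end

section


/-!
# GammaFF (S5): the output `OutD` from the frame (helper75 #22081, cut #23010)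

* `Fv.act_one` : `W_F ≤ S` moves `L`: `BetaFF.Act S P V F`;
* `Fv.out_of` : `OutD` from `[L ∩ E', B'] = 1` at the bad chamber and `C_E(b) ≤ I`, `b ∈ B - N`.
-/

set_option autoImplicit false
set_option linter.unusedSectionVars false

namespace Cfsg.Agent.Omega.NO3S.SFive

open Subgroup Cfsg Cfsg.Agent.ZN Cfsg.Agent.Omega.MinPar Cfsg.Agent.Omega.Frame Cfsg.Agent.Omega.FrameNOFF
open Cfsg.Agent.Omega.NoFF.Basic (conj_conj mem_conj conj_le_iff comm_symm comm_mono)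
open Cfsg.Agent.Omega.NOne.Flat (EE NN BadX EE_conj)
open Cfsg.Agent.Omega.FFThm (ElemM OffM NoOverM ConclM relIndex_le_iff)
open Cfsg.Agent.Omega.NOThreeL.NF (MinOffM RP)
open Cfsg.Agent.Omega.NOThreeL.Low.Key (BH)
open scoped Pointwise commutatorElement

universe u

variable {G : Type u} [Group G] [Finite G] {S : Sylow 2 G} {P V M F B : Subgroup G}

theorem relIndex_conj' (g : G) (A B : Subgroup G) :
    (MulAut.conj g • A).relIndex (MulAut.conj g • B) = A.relIndex B := by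
  rw [Subgroup.relIndex_pointwise_smul]

namespace Fv

variable (h : Fv S P V M F)
include h

theorem one_mem_DW (hWS : NOne.Flat.WW V F ≤ (S : Subgroup G)) : (1 : G) ∈ DW S V M F :=
  ⟨one_mem _, by rw [conj_one]; exact hWS⟩

theorem act_one (hWS : NOne.Flat.WW V F ≤ (S : Subgroup G))
    (hmov : ¬ NOne.Flat.WW V F ≤ centralizer (zl (S : Subgroup G) P : Set G)) : BetaFF.Act S P V F where
  char2 := h.ct
  par := h.par
  cv := h.cvb
  hyp := h.toHyp
  PV := h.PM.trans h.MV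
  LE := by
    have h1 := h.good_DW (h.one_mem_DW hWS)
    rwa [conj_one] at h1
  WS := hWS
  mov := hmov
  lines := by
    intro x hx
    have h1 := h.comm_DW (h.one_mem_DW hWS) (h.one_mem_DW hWS) hx
    rw [mul_one, conj_one] at h1
    exact le_centralizer_iff.1 h1

/-- **(0) of #22571** -/
theorem out_of' (hWS : NOne.Flat.WW V F ≤ (S : Subgroup G))
    (hmov : ¬ NOne.Flat.WW V F ≤ centralizer (zl (S : Subgroup G) P : Set G))
    (gam : ∀ m ∈ M, BB S P V M (MulAut.conj m • F) ≤ (S : Subgroup G) →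
      ¬ zl (S : Subgroup G) P ≤ EE V (MulAut.conj m • F) →
        zl (S : Subgroup G) P ⊓ EE V (MulAut.conj m • F) ≤
          centralizer ((BB S P V M (MulAut.conj m • F) : Subgroup G) : Set G))
    (four : ∀ b ∈ BB S P V M F, b ∉ NN V F → ∀ e ∈ EE V F, e * b = b * e → e ∈ BB S P V M F) :
    ∃ F' B s, OutD S P V M F F' B s := by
  have a := h.act_one hWS hmov
  have hLF : ¬ zl (S : Subgroup G) P ≤ F := by
    intro h1
    exact hmov (NOne.Flat.Hyp.W_le_X.trans (centralizer_le h1))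
  have ha : ∃ m ∈ DW S V M F, ¬ MulAut.conj m • zl (S : Subgroup G) P ≤ F :=
    ⟨1, h.one_mem_DW hWS, by rwa [conj_one]⟩
  have hI : ¬ V ⊓ BB S P V M F ≤ F := h.not_le_F ha le_rfl
  have hLB : zl (S : Subgroup G) P ≤ BB S P V M F := by
    have h1 := le_BL' (S := S) (P := P) (F := F) (h.one_mem_DW hWS)
    rwa [conj_one] at h1
  obtain ⟨m, hm, hBS, hBm, hUE⟩ := h.exists_bad ha
  have hg := gam m hm hBS hUE
  have h' := h.conj hm
  have hI' : ¬ V ⊓ BB S P V M (MulAut.conj m • F) ≤ MulAut.conj m • F := h'.not_le_F (h.act_conj hm ha) le_rfl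
  obtain ⟨h1, h2, h3, h4⟩ := h'.gam_of h'.bh h'.sq_BB hBS hUE hI' hg
  obtain ⟨h5, h6⟩ := h'.idx h'.bh h'.sq_BB hBS hUE hI'
  have e1 : (EE V (MulAut.conj m • F)).relIndex V = (EE V F).relIndex V := by
    have h7 := relIndex_conj' m (EE V F) V
    rwa [h.conj_V hm, EE_conj (h.MV hm)] at h7
  have e2 : (MulAut.conj m • F).relIndex (V ⊓ MulAut.conj m • BB S P V M F) = F.relIndex (V ⊓ BB S P V M F) := by
    have h7 := relIndex_conj' m F (V ⊓ BB S P V M F)
    rwa [Subgroup.smul_inf, h.conj_V hm] at h7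
  rw [h.BB_conj hm] at hBS hg h1 h2 h4 h6
  have hkey : F.relIndex (V ⊓ BB S P V M F) = (EE V F).relIndex V := by
    rw [← e1, ← e2, h6]
  refine ⟨_, _, _, out_of h.MV a h.noOver h.rp h.bh hLB hkey.le four hm hBS h1 hg h2 h3 ?_⟩
  rw [← e2]
  exact h4

end Fv

end Cfsg.Agent.Omega.NO3S.SFive

end

section


/-!
# GammaFF (S5): `[L ∩ E, B] = 1` at a bad chamber (helper75 #22081 (2), cut #23010)

* `Fv.rho` : the centre `ρ = [E, b]` of `W`, `|ρ| = |[L, A]|` for the minimal offenders `A ≤ S` on `L`;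
* `Fv.rho_le` : `[L ∩ E, B] ≠ 1` ⟹ `ρ ≤ L`; `Fv.comm_le` : then `[V, B] ≤ L`.
-/

set_option autoImplicit false
set_option linter.unusedSectionVars false

namespace Cfsg.Agent.Omega.NO3S.SFive

open Subgroup Cfsg Cfsg.Agent.ZN Cfsg.Agent.Omega.MinPar Cfsg.Agent.Omega.Frame Cfsg.Agent.Omega.FrameNOFF
open Cfsg.Agent.Omega.NoFF.Basic (conj_conj mem_conj conj_le_iff comm_symm comm_mono)
open Cfsg.Agent.Omega.NOne.Flat (EE NN BadX EE_conj WW_conj)
open Cfsg.Agent.Omega.NOne.NearFF (c c_def)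
open Cfsg.Agent.Omega.FFThm (ElemM OffM NoOverM ConclM relIndex_le_iff NatKM SymKM)
open Cfsg.Agent.Omega.NOThreeL.NF (MinOffM RP)
open Cfsg.Agent.Omega.NOThreeL.Low.Key (BH c_eq_one' comm_of_c)
open scoped Pointwise commutatorElement

universe u

variable {G : Type u} [Group G] [Finite G] {S : Sylow 2 G} {P V M F B : Subgroup G}

theorem card_conj' (g : G) (A : Subgroup G) : Nat.card ↥(MulAut.conj g • A : Subgroup G) = Nat.card A :=
  (Nat.card_congr (A.equivMapOfInjective _ (MulAut.conj g).injective).toEquiv).symm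

theorem relIndex_conj'' (g : G) (A C : Subgroup G) :
    (MulAut.conj g • A).relIndex (MulAut.conj g • C) = A.relIndex C := by
  rw [Subgroup.relIndex_pointwise_smul]

namespace Fv

variable (h : Fv S P V M F)
include h

theorem root (bh : BH V F B) (hI : ¬ V ⊓ B ≤ F) (hle : F.relIndex (V ⊓ B) ≤ (EE V F).relIndex V) :
    Pas.Root V F (V ⊓ B) := by
  obtain ⟨b, hb, hbN⟩ := bh.exists_not_mem_NN hI
  intro r hr hrF r' hr' hrF' s hs
  obtain ⟨e, he, h1⟩ := (bh.root hle hr hrF hb hbN (c r s)).1 ⟨s, hs, rfl⟩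
  exact (bh.root hle hr' hrF' hb hbN (c r s)).2 ⟨e, he, h1⟩

/-- **The centre `ρ`.** -/
theorem rho (bh : BH V F B) (hle : F.relIndex (V ⊓ B) ≤ (EE V F).relIndex V)
    (ha : ∃ m ∈ M, NOne.Flat.WW V F ≤ MulAut.conj m • (S : Subgroup G) ∧
      MulAut.conj m • zl (S : Subgroup G) P ≤ B ∧ ¬ MulAut.conj m • zl (S : Subgroup G) P ≤ F) :
    ∃ ρ : Subgroup G, (∀ e ∈ EE V F, ∀ b ∈ B, c e b ∈ ρ) ∧
      (∃ A, MinOffM (zl (S : Subgroup G) P) (S : Subgroup G) A ∧
        Nat.card ρ = Nat.card ↥(⁅zl (S : Subgroup G) P, A⁆ : Subgroup G)) ∧ Nat.card ρ ≤ F.relIndex (V ⊓ B) := by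
  obtain ⟨m, hm, hW, hLB, hLF⟩ := ha
  set L := zl (S : Subgroup G) P with hL
  have hmi := inv_mem hm
  have hmV := h.MV hmi
  have h' := h.conj hmi
  have hLI : MulAut.conj m • L ≤ V ⊓ B := le_inf (h.conjLV hm) hLB
  have hI : ¬ V ⊓ B ≤ F := fun h1 => hLF (hLI.trans h1)
  have hroot := h.root bh hI hle
  have hroot' := hroot.conj hmV
  -- `W' = W^(m⁻¹) ≤ S`
  have hW' : NOne.Flat.WW V (MulAut.conj m⁻¹ • F) ≤ (S : Subgroup G) := by
    rw [← WW_conj hmV]
    have h1 := (conj_le_iff (g := m⁻¹)).2 hW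
    rwa [conj_conj, inv_mul_cancel, conj_one] at h1
  have hLI' : L ≤ MulAut.conj m⁻¹ • (V ⊓ B) := by
    have h1 := (conj_le_iff (g := m⁻¹)).2 hLI
    rwa [conj_conj, inv_mul_cancel, conj_one] at h1
  have hIE' : MulAut.conj m⁻¹ • (V ⊓ B) ≤ EE V (MulAut.conj m⁻¹ • F) := by
    rw [← EE_conj hmV]
    exact conj_le_iff.2 bh.I_le_E
  have hLF' : ¬ L ≤ MulAut.conj m⁻¹ • F := by
    intro h1
    apply hLF
    have h2 := (conj_le_iff (g := m)).2 h1
    rwa [conj_conj, mul_inv_cancel, conj_one] at h2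
  have hmov : ¬ NOne.Flat.WW V (MulAut.conj m⁻¹ • F) ≤ centralizer (L : Set G) := by
    intro h1
    apply hLF'
    rw [← h'.toHyp.cent_VW]
    exact le_inf h.LV (le_centralizer_iff.1 h1)
  have hmin := Pas.minOff_of_root h.ct h.par h.cvb h.concl h'.toHyp hroot' hIE' hLI' hW' hmov
  refine ⟨MulAut.conj m • ⁅L, NOne.Flat.WW V (MulAut.conj m⁻¹ • F)⁆, ?_, ⟨_, hmin, card_conj' _ _⟩, ?_⟩
  · intro e he b hb
    by_cases hbN : b ∈ NN V F
    · rw [c_eq_one' (mem_centralizer_iff.1 hbN.2 e he)]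
      exact one_mem _
    · obtain ⟨v, hv, hvF⟩ := SetLike.not_le_iff_exists.1 hLF'
      have hr : m * v * m⁻¹ ∈ V ⊓ B := by
        refine hLI ?_
        rw [mem_conj]
        have e1 : m⁻¹ * (m * v * m⁻¹) * m = v := by group
        rwa [e1]
      have hrF : m * v * m⁻¹ ∉ F := by
        intro h1
        apply hvF
        rw [mem_conj, inv_inv]
        exact h1
      obtain ⟨s, hs, h1⟩ := (bh.root hle hr hrF hb hbN (c e b)).2 ⟨e, he, rfl⟩
      rw [← h1, mem_conj]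
      have hs' : m⁻¹ * s * m ∈ NOne.Flat.WW V (MulAut.conj m⁻¹ • F) := by
        rw [← WW_conj hmV, mem_conj, inv_inv]
        have e1 : m * (m⁻¹ * s * m) * m⁻¹ = s := by group
        rwa [e1]
      have e1 : m⁻¹ * c (m * v * m⁻¹) s * m = ⁅v, m⁻¹ * s * m⁆ := by
        rw [c, commutatorElement_def]; group
      rw [e1]
      exact commutator_mem_commutator hv hs'
  · rw [card_conj', h.rp.card _ hmin]
    have h1 := relIndex_le_iff.1 (h.noOver _ (hW'.trans h.SP) hmin.off.toElemM)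
    refine h1.trans ?_
    have h2 : (centralizer (NOne.Flat.WW V (MulAut.conj m⁻¹ • F) : Set G)).relIndex L ≤
        (MulAut.conj m⁻¹ • F).relIndex L := by
      rw [← inf_relIndex_left L (centralizer _), ← inf_relIndex_left L (MulAut.conj m⁻¹ • F)]
      refine Subgroup.relIndex_le_of_le_left (le_inf inf_le_left fun x hx => ?_) (rne _ _)
      have h3 : x ∈ V ⊓ centralizer (NOne.Flat.WW V (MulAut.conj m⁻¹ • F) : Set G) := by
        rw [h'.toHyp.cent_VW]
        exact hx.2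
      exact h3.2
    refine h2.trans ((Subgroup.relIndex_le_of_le_right hLI' (rne _ _)).trans ?_)
    rw [relIndex_conj'']

/-- `[L ∩ E, B] ≠ 1` ⟹ `ρ ≤ L` -/
theorem rho_le (bh : BH V F B) (hsq : ∀ b ∈ B, b ^ 2 = 1) (hBS : B ≤ (S : Subgroup G))
    (hUE : ¬ zl (S : Subgroup G) P ≤ EE V F) {ρ : Subgroup G} (hρ : ∀ e ∈ EE V F, ∀ b ∈ B, c e b ∈ ρ)
    (hA : ∃ A, MinOffM (zl (S : Subgroup G) P) (S : Subgroup G) A ∧
        Nat.card ρ = Nat.card ↥(⁅zl (S : Subgroup G) P, A⁆ : Subgroup G))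
    (hρi : Nat.card ρ ≤ F.relIndex (V ⊓ B))
    (hne : ¬ zl (S : Subgroup G) P ⊓ EE V F ≤ centralizer (B : Set G)) : ρ ≤ zl (S : Subgroup G) P := by
  obtain ⟨A, hA, hAc⟩ := hA
  -- the case `|ρ| = 2`
  have two : Nat.card ρ = 2 → ρ ≤ zl (S : Subgroup G) P := by
    intro h2
    obtain ⟨e, he, heB⟩ := SetLike.not_le_iff_exists.1 hne
    obtain ⟨b, hb, hbe⟩ : ∃ b ∈ B, c e b ≠ 1 := by
      by_contra hall
      push Not at hall
      apply heB
      rw [mem_centralizer_iff]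
      exact fun b hb => (comm_of_c (hall b hb)).symm
    have h3 := hρ e he.2 b hb
    have h4 : c e b ∈ zl (S : Subgroup G) P := by
      have h5 := (mem_normalizer_iff.1 (h.SL (hBS hb)) e⁻¹).1 (inv_mem he.1)
      have e1 : c e b = e * (b * e⁻¹ * b⁻¹) := by rw [c]; group
      rw [e1]
      exact mul_mem he.1 h5
    have h6 : 2 ≤ Nat.card ↥(zpowers (c e b)) := by
      rw [Nat.card_zpowers]
      have h7 := orderOf_pos (c e b)
      have h8 : orderOf (c e b) ≠ 1 := fun h9 => hbe (orderOf_eq_one_iff.1 h9)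
      omega
    have h7 : zpowers (c e b) = ρ := Subgroup.eq_of_le_of_card_ge (zpowers_le.2 h3) (by rw [h2]; exact h6)
    rw [← h7]
    exact zpowers_le.2 h4
  rcases h.tpL with ⟨K, fK, fiK, cK, k, hk, ⟨N⟩⟩ | ⟨k, m, hk, hm, ⟨N⟩⟩
  · obtain ⟨i, hr⟩ := NOThreeL.NF.NatR.Rt.of (M := N) h.PL h.SP hA
    have h1 : Nat.card ρ = Nat.card K := by
      rw [hAc, hr.comm_eq h.PL h.SP, NOThreeL.NF.NatR.card_ln]
    by_cases hK : 4 ≤ Nat.card K
    · exact Cfsg.Agent.Omega.NO3S.SFive.alpha hK N h.ct h.par bh hsq hBS h.LV hUE (h1 ▸ hρi) hρ h1.le hne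
    · refine two ?_
      rcases card_field' (F := K) with h5 | h5
      · rw [h1, h5]
      · exact absurd h5 hK
  · refine two ?_
    have hAm := Half.amb_of_loc h.ct S h.par.isLoc
    obtain ⟨-, h2⟩ := NOThreeL.NF.SymRP.exists_ad N hAm (by omega) hA
    rw [hAc, h.rp.card A hA, h2]

/-- `[L ∩ E, B] ≠ 1` ⟹ `[V, B] ≤ L` -/
theorem comm_le (bh : BH V F B) (hsq : ∀ b ∈ B, b ^ 2 = 1) (hBS : B ≤ (S : Subgroup G))
    (hUE : ¬ zl (S : Subgroup G) P ≤ EE V F)
    (ha : ∃ m ∈ M, NOne.Flat.WW V F ≤ MulAut.conj m • (S : Subgroup G) ∧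
      MulAut.conj m • zl (S : Subgroup G) P ≤ B ∧ ¬ MulAut.conj m • zl (S : Subgroup G) P ≤ F)
    (hne : ¬ zl (S : Subgroup G) P ⊓ EE V F ≤ centralizer (B : Set G)) :
    ∀ v ∈ V, ∀ b ∈ B, c v b ∈ zl (S : Subgroup G) P := by
  have hI : ¬ V ⊓ B ≤ F := by
    obtain ⟨m, hm, -, h1, h2⟩ := ha
    exact fun h3 => h2 ((le_inf (h.conjLV hm) h1).trans h3)
  obtain ⟨hi1, hi2⟩ := h.idx bh hsq hBS hUE hI
  obtain ⟨ρ, hρ, hA, hρi⟩ := h.rho bh hi2.ge ha
  have hle := h.rho_le bh hsq hBS hUE hρ hA hρi hne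
  intro v hv b hb
  -- `v = l e`
  have hV : ∃ l ∈ zl (S : Subgroup G) P, l⁻¹ * v ∈ EE V F := by
    have hcos : NOne.Flat.Cos id (zl (S : Subgroup G) P) (EE V F) V (EE V F) :=
      ⟨fun u hu => h.LV hu, fun u _ u' _ => Iff.rfl⟩
    exact hcos.surj (by rw [hi1, hi2]) hv
  obtain ⟨l, hl, hle'⟩ := hV
  have e1 : v = l * (l⁻¹ * v) := by group
  rw [e1, h.toHyp.c_mul_left (h.LV hl) hle'.1 (bh.le_W hb)]
  refine mul_mem ?_ (hle (hρ _ hle' b hb))
  have h5 := (mem_normalizer_iff.1 (h.SL (hBS hb)) l⁻¹).1 (inv_mem hl)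
  have e2 : c l b = l * (b * l⁻¹ * b⁻¹) := by rw [c]; group
  rw [e2]
  exact mul_mem hl h5

end Fv

end Cfsg.Agent.Omega.NO3S.SFive

end

section


/-!
# GammaFF (S5): `[V, B] ≤ L` is impossible (helper31, (A2); LEMMA (PB) of helper422 #22571)

* `Fv.not_VB` : for `B ≤ S`, `B` not centralising `L`: not all `c v b`, `v ∈ V`, `b ∈ B`, lie in `L`.

All types of `L`, any number of blocks.  `trv V ∩ S ≰ O₂(P)`, so `O²(P) ≤ trv V`; then `pbN` with
`D = O²(P) ∩ (the elements acting on one block only)`.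
-/

set_option autoImplicit false
set_option linter.unusedSectionVars false

namespace Cfsg.Agent.Omega.NO3S.SFive

open Subgroup Cfsg Cfsg.Agent.ZN Cfsg.Agent.Omega.MinPar Cfsg.Agent.Omega.Frame Cfsg.Agent.Omega.FrameNOFF
open Cfsg.Agent.Omega.FFThm (ElemM OffM NoOverM ConclM NatK NatKM SymK SymKM)
open Cfsg.Agent.MinSimple.VModule (oddGen mem_oddGen oddGen_le oddGen_le_of_sup le_normalizer_oddGen)
open scoped Pointwise commutatorElement

universe u

/-! ### Odd powers -/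

section odd

theorem exists_odd_pow {G : Type*} [Group G] [Finite G] (g : G) : ∃ n : ℕ, Odd (orderOf (g ^ 4 ^ n)) := by
  obtain ⟨a, m, hm, h⟩ := Nat.exists_eq_two_pow_mul_odd (orderOf_pos g).ne'
  refine ⟨a, Odd.of_dvd_nat hm (orderOf_dvd_of_pow_eq_one ?_)⟩
  have e : 4 ^ a * m = orderOf g * 2 ^ a := by
    rw [h, show (4 : ℕ) = 2 * 2 from rfl, mul_pow]; ring
  rw [← pow_mul, e, pow_mul, pow_orderOf_eq_one, one_pow]

theorem pow_four_pow {H : Type*} [Monoid H] {T : H} (hT : T ^ 3 = 1) (n : ℕ) : T ^ 4 ^ n = T := by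
  induction n with
  | zero => rw [pow_zero, pow_one]
  | succ n ih =>
    rw [pow_succ, pow_mul, ih]
    calc T ^ 4 = T ^ 3 * T := pow_succ T 3
      _ = T := by rw [hT, one_mul]

end odd

/-! ### Natural modules -/

namespace NatVB

open Cfsg.Agent.ZN.ChoiceBase
open Cfsg.Agent.Omega.Half (Amb)
open Cfsg.Agent.Omega.Half.NatA (fac mem_fac Mv Mv.conj Mv.inv Mv.unique)
open Cfsg.Agent.Omega.NOThreeL.NF.NatR
open Cfsg.Agent.Omega.NatPair (ap ap_mul ap_one ap_inv_ap ap_zero' ap_one' ext2 exists_ap dt)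
open Cfsg.Agent.Omega.NO1.NSix (em em_mem e_em_self e_em_ne em_fac em_eq mem_of_em)
open Cfsg.Agent.Lib.SL2Mat
open NatD

section field

variable {F : Type} [Field F]

theorem pow_three_of_trace (X : Matrix.SpecialLinearGroup (Fin 2) F) (h : ent X 0 0 + ent X 1 1 = -1) : X ^ 3 = 1 := by
  have hd := det_eq X
  rw [pow_succ, pow_two]
  apply ext_ent
  · simp only [ent_mul, ent_one_00]
    linear_combination ((ent X 0 0 + ent X 1 1 - 1) * ent X 0 0 - (ent X 0 0 * ent X 1 1 - ent X 0 1 * ent X 1 0)) * h +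
      (1 - ent X 0 0) * hd
  · simp only [ent_mul, ent_one_01]
    linear_combination ((ent X 0 0 + ent X 1 1 - 1) * ent X 0 1) * h - ent X 0 1 * hd
  · simp only [ent_mul, ent_one_10]
    linear_combination ((ent X 0 0 + ent X 1 1 - 1) * ent X 1 0) * h - ent X 1 0 * hd
  · simp only [ent_mul, ent_one_11]
    linear_combination ((ent X 0 0 + ent X 1 1 - 1) * ent X 1 1 - (ent X 0 0 * ent X 1 1 - ent X 0 1 * ent X 1 0)) * h +
      (1 - ent X 1 1) * hd

/-- an element of order 3 with `x ↦ y` -/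
theorem exists_three_ap {x y : Fin 2 → F} (h : dt x y ≠ 0) :
    ∃ T : Matrix.SpecialLinearGroup (Fin 2) F, T ^ 3 = 1 ∧ ap T x = y := by
  obtain ⟨c, hc⟩ : ∃ c, c * dt x y = 1 := ⟨(dt x y)⁻¹, inv_mul_cancel₀ h⟩
  unfold dt at hc
  refine ⟨mk (c * (y 1 * y 0 + x 1 * (x 0 + y 0))) (-(c * (y 0 * y 0 + x 0 * (x 0 + y 0))))
    (c * (y 1 * y 1 + x 1 * (x 1 + y 1))) (-(c * (y 0 * y 1 + x 0 * (x 1 + y 1)))) ?_, ?_, ?_⟩
  · linear_combination (c * (x 0 * y 1 - x 1 * y 0) + 1) * hc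
  · apply pow_three_of_trace
    rw [mk_00, mk_11]
    linear_combination -hc
  · apply ext2
    · rw [ap_zero', mk_00, mk_01]
      linear_combination (y 0) * hc
    · rw [ap_one', mk_10, mk_11]
      linear_combination (y 1) * hc

end field

section grp

variable {G : Type u} [Group G] {F : Type} [Field F] {S P W : Subgroup G} {k : ℕ} {M : NatKM F S P W ⊥ k}
  {hPW : P ≤ normalizer (W : Set G)} {j : Fin k}

theorem ac_pow {g : G} {X : Matrix.SpecialLinearGroup (Fin 2) F} (hPW : P ≤ normalizer (W : Set G)) (hg : g ∈ P)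
    (h : Ac M g (Pi.mulSingle j X)) (n : ℕ) : Ac M (g ^ n) (Pi.mulSingle j (X ^ n)) := by
  induction n with
  | zero =>
    rw [pow_zero, pow_zero, Pi.mulSingle_one]
    exact ac_one (one_mem _)
  | succ n ih =>
    rw [pow_succ, pow_succ, Pi.mulSingle_mul]
    exact Ac.mul hPW hg ih h

/-- an element of order 3 of `SL₂(F)` is induced by an element of odd order -/
theorem exists_odd_ac [Finite G] (hPW : P ≤ normalizer (W : Set G)) {T : Matrix.SpecialLinearGroup (Fin 2) F}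
    (hT : T ^ 3 = 1) : ∃ g ∈ oneG M hPW j ⊓ oddGen P, Ac M g (Pi.mulSingle j T) := by
  obtain ⟨g, hg, hac⟩ := lift_ac (M := M) (Pi.mulSingle j T)
  obtain ⟨n, hn⟩ := exists_odd_pow g
  have h1 := ac_pow hPW hg hac (4 ^ n)
  rw [pow_four_pow hT] at h1
  have h2 : g ^ 4 ^ n ∈ P := pow_mem hg _
  exact ⟨g ^ 4 ^ n, mem_inf.2 ⟨⟨h2, T, h1⟩, mem_oddGen h2 hn⟩, h1⟩

/-- `O²(P) ∩ oneG j` is irreducible on the block `j`. -/
theorem irr [Finite G] {U : Subgroup G} (hU : U ≤ fac M.toNatK {j}) (hne : U ≠ ⊥)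
    (hn : oneG M hPW j ⊓ oddGen P ≤ normalizer (U : Set G)) : fac M.toNatK {j} ≤ U := by
  obtain ⟨⟨u, hu⟩, hu1'⟩ := U.ne_bot_iff_exists_ne_one.1 hne
  have hu1 : u ≠ 1 := fun h1 => hu1' (Subtype.ext h1)
  have huW : u ∈ W := (hU hu).1
  have hx : M.e u j ≠ 0 := by
    intro h0
    apply hu1
    refine e_inj (M := M) huW (one_mem _) ?_
    rw [e_one]
    funext i
    by_cases hi : i = j
    · rw [hi, h0]; rfl
    · exact (hU hu).2 i hi
  have step : ∀ w ∈ U, ∀ y : Fin 2 → F, dt (M.e w j) y ≠ 0 → em M.toNatK j y ∈ U := by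
    intro w hw y hy
    have hwW : w ∈ W := (hU hw).1
    obtain ⟨T, hT, hTy⟩ := exists_three_ap hy
    obtain ⟨g, hg, hac⟩ := exists_odd_ac (M := M) (j := j) hPW hT
    have h1 : g * w * g⁻¹ ∈ U := (mem_normalizer_iff.1 (hn hg) w).1 hw
    have h2 : em M.toNatK j y = g * w * g⁻¹ := by
      refine e_inj (M := M) (em_mem _ _ _) (hU h1).1 ?_
      funext i
      by_cases hi : i = j
      · subst hi
        rw [ac_self hac hwW, hTy]
        exact e_em_self _ _ _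
      · rw [ac_other hac hwW hi, (hU hw).2 i hi]
        exact e_em_ne _ hi _
    rw [h2]; exact h1
  have all : ∀ y : Fin 2 → F, y ≠ 0 → em M.toNatK j y ∈ U := by
    intro y hy
    obtain ⟨z, hz1, hz2⟩ := NatD.exists_third hx hy
    have h1 := step u hu z hz1
    refine step _ h1 y ?_
    have e : M.e (em M.toNatK j z) j = z := e_em_self _ _ _
    rwa [e]
  intro v hv
  by_cases h0 : M.e v j = 0
  · have : v = 1 := by
      refine e_inj (M := M) hv.1 (one_mem _) ?_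
      rw [e_one]
      funext i
      by_cases hi : i = j
      · rw [hi, h0]; rfl
      · exact hv.2 i hi
    rw [this]; exact one_mem _
  · have h1 := all _ h0
    have h2 := em_eq M.toNatK hv.1 (i := j) fun i hi => hv.2 i hi
    rwa [h2] at h1

theorem nt [Finite G] : ¬ oneG M hPW j ⊓ oddGen P ≤ centralizer (fac M.toNatK {j} : Set G) := by
  intro hc
  have h01 : dt (![1, 0] : Fin 2 → F) ![0, 1] ≠ 0 := by simp [dt]
  obtain ⟨T, hT, hTy⟩ := exists_three_ap h01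
  obtain ⟨g, hg, hac⟩ := exists_odd_ac (M := M) (j := j) hPW hT
  have hvN : em M.toNatK j ![1, 0] ∈ fac M.toNatK {j} := em_fac _ _ _
  have hve : M.e (em M.toNatK j ![1, 0]) j = ![1, 0] := e_em_self _ _ _
  have h1 := mem_centralizer_iff.1 (hc hg) _ hvN
  have h2 := ac_self hac hvN.1
  rw [← h1, mul_inv_cancel_right, hve, hTy] at h2
  have h3 := congrFun h2 0
  exact one_ne_zero h3

theorem dis (hA : Amb S P W) {p : G} (hp : p ∈ P) :
    MulAut.conj p • fac M.toNatK {j} = fac M.toNatK {j} ∨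
      oneG M hPW j ⊓ oddGen P ≤ centralizer ((MulAut.conj p • fac M.toNatK {j} : Subgroup G) : Set G) := by
  obtain ⟨σ, hσ⟩ := M.perm p hp
  rw [exists_conj_fac hA hp hσ]
  by_cases h1 : σ j = j
  · left; rw [h1]
  · right
    exact inf_le_left.trans (le_centralizer_iff.1 fun v hv => cent_oneG hv.1 (hv.2 j fun h => h1 h.symm))

theorem gen (hA : Amb S P W) (j : Fin k) : W ≤ ⨆ p : P, MulAut.conj (p : G) • fac M.toNatK {j} := by
  intro v hv
  refine mem_of_em M.toNatK hv fun i => ?_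
  obtain ⟨s, hs, hsi⟩ := M.trans j i
  obtain ⟨σ, hσ⟩ := M.perm s (hA.TH hs)
  have h1 : σ j = i := Mv.unique M.toNatK hA hσ (hA.TH hs) hsi
  have h2 := exists_conj_fac hA (hA.TH hs) hσ j
  rw [h1] at h2
  have h3 : em M.toNatK i (M.e v i) ∈ fac M.toNatK {i} := em_fac _ _ _
  rw [← h2] at h3
  exact (le_iSup (fun p : P => MulAut.conj (p : G) • fac M.toNatK {j}) ⟨s, hA.TH hs⟩) h3

end grp

end NatVB

/-! ### Even-subset blocks -/

namespace SymVB

open Cfsg.Agent.ZN.ChoiceBase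
open Cfsg.Agent.Omega.Half (Amb)
open Cfsg.Agent.Omega.Half.SymA
open Cfsg.Agent.Omega.NOThreeL.NF.SymRP
open TyS
open scoped Classical

variable {G : Type u} [Group G] {T H V : Subgroup G} {k m : ℕ} {M : SymK T H V ⊥ k m} (hA : Amb T H V)

theorem tc_three {a b c : Pt k m} (hab : a ≠ b) (hbc : b ≠ c) (hac : a ≠ c) :
    (Equiv.swap a b * Equiv.swap b c) ^ 3 = 1 := by
  have h1 := Equiv.Perm.isThreeCycle_swap_mul_swap_same hab.symm hbc hac
  rw [Equiv.swap_comm b a] at h1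
  rw [← h1.orderOf, pow_orderOf_eq_one]

include hA

theorem mv_pow {g : G} {π : Equiv.Perm (Pt k m)} (hg : g ∈ H) (h : Mv M g π) (n : ℕ) : Mv M (g ^ n) (π ^ n) := by
  induction n with
  | zero =>
    rw [pow_zero, pow_zero]
    exact Mv_one M
  | succ n ih =>
    rw [pow_succ, pow_succ]
    exact ih.mul hA h hg

/-- 3-cycles are induced by elements of odd order -/
theorem exists_odd_tc [Finite G] {j : Fin k} {a b c : Pt k m} (ha : a.1 = j) (hb : b.1 = j) (hc : c.1 = j)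
    (hab : a ≠ b) (hbc : b ≠ c) (hac : a ≠ c) :
    ∃ g ∈ Ab M hA j ⊓ oddGen H, Mv M g (Equiv.swap a b * Equiv.swap b c) := by
  obtain ⟨s, hs, hs1⟩ := exists_swap (M := M) (p := a) (q := b) (ha.trans hb.symm)
  obtain ⟨t, ht, ht1⟩ := exists_swap (M := M) (p := b) (q := c) (hb.trans hc.symm)
  have h0 : s * t ∈ H := mul_mem hs ht
  have h1 := hs1.mul hA ht1 ht
  obtain ⟨n, hn⟩ := exists_odd_pow (s * t)
  have h2 := mv_pow hA h0 h1 (4 ^ n)
  rw [pow_four_pow (tc_three hab hbc hac)] at h2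
  have h3 : (s * t) ^ 4 ^ n ∈ H := pow_mem h0 _
  refine ⟨(s * t) ^ 4 ^ n, mem_inf.2 ⟨⟨h3, _, h2, fun r hr => ?_⟩, mem_oddGen h3 hn⟩, h2⟩
  refine tc_ne ?_ ?_ ?_
  · rintro rfl; exact hr ha
  · rintro rfl; exact hr hb
  · rintro rfl; exact hr hc

theorem irr [Finite G] (hm : 2 ≤ m) {j : Fin k} {U : Subgroup G} (hU : U ≤ blk M j) (hne : U ≠ ⊥)
    (hn : Ab M hA j ⊓ oddGen H ≤ normalizer (U : Set G)) : blk M j ≤ U :=
  blk_le_of_tc hA hm hU hne (inf_le_right.trans (oddGen_le H)) hn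
    fun _ _ _ ha hb hc hab hbc hac => exists_odd_tc hA ha hb hc hab hbc hac

theorem nt [Finite G] (hm : 2 ≤ m) {j : Fin k} : ¬ Ab M hA j ⊓ oddGen H ≤ centralizer (blk M j : Set G) := by
  intro hcon
  obtain ⟨y, z, hyz, ⟨hy1, -, -⟩, hz1, -, -⟩ := exists_two hm 0 0 0
  obtain ⟨c, hc⟩ := exists_isC (M := M) (p := (j, 0)) (q := (j, y)) rfl
  have n1 : ((j, 0) : Pt k m) ≠ (j, y) := fun h => hy1 (congrArg Prod.snd h).symm
  have n2 : ((j, y) : Pt k m) ≠ (j, z) := fun h => hyz (congrArg Prod.snd h)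
  have n3 : ((j, 0) : Pt k m) ≠ (j, z) := fun h => hz1 (congrArg Prod.snd h).symm
  obtain ⟨g, hg, hg1⟩ := exists_odd_tc (M := M) hA (j := j) (a := (j, 0)) (b := (j, y)) (c := (j, z)) rfl rfl rfl n1 n2 n3
  have h1 := mem_centralizer_iff.1 (hcon hg) c (pair_mem_blk (j := j) (a := (j, 0)) (b := (j, y)) rfl rfl hc)
  have h2 := hg1 c hc.1 (j, z)
  rw [← h1, mul_inv_cancel_right, tc_c, hc.left n1, hc.zero n3.symm n2.symm] at h2
  exact one_ne_zero h2

theorem dis (hm : 1 ≤ m) {j : Fin k} {p : G} (hp : p ∈ H) :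
    MulAut.conj p • blk M j = blk M j ∨
      Ab M hA j ⊓ oddGen H ≤ centralizer ((MulAut.conj p • blk M j : Subgroup G) : Set G) := by
  obtain ⟨π, hπ, -⟩ := exists_mv (M := M) hp
  have h0 := smul_blk hA hm hp hπ ((j, 0) : Pt k m)
  change MulAut.conj p • blk M j = _ at h0
  rw [h0]
  by_cases hj : (π (j, 0)).1 = j
  · left; rw [hj]
  · right
    exact inf_le_left.trans (ab_cent hA hj)

end SymVB

/-! ### The theorem -/

variable {G : Type u} [Group G] [Finite G] {S : Sylow 2 G} {P V M F : Subgroup G}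

namespace Fv

variable (h : Fv S P V M F)
include h

/-- if `[V, B] ≤ L`, `B` not centralising `L`, then `[V, O²(P)] ≤ L` -/
theorem oddGen_le_trv {B : Subgroup G} (hBS : B ≤ (S : Subgroup G))
    (hBL : ¬ B ≤ centralizer (zl (S : Subgroup G) P : Set G))
    (hc : ∀ v ∈ V, ∀ b ∈ B, NOne.NearFF.c v b ∈ zl (S : Subgroup G) P) : oddGen P ≤ trv h.PL V := by
  have hBt : B ≤ trv h.PL V := by
    intro b hb
    refine ⟨h.SP (hBS hb), fun v hv => ?_⟩
    have h1 := inv_mem (hc v hv b hb)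
    have e : (NOne.NearFF.c v b)⁻¹ = ph v b := by simp only [ph, NOne.NearFF.c_def]; group
    rwa [e] at h1
  have hn : P ≤ normalizer (trv h.PL V : Set G) := by
    refine le_normalizer_of' fun p hp r hr => ⟨mul_mem (mul_mem hp hr.1) (inv_mem hp), fun v hv => ?_⟩
    have h1 : p⁻¹ * v * p ∈ V := by
      have h2 := (mem_normalizer_iff.1 (h.MV (h.PM (inv_mem hp))) v).1 hv
      rwa [inv_inv] at h2
    have h2 := (mem_normalizer_iff.1 (h.PL hp) _).1 (hr.2 _ h1)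
    have e : p * ph (p⁻¹ * v * p) r * p⁻¹ = ph v (p * r * p⁻¹) := by simp only [ph]; group
    rwa [e] at h2
  have hle : trv h.PL V ≤ P := fun r hr => hr.1
  rcases h.par.toIsPar.sup_eq_or_inf_le S hle hn with h1 | h1
  · exact oddGen_le_of_sup hn h1.ge h.SP hle S.isPGroup'
  · exfalso
    refine hBL fun b hb => ?_
    have h2 : b ∈ o2 P := h1 (mem_inf.2 ⟨hBS hb, hBt hb⟩)
    rw [← h.par.inf_centralizer S h.ct] at h2
    exact (mem_inf.1 h2).2

/-- every nontrivial `P`-invariant subgroup of `V` meets `L` -/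
theorem inf_zl_ne {U : Subgroup G} (hU : U ≤ V) (hne : U ≠ ⊥) (hPU : P ≤ normalizer (U : Set G)) :
    U ⊓ zl (S : Subgroup G) P ≠ ⊥ := by
  obtain ⟨x, hx, hx1, hxf⟩ := NOThreeL.AdjTransv.exists_fixed (S := (S : Subgroup G)) (N := U) S.isPGroup' hne
    (fun n hn => by rw [← pow_two]; exact h.sq_V (hU hn))
    (fun s hs n hn => (mem_normalizer_iff.1 (hPU (h.SP hs)) n).1 hn)
  have h1 : x ∈ zc (S : Subgroup G) := MinSimple.VModule.mem_zc.2
    ⟨h.VS (hU hx), fun s hs => mul_inv_eq_iff_eq_mul.1 (hxf s hs), h.sq_V (hU hx)⟩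
  intro h2
  have h3 : x ∈ U ⊓ zl (S : Subgroup G) P := mem_inf.2 ⟨hx, MinSimple.VModule.zc_le_zl _ _ h1⟩
  rw [h2, mem_bot] at h3
  exact hx1 h3

theorem block_false (ht : oddGen P ≤ trv h.PL V) {D N : Subgroup G} (hD : D ≤ oddGen P)
    (hNL : N ≤ zl (S : Subgroup G) P) (hgen : zl (S : Subgroup G) P ≤ ⨆ p : P, MulAut.conj (p : G) • N)
    (hirr : ∀ U ≤ N, U ≠ ⊥ → D ≤ normalizer (U : Set G) → N ≤ U) (hDN : D ≤ normalizer (N : Set G))
    (hnt : ¬ D ≤ centralizer (N : Set G))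
    (hdis : ∀ p ∈ P, MulAut.conj p • N = N ∨ D ≤ centralizer ((MulAut.conj p • N : Subgroup G) : Set G)) :
    False := by
  refine h.ne (pbN (Q := o2 P) h.toHyp.comm (fun v hv => h.sq_V hv) (h.PM.trans h.MV) h.PL h.LV (o2_le P)
    ?_ h.t6 (hD.trans (oddGen_le P)) hNL hgen hirr hDN hnt hdis ?_ (fun U hU hne hn => h.inf_zl_ne hU hne hn)
    fun A hA' => h.noOff A ((hA'.trans h.PM).trans h.MV))
  · rw [← h.par.inf_centralizer S h.ct]
    exact inf_le_right
  · rw [commutator_le]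
    intro v hv d hd
    have h1 := inv_mem ((ht (hD hd)).2 v hv)
    have e : (ph v d)⁻¹ = ⁅v, d⁆ := by rw [commutatorElement_def]; simp only [ph]; group
    rwa [e] at h1

theorem nat_false' (ht : oddGen P ≤ trv h.PL V) {K : Type} [Field K] {k : ℕ} (j : Fin k)
    (MM : NatKM K (S : Subgroup G) P (zl (S : Subgroup G) P) ⊥ k)
    (hA : Half.Amb (S : Subgroup G) P (zl (S : Subgroup G) P)) : False := by
  have h1 : Half.NatA.fac MM.toNatK {j} ≤ zl (S : Subgroup G) P := fun v hv => hv.1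
  have h2 := NatVB.gen (M := MM) hA j
  have h3 : ∀ U ≤ Half.NatA.fac MM.toNatK {j}, U ≠ ⊥ →
      NatD.oneG MM hA.HV j ⊓ oddGen P ≤ normalizer (U : Set G) → Half.NatA.fac MM.toNatK {j} ≤ U :=
    fun U hU hne hn => NatVB.irr (M := MM) (hPW := hA.HV) (j := j) hU hne hn
  have h4 : NatD.oneG MM hA.HV j ⊓ oddGen P ≤ normalizer (Half.NatA.fac MM.toNatK {j} : Set G) :=
    inf_le_left.trans (NatD.oneG_norm (M := MM) (hPW := hA.HV) (j := j))
  have h5 := NatVB.nt (M := MM) (hPW := hA.HV) (j := j)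
  have h6 := fun p (hp : p ∈ P) => NatVB.dis (M := MM) (hPW := hA.HV) (j := j) hA hp
  exact h.block_false ht inf_le_right h1 h2 h3 h4 h5 h6

theorem nat_false (ht : oddGen P ≤ trv h.PL V) {K : Type} [Field K] {k : ℕ} (hk : 0 < k)
    (MM : NatKM K (S : Subgroup G) P (zl (S : Subgroup G) P) ⊥ k) : False :=
  h.nat_false' ht ⟨0, hk⟩ MM (Half.amb_of_loc h.ct S h.par.isLoc)

theorem sym_false (ht : oddGen P ≤ trv h.PL V) {k m : ℕ} (hk : 0 < k) (hm : 2 ≤ m)
    (MM : SymK (S : Subgroup G) P (zl (S : Subgroup G) P) ⊥ k m) : False := by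
  have hA : Half.Amb (S : Subgroup G) P (zl (S : Subgroup G) P) := Half.amb_of_loc h.ct S h.par.isLoc
  have hm1 : 1 ≤ m := by omega
  exact h.block_false ht (D := TyS.Ab MM hA ⟨0, hk⟩ ⊓ oddGen P) (N := TyS.blk MM ⟨0, hk⟩)
    inf_le_right (fun v hv => hv.1) (TyS.gen hA hm1 _) (fun U hU hne hn => SymVB.irr hA hm hU hne hn)
    (inf_le_left.trans (TyS.ab_norm hA _)) (SymVB.nt hA hm) fun p hp => SymVB.dis hA hm1 hp

/-- **`[V, O²(P)] ≤ L` is impossible.** -/
theorem not_oddGen_le (ht : oddGen P ≤ trv h.PL V) : False := by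
  have hcc := h.concl
  unfold ConclM at hcc
  rw [h.cvb] at hcc
  rcases hcc with ⟨K, _, _, _, k, hk, ⟨MM⟩⟩ | ⟨k, m, hk, hm, ⟨MM⟩⟩
  · exact h.nat_false ht hk MM
  · exact h.sym_false ht hk hm MM.toSymK

/-- **(A2)** -/
theorem not_VB {B : Subgroup G} (hBS : B ≤ (S : Subgroup G))
    (hBL : ¬ B ≤ centralizer (zl (S : Subgroup G) P : Set G)) :
    ¬ ∀ v ∈ V, ∀ b ∈ B, NOne.NearFF.c v b ∈ zl (S : Subgroup G) P :=
  fun hc => h.not_oddGen_le (h.oddGen_le_trv hBS hBL hc)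

end Fv

end Cfsg.Agent.Omega.NO3S.SFive

end
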